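import Cfsg.Agent.H550.RV.NoMinAb_m3
import Cfsg.Agent.H553.OddHall_m3
import Cfsg.Agent.H167.RV.Suz_m3
import Cfsg.Agent.H553.GoodAsm_m3
import Cfsg.Agent.H971.RV.Lie_m3
import Cfsg.Agent.H750.RM.Eig_m3
import Cfsg.Agent.H795.ExcRow
import Cfsg.Agent.ChevFast.E6
import Cfsg.Agent.ChevFast.E7
import Cfsg.Agent.ChevFast.E8
import Cfsg.Agent.ChevFast.Lin
import Cfsg.Agent.Lib.FinFast
import Cfsg.Agent.H129.MulFast
import Cfsg.Agent.H556.HallSURow_m3
import Cfsg.Agent.H630.ExcCent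
import Cfsg.Agent.H129.TorusUntw
import Cfsg.Agent.H125.ReeFull
import Cfsg.Agent.Lib.CoprimeStab
import Cfsg.Agent.OddOrderLocal.GLTwoOdd
import Cfsg.Agent.FastGrp
import Cfsg.Agent.Prune
set_option linter.all false

section
prune_inst 0x7ffcfcf8abb83ddfffff7e7ffef5dffe19b0bfffe6dff973ffe063ff0b9f0b080bc5fbaf6de010fe0ed6e0b410b87b53ff7eeabfe86bdc7ffffd5ff41ffbee1ff5f7350851949c240fb80fff83f07f8e7f3fffffffffffffffffffffffffffbeffffffffffff

-- part: H558/RV/RowsTwo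
section
set_option linter.all false
open scoped Cfsg.Agent.FastGrp

/-!
# `FTwo` for `PSL`, `PSp`, `PSU` (helper558)

As in `Rows`, with the prime `2` in the statement.
-/

set_option autoImplicit false

namespace Cfsg.Agent.H558.RV

open Subgroup Cfsg Cfsg.Agent.H571.RV Cfsg.Agent.H553.ExtRed Cfsg.Agent.H959.RV Cfsg.Agent.H988.CPi

universe u

/-- the elements of odd order form an abelian normal 2-complement -/
theorem ftwo_of_oddClosed {π : Set ℕ} {S : Type*} [Group S] [Finite S] {H : Subgroup S} (hH : IsPiHall π H)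
    (hcl : OddClosed H) (hab : ∀ x ∈ H, ∀ y ∈ H, Odd (orderOf x) → Odd (orderOf y) → x * y = y * x) :
    FTwo π S := by
  let A : Subgroup S :=
    { carrier := {x | x ∈ H ∧ Odd (orderOf x)}
      one_mem' := ⟨H.one_mem, by rw [orderOf_one]; exact odd_one⟩
      mul_mem' := by
        rintro x y ⟨hx, hx1⟩ ⟨hy, hy1⟩
        refine ⟨H.mul_mem hx hy, ?_⟩
        have h1 := hcl ⟨x, hx⟩ ⟨y, hy⟩ (by rwa [Subgroup.orderOf_mk]) (by rwa [Subgroup.orderOf_mk])
        rw [← Subgroup.orderOf_coe] at h1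
        exact h1
      inv_mem' := by
        rintro x ⟨hx, hx1⟩
        exact ⟨H.inv_mem hx, by rwa [orderOf_inv]⟩ }
  have hAH : A ≤ H := fun x hx => hx.1
  have hcj : ∀ g x : S, orderOf (g * x * g⁻¹) = orderOf x := fun g x =>
    orderOf_injective (MulAut.conj g).toMonoidHom (MulAut.conj g).injective x
  refine ⟨H, A, hH, hAH, ?_, fun a ha b hb => hab a ha.1 b hb.1 ha.2 hb.2, ?_, ?_⟩
  · intro g hg
    rw [Subgroup.mem_normalizer_iff]
    intro x
    constructor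
    · rintro ⟨hx, hx1⟩
      exact ⟨H.mul_mem (H.mul_mem hg hx) (H.inv_mem hg), by rw [hcj]; exact hx1⟩
    · rintro ⟨hx, hx1⟩
      refine ⟨?_, by rwa [hcj] at hx1⟩
      have := H.mul_mem (H.mul_mem (H.inv_mem hg) hx) hg
      simpa [mul_assoc] using this
  · intro hd
    have : Fact (Nat.Prime 2) := ⟨Nat.prime_two⟩
    obtain ⟨x, hx⟩ := exists_prime_orderOf_dvd_card' (G := A) 2 hd
    have h1 := x.2.2
    rw [Subgroup.orderOf_coe, hx] at h1
    exact absurd h1 (by decide)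
  · intro p hp hd
    have hn : (A.subgroupOf H).Normal := by
      refine ⟨fun x hx g => ?_⟩
      rw [Subgroup.mem_subgroupOf] at hx ⊢
      exact ⟨(g * x * g⁻¹ : H).2, by
        show Odd (orderOf ((g : S) * x * (g : S)⁻¹))
        rw [hcj]; exact hx.2⟩
    have hq : p ∣ Nat.card (H ⧸ A.subgroupOf H) := hd
    have : Fact p.Prime := ⟨hp⟩
    obtain ⟨y, hy⟩ := exists_prime_orderOf_dvd_card' (G := H ⧸ A.subgroupOf H) p hq
    obtain ⟨x, rfl⟩ := QuotientGroup.mk_surjective y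
    obtain ⟨k, m, hm, hkm⟩ := Nat.exists_eq_two_pow_mul_odd (orderOf_pos x).ne'
    have h2 : x ^ 2 ^ k ∈ A.subgroupOf H := by
      rw [Subgroup.mem_subgroupOf]
      refine ⟨(x ^ 2 ^ k).2, ?_⟩
      rw [Subgroup.orderOf_coe]
      exact odd_orderOf_of_pow hm (by rw [← pow_mul, ← hkm, pow_orderOf_eq_one])
    have h3 : (x : H ⧸ A.subgroupOf H) ^ 2 ^ k = 1 := by
      rw [← QuotientGroup.mk_pow]
      exact (QuotientGroup.eq_one_iff _).mpr h2
    have h4 := orderOf_dvd_of_pow_eq_one h3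
    rw [hy] at h4
    exact (Nat.prime_dvd_prime_iff_eq hp Nat.prime_two).1 (hp.dvd_of_dvd_pow h4)

/-- `FTwo` from a central extension -/
theorem ftwo_of_lift {G S : Type*} [Group G] [Finite G] [Group S] [Finite S] {π : Set ℕ}
    (hE : IsEPiGroup π S) (f : G →* S) (hf : Function.Surjective f) (hker : f.ker ≤ Subgroup.center G)
    (hmain : ∀ H : Subgroup G, IsPiHall π H → OddClosed H ∧
      ∀ s ∈ H, ∀ t ∈ H, Odd (orderOf s) → Odd (orderOf t) → s * t = t * s) : FTwo π S := by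
  obtain ⟨H, hH⟩ := Cfsg.Agent.H964.RV3.exists_hall hE f hf hker
  obtain ⟨hcl, hab⟩ := hmain H hH
  have hM : IsPiHall π (H.map f) := by
    refine ⟨fun p hp hd => hH.1 p hp (hd.trans (card_map_dvd H f)), fun p hp hpπ hd => ?_⟩
    exact hH.2 p hp hpπ (hd.trans (index_map_dvd _ hf))
  refine ftwo_of_oddClosed hM ?_ ?_
  · intro x y hx hy
    rw [← Subgroup.orderOf_coe] at hx hy ⊢
    obtain ⟨x', hx'H, hx', hx'o⟩ := Cfsg.Agent.H964.RV3.exists_odd_lift f x.2 hx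
    obtain ⟨y', hy'H, hy', hy'o⟩ := Cfsg.Agent.H964.RV3.exists_odd_lift f y.2 hy
    rw [Subgroup.coe_mul, ← hx', ← hy', ← map_mul]
    refine Odd.of_dvd_nat ?_ (orderOf_map_dvd f _)
    have h1 := hcl ⟨x', hx'H⟩ ⟨y', hy'H⟩ (by rwa [Subgroup.orderOf_mk]) (by rwa [Subgroup.orderOf_mk])
    rw [← Subgroup.orderOf_coe] at h1
    exact h1
  · intro x hx y hy hxo hyo
    obtain ⟨x', hx'H, rfl, hx'o⟩ := Cfsg.Agent.H964.RV3.exists_odd_lift f hx hxo
    obtain ⟨y', hy'H, rfl, hy'o⟩ := Cfsg.Agent.H964.RV3.exists_odd_lift f hy hyo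
    rw [← map_mul, ← map_mul, hab x' hx'H y' hy'H hx'o hy'o]

variable {π : Set ℕ} {S : Type u} [Group S] [Finite S]

theorem ftwo_of_hasFrm (h2π : 2 ∈ π) (h3π : 3 ∉ π) (hE : IsEPiGroup π S) {p : ℕ} (hp : p.Prime) (hpπ : p ∉ π)
    (h : HasFrm S p) : FTwo π S := by
  obtain ⟨K, iK, iK', ι, iι, iι', G, iG, iGf, ρ, f, hch, hinj, hfr, hf, hker⟩ := h
  exact ftwo_of_lift hE f hf hker fun H hH => hfr.closed hinj hp h2π h3π hpπ hH.1 hH.2

theorem ftwo_psl (h2π : 2 ∈ π) (h3π : 3 ∉ π) (hE : IsEPiGroup π S) (p : ℕ) (hp : p.Prime) (hpπ : p ∉ π)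
    (h : IsPSLChar p S) : FTwo π S := by
  obtain ⟨F, iF, iFt, hc, n, hn, -, ⟨e⟩⟩ := h
  exact ftwo_of_hasFrm h2π h3π hE hp hpπ (hasFrm_PSL hp (fun h => hpπ (h ▸ h2π)) e)

theorem ftwo_psp (h2π : 2 ∈ π) (h3π : 3 ∉ π) (hE : IsEPiGroup π S) (p : ℕ) (hp : p.Prime) (hpπ : p ∉ π)
    (h : IsPSpChar p S) : FTwo π S := by
  obtain ⟨F, iF, iFt, hc, m, hm, -, ⟨e⟩⟩ := h
  exact ftwo_of_hasFrm h2π h3π hE hp hpπ (hasFrm_PSp hp (fun h => hpπ (h ▸ h2π)) e)

theorem ftwo_psu (h2π : 2 ∈ π) (h3π : 3 ∉ π) (hE : IsEPiGroup π S) (p : ℕ) (hp : p.Prime) (hpπ : p ∉ π)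
    (h : IsPSUChar p S) : FTwo π S := by
  obtain ⟨F, iF, iFt, hc, n, q, hF, hn, -, ⟨e⟩⟩ := h
  exact ftwo_of_hasFrm h2π h3π hE hp hpπ (hasFrm_PSU hp (fun h => hpπ (h ▸ h2π)) hF e)

end Cfsg.Agent.H558.RV
end

-- part: H167/RM/Tor_mg
section
prune_inst 0x102045400c22000000000000800002043400009000200000580001400906194200000100448019000000a2800000000000540050400000000a00000000000000002a52040200a904640000800000000000000000000000000000000000041000000000000
set_option linter.all false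
open scoped Cfsg.Agent.FastGrp

-- part: H167/RV/ChkSF4
section
/-!
# TEAM RV: the combinatorial checks mod `3`, `5`, `7`, `F4` (helper167)
-/

set_option autoImplicit false

namespace Cfsg.Agent.H167.RV

open Cfsg Cfsg.Lie Cfsg.Lie.ChevalleyDatum Cfsg.Agent.ChevalleyStructure Cfsg.Agent.Nodes.RGDChev
open Cfsg.Agent.ChevalleyStructure.CoxeterGeom Cfsg.Agent.ChevalleyStructure.CoxeterGeomTypes
open Cfsg.Agent.H167.EX

def NF4 : List (List ℤ) := [[2, -1, 0, 0], [-1, 2, -2, 0], [0, -1, 2, -1], [0, 0, -1, 2]]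

theorem NF4_eq : NF4 = List.ofFn fun j => List.ofFn (cartanOf chevF4 4 j) := by decide +kernel

theorem chkF4_three : chkT ((List.range chevF4.nroots).map (entry chevF4 3 NF4 (List.range chevF4.nroots) 4)) = true := by
  decide +kernel

theorem ortF4 : Ort chevF4 (fun b => (List.range chevF4.nroots).getD b 0) := ort_id oneF4

theorem chkSF4_three : ChkS chevF4 3 (fun (j : Fin 4) b => pairing (cartanOf chevF4 4) j (vec chevF4 4 b))
    (fun b => (List.range chevF4.nroots).getD b 0) := chkS_of (by norm_num) _ NF4_eq chkF4_three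

end Cfsg.Agent.H167.RV
end

-- part: H167/RM/Tor
section
/-!
# S3849: toral `s`-subgroups controlling the groups they normalise, exceptional groups (helper167)

`ToralB s p G` : an `s`-subgroup `Y ≠ 1` in a commutative subgroup `T₀` of `G` such that all `t`-subgroups of `G`
normalised by `Y` lie in `T₀`, `t ≠ 2, s, p`. `ToralB.cen` : `Y` centralises the abelian subgroups of order prime to
`2 s p` which it normalises.
-/

set_option autoImplicit false
set_option linter.unusedSectionVars false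

namespace Cfsg.Agent.H167.RM

open CoxeterSystem Cfsg Cfsg.Lie Cfsg.Lie.ChevalleyDatum
open Cfsg.Agent.ChevalleyStructure Cfsg.Agent.ChevalleyStructure.Elts Cfsg.Agent.ChevalleyStructure.CoxeterGeom
  Cfsg.Agent.ChevalleyStructure.CoxeterGeomTypes Cfsg.Agent.ChevalleyStructure.NPerm
open Cfsg.Agent.Tits.Roots Cfsg.Agent.Tits.Core Cfsg.Agent.Nodes Cfsg.Agent.Nodes.Reps Cfsg.Agent.Nodes.BNOf
  Cfsg.Agent.Nodes.RGDChev Cfsg.Agent.Nodes.Bruhat
open Cfsg.Agent.KFacts.RgdField Cfsg.Agent.KFacts.RgdChevCoord Cfsg.Agent.BpExc.TorCent Cfsg.Agent.BpExc.TorChev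
open Cfsg.Agent.GpExc.Field Cfsg.Agent.BpExc.Tow Cfsg.Agent.BpExc.TowChev Cfsg.Agent.BpExc.Fr
  Cfsg.Agent.BpExc.LangFr Cfsg.Agent.H129.TorusChar Cfsg.Agent.H129.TorusMain Cfsg.Agent.H123.ExcZ
open Cfsg.Agent.BpExc Cfsg.Agent.H795.LangT Cfsg.Agent.H795.Core Cfsg.Agent.H795.NotAbT
open Cfsg.Agent.H572.ExcA Cfsg.Agent.H572.ExcB Cfsg.Agent.H572.ExcC Cfsg.Agent.H572.ExcD Cfsg.Agent.H572.LatQ
  Cfsg.Agent.H572.LatForm Cfsg.Agent.H572.ExcE Cfsg.Agent.H572.ExcF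
open Cfsg.Agent.H565.CharCnt Cfsg.Agent.H167.RV
open Cfsg.Agent.BpExc.RowsUntw Cfsg.Agent.H720.TwFr Cfsg.Agent.H795.NotAbRows
open Cfsg.Agent.H574.ExcE8Five (th th_mat dot dot_apply cvec dot_cvec_th fv gv)
open Subgroup

universe u v

/-- toral `s`-subgroups controlling the groups they normalise -/
def ToralB (s p : ℕ) (G : Type*) [Group G] : Prop :=
  ∃ T₀ Y : Subgroup G, (∀ a ∈ T₀, ∀ b ∈ T₀, a * b = b * a) ∧ Y ≤ T₀ ∧ Y ≠ ⊥ ∧ IsPGroup s Y ∧
    ∀ t, t.Prime → t ≠ 2 → t ≠ s → t ≠ p → ∀ R : Subgroup G, IsPGroup t R → (∀ y ∈ Y, ∀ x ∈ R, y * x * y⁻¹ ∈ R) →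
      R ≤ T₀

theorem ToralB.of_equiv {s p : ℕ} {G : Type u} [Group G] {G' : Type v} [Group G'] (e : G ≃* G')
    (h : ToralB s p G') : ToralB s p G := by
  obtain ⟨T₀, Y, h1, h2, h3, h4, h5⟩ := h
  refine ⟨T₀.comap e.toMonoidHom, Y.comap e.toMonoidHom, ?_, Subgroup.comap_mono h2, ?_, ?_, ?_⟩
  · intro a ha b hb
    apply e.injective
    rw [map_mul, map_mul]
    exact h1 _ ha _ hb
  · intro h
    apply h3
    rw [eq_bot_iff]
    intro y hy
    have h6 : e.symm y ∈ Y.comap e.toMonoidHom := by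
      show e (e.symm y) ∈ Y
      rw [e.apply_symm_apply]
      exact hy
    rw [h, mem_bot] at h6
    rw [mem_bot, ← e.apply_symm_apply y, h6, map_one]
  · exact h4.comap_of_injective e.toMonoidHom e.injective
  · intro t ht ht2 hts htp R hR hn x hx
    refine h5 t ht ht2 hts htp (R.map e.toMonoidHom) (hR.map _) ?_ ⟨x, hx, rfl⟩
    rintro y hy _ ⟨z, hz, rfl⟩
    have h6 : e.symm y ∈ Y.comap e.toMonoidHom := by
      show e (e.symm y) ∈ Y
      rw [e.apply_symm_apply]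
      exact hy
    refine ⟨_, hn _ h6 z hz, ?_⟩
    show e (e.symm y * z * (e.symm y)⁻¹) = y * e z * y⁻¹
    rw [map_mul, map_mul, map_inv, e.apply_symm_apply]

/-- **`Y` centralises the abelian subgroups of order prime to `2 s p` which it normalises.** -/
theorem ToralB.cen {s p : ℕ} {G : Type u} [Group G] [Finite G] (h : ToralB s p G) :
    ∃ B : Subgroup G, IsPGroup s B ∧ B ≠ ⊥ ∧ ∀ A : Subgroup G, (∀ a ∈ A, ∀ b ∈ A, a * b = b * a) →
      (∀ t, t.Prime → t ∣ Nat.card A → t ≠ 2 ∧ t ≠ s ∧ t ≠ p) → B ≤ normalizer (A : Set G) →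
      ∀ b ∈ B, ∀ a ∈ A, b * a = a * b := by
  obtain ⟨T₀, Y, h1, h2, h3, h4, h5⟩ := h
  refine ⟨Y, h4, h3, fun A hab hAt hn b hb a ha => ?_⟩
  have hAT : A ≤ T₀ := by
    have h6 : (T₀.subgroupOf A).index = 1 := by
      rw [Nat.eq_one_iff_not_exists_prime_dvd]
      intro t ht hdvd
      have hft : Fact t.Prime := ⟨ht⟩
      have htA : t ∣ Nat.card A := hdvd.trans (Subgroup.index_dvd_card _)
      obtain ⟨ht2, hts, htp⟩ := hAt t ht htA
      -- the `t`-part of `A`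
      let R : Subgroup G :=
        { carrier := {x | x ∈ A ∧ ∃ n, x ^ t ^ n = 1}
          one_mem' := ⟨one_mem _, 0, one_pow _⟩
          mul_mem' := by
            rintro x y ⟨hx, n, hxn⟩ ⟨hy, m, hym⟩
            refine ⟨mul_mem hx hy, n + m, ?_⟩
            have hc : Commute x y := hab x hx y hy
            rw [hc.mul_pow, pow_add, pow_mul, hxn, one_pow, mul_comm (t ^ n), pow_mul, hym, one_pow, one_mul]
          inv_mem' := by
            rintro x ⟨hx, n, hxn⟩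
            exact ⟨inv_mem hx, n, by rw [inv_pow, hxn, inv_one]⟩ }
      have hR : R ≤ T₀ := by
        refine h5 t ht ht2 hts htp R ?_ ?_
        · rintro ⟨x, hx, n, hxn⟩
          exact ⟨n, Subtype.ext hxn⟩
        · rintro y hy x ⟨hx, n, hxn⟩
          exact ⟨(mem_normalizer_iff.1 (hn hy) x).1 hx, n, by rw [conj_pow, hxn, mul_one, mul_inv_cancel]⟩
      obtain ⟨P⟩ : Nonempty (Sylow t A) := inferInstance
      have hP : (P : Subgroup A) ≤ T₀.subgroupOf A := by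
        intro x hx
        obtain ⟨n, hn⟩ := P.isPGroup' ⟨x, hx⟩
        exact hR ⟨x.2, n, congrArg (fun z : P => ((z : A) : G)) hn⟩
      exact P.not_dvd_index (hdvd.trans (Subgroup.index_dvd_of_le hP))
    rw [Subgroup.index_eq_one, Subgroup.subgroupOf_eq_top] at h6
    exact h6
  exact h1 b (h2 hb) a (hAT ha)

section Emb

variable {D : ChevalleyDatum} {l : ℕ} {M : CoxeterMatrix (Fin l)} {hp : IsType D l M}
  {k : Type u} [Field k] [IsAlgClosed k] {r e : ℕ} [Fact r.Prime] [CharP k r]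
  {G : Type v} [Group G] {κ : G →* ↥(D.group k)} {τ : MulAut ↥(D.group k)}
  {θ : (Fin l → ℤ) ≃+ (Fin l → ℤ)}

theorem toral_emb [Finite G] (hk : LocFin k) (h : Emb hp r e κ τ θ) {s : ℕ} (hs : s.Prime) (hs2 : s ≠ 2) {ζ : k}
    (hζ : IsPrimitiveRoot ζ s) {ι : Type*} {ex : ι → ℕ → ℤ} {g : ℕ → ℕ} (K : ChkS D s ex g) (O : Ort D g)
    (h0 : 0 < D.nroots) (a : ι → G) (ha : ∀ j, a j ∈ TG κ)
    (hax : ∀ j b, b < D.nroots → cX hp (κ (a j)) (vec D l b) = ζ ^ ex j b) : ToralB s r G := by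
  have has : ∀ j, a j ^ s = 1 := by
    intro j
    apply h.inj
    have hj : κ (a j) ∈ TT D k := ha j
    rw [map_pow κ (a j) s, map_one]
    refine cX_inj hp (pow_mem hj s) (one_mem _) fun i => ?_
    rw [cX_pow hp hj, cX_one, ← vec_simple hp i, hax j _ (simple_lt hp.inList (lt_rank hp i)), ← zpow_natCast,
      ← zpow_mul, mul_comm, zpow_mul, zpow_natCast, hζ.pow_eq_one, one_zpow]
  refine ⟨TG κ, TY κ h.inj hp s, fun x hx y hy => ?_, fun x hx => hx.1, ?_, ?_, ?_⟩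
  · apply h.inj
    rw [map_mul, map_mul]
    exact TT_comm hp _ hx _ hy
  · intro hbot
    obtain ⟨j, hj⟩ := K.ne 0 h0
    have h1 : a j ∈ TY κ h.inj hp s := ⟨ha j, has j⟩
    rw [hbot, mem_bot] at h1
    have h2 := hax j 0 h0
    rw [h1, map_one, cX_one] at h2
    have h3 := zpow_prim hs hζ (h2.symm.trans (zpow_zero ζ).symm)
    rw [sub_zero] at h3
    exact hj h3
  · rintro ⟨x, hx, hx1⟩
    exact ⟨1, Subtype.ext (by rw [pow_one]; exact hx1)⟩
  · intro t ht ht2 hts htr R hR hRn x hx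
    refine torA hp r hk hs hs2 hζ K O h0 κ h.inj (Y := TY κ h.inj hp s) (fun y hy => hy.1) (fun y hy => hy.2) a
      (fun j => ⟨ha j, has j⟩) (fun j b hb => ?_) ht ht2 hts htr hR hRn x hx
    rw [← cX_vec hp (ha j) hb]
    exact hax j b hb

theorem toral_full [Finite G] (hk : LocFin k) (h : Emb hp r e κ τ θ) {d : ℕ} {Bi : Fin l → Fin l → ℤ}
    (hB : InvC D l d Bi) (hd : d ≠ 0) {ε : ℤ} (hθ : ∀ x, θ x = ε • x)
    (hcm : ∀ a b, τ a = a → τ b = b → ∃ x, κ x = a * b * a⁻¹ * b⁻¹) {s : ℕ} [hs : Fact s.Prime] (hs2 : s ≠ 2)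
    (hsr : s ≠ r) (hq : (s : ℤ) ∣ (r : ℤ) ^ e - ε) {g : ℕ → ℕ}
    (K : ChkS D s (fun (j : Fin l) b => pairing (cartanOf D l) j (vec D l b)) g) (O : Ort D g)
    (h0 : 0 < D.nroots) : ToralB s r G := by
  obtain ⟨ζ, hζ⟩ := exists_zeta_pow (k := k) (r := r) (s := s) (a := 1) hsr
  rw [pow_one] at hζ
  have h1 := fun j => exists_cor_simple h hB hd hθ hcm hζ.pow_eq_one hs.out.ne_zero hq hk j
  choose a ha hax using h1
  exact toral_emb hk h hs.out hs2 hζ K O h0 a ha (fun j b _ => hax j _)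

theorem toral_fun [Finite G] (hk : LocFin k) (h : Emb hp r e κ τ θ) {d : ℕ} {Bi : Fin l → Fin l → ℤ}
    (hB : InvC D l d Bi) (hd : d ≠ 0) (hmem : ∀ y, τ y = y → ∃ x, κ x = y) {s : ℕ} [hs : Fact s.Prime] (hs2 : s ≠ 2)
    (hsr : s ≠ r) {m : ℕ} (Nf : Fin m → Fin l → ℤ)
    (hN : ∀ j x, (s : ℤ) ∣ (∑ i, Nf j i * (θ x) i) - (r : ℤ) ^ e * ∑ i, Nf j i * x i) {g : ℕ → ℕ}
    (K : ChkS D s (fun j b => ∑ i, Nf j i * vec D l b i) g) (O : Ort D g)
    (h0 : 0 < D.nroots) : ToralB s r G := by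
  obtain ⟨ζ, hζ⟩ := exists_zeta_pow (k := k) (r := r) (s := s) (a := 1) hsr
  rw [pow_one] at hζ
  have hNz : NeZero s := ⟨hs.out.ne_zero⟩
  have h1 : ∀ j, ∃ a ∈ TG κ, ∀ x, cX hp (κ a) x = ζ ^ (∑ i, Nf j i * x i) := by
    intro j
    let c : (Fin l → ℤ) →+ ZMod s :=
      { toFun := fun x => ((∑ i, Nf j i * x i : ℤ) : ZMod s)
        map_zero' := by simp only [_root_.Pi.zero_apply, _root_.MulZeroClass.mul_zero, _root_.Finset.sum_const_zero, _root_.Int.cast_zero]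
        map_add' := fun x z => by
          rw [← Int.cast_add, ← Finset.sum_add_distrib]
          congr 1
          exact Finset.sum_congr rfl fun i _ => by rw [Pi.add_apply, mul_add] }
    obtain ⟨t, ht, hct, htN, hτt⟩ := exists_tor_fix hp hB hd h.frob h.fr hζ c (fun x => by
      show ((∑ i, Nf j i * (θ x) i : ℤ) : ZMod s) = ((r ^ e : ℕ) : ZMod s) * ((∑ i, Nf j i * x i : ℤ) : ZMod s)
      have h3 := (ZMod.intCast_zmod_eq_zero_iff_dvd _ _).2 (hN j x)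
      push_cast at h3 ⊢
      exact sub_eq_zero.1 h3)
    obtain ⟨x, rfl⟩ := hmem t hτt
    refine ⟨x, ht, fun z => ?_⟩
    rw [hct]
    exact (zpow_eq_pow_val hζ _)
  choose a ha hax using h1
  exact toral_emb hk h hs.out hs2 hζ K O h0 a ha (fun j b _ => hax j _)

theorem toral_untw (hp : IsType D l M) {F : Type u} [Field F] [Fintype F] (X : Dat D l) {s : ℕ} [hs : Fact s.Prime]
    (hs2 : s ≠ 2) (hsF : (s : F) ≠ 0) (w : M.Group) {ε : ℤ}
    (hε : ∀ x, rep M.toCoxeterSystem hp.isCartan w x = ε • x) (hq : (s : ℤ) ∣ (Fintype.card F : ℤ) - ε)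
    {g : ℕ → ℕ} (K : ChkS D s (fun (j : Fin l) b => pairing (cartanOf D l) j (vec D l b)) g) (O : Ort D g)
    (h0 : 0 < D.nroots) {p : ℕ} [CharP F p] : ToralB s p ↥(D.group F) := by
  obtain ⟨r, e, hr, hrF, hrk, he, hqF, hk⟩ := Cfsg.Agent.H129.TorusUntw.exists_closure (F := F) rfl
  have hrp : p = r := CharP.eq F ‹_› hrF
  subst hrp
  have hsr : s ≠ p := by
    rintro rfl
    exact hsF (CharP.cast_eq_zero F s)
  have hGf : Finite ↥(D.group F) := inferInstance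
  have hset := setup_untw' hp X hk he hqF
  obtain ⟨κ, τ, z, hEm, hκ, hb⟩ := _root_.Cfsg.Agent.H572.ExcD.exists_emb (hp := hp) hk hset.1 he hset.2.1 hset.2.2.1 hset.2.2.2.1
    hset.2.2.2.2.1 w
  have hθ : ∀ x, ((AddEquiv.refl (Fin l → ℤ)).trans (repAut M.toCoxeterSystem hp.isCartan w)) x = ε • x := hε
  have hcm' := fun a b => comm_of_comm (κ := κ) (τ := τ) hκ hb hset.2.2.2.2.2 a b
  refine toral_full hk hEm X.hB X.hd0 hθ hcm' hs2 hsr ?_ K O h0
  rw [hqF] at hq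
  push_cast at hq ⊢
  exact hq

end Emb

section Untw

variable {F : Type u} [Field F] [Fintype F] {p : ℕ} [CharP F p]

/-- `F₄(q)`, `s = 3` -/
theorem toral_f4_three (h3F : (3 : F) ≠ 0) : ToralB 3 p ↥(chevF4.group F) := by
  have : Fact (Nat.Prime 3) := ⟨Nat.prime_three⟩
  obtain ⟨ε, hε, hq⟩ := exists_eps _ (three_cases h3F)
  obtain ⟨w, hw⟩ := exists_w f4T negF4 hε
  exact toral_untw f4T datF4 (s := 3) (by norm_num) (by exact_mod_cast h3F) w hw hq chkSF4_three ortF4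
    (by decide +kernel)

/-- `E₇(q)`, `s = 3` -/
theorem toral_e7_three (h3F : (3 : F) ≠ 0) : ToralB 3 p ↥(chevE7.group F) := by
  have : Fact (Nat.Prime 3) := ⟨Nat.prime_three⟩
  obtain ⟨ε, hε, hq⟩ := exists_eps _ (three_cases h3F)
  obtain ⟨w, hw⟩ := exists_w e7T negE7 hε
  exact toral_untw e7T datE7 (s := 3) (by norm_num) (by exact_mod_cast h3F) w hw hq chkSE7_three ortE7
    (by decide +kernel)

/-- `E₈(q)`, `s = 3` -/
theorem toral_e8_three (h3F : (3 : F) ≠ 0) : ToralB 3 p ↥(chevE8.group F) := by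
  have : Fact (Nat.Prime 3) := ⟨Nat.prime_three⟩
  obtain ⟨ε, hε, hq⟩ := exists_eps _ (three_cases h3F)
  obtain ⟨w, hw⟩ := exists_w e8T negE8 hε
  exact toral_untw e8T datE8 (s := 3) (by norm_num) (by exact_mod_cast h3F) w hw hq chkSE8_three ortE8
    (by decide +kernel)

/-- `E₈(q)`, `s = 5`, `5 ∣ q² - 1` -/
theorem toral_e8_five (h5F : (5 : F) ≠ 0)
    (hq : (5 : ℤ) ∣ (Fintype.card F : ℤ) - 1 ∨ (5 : ℤ) ∣ (Fintype.card F : ℤ) - (-1 : ℤ)) :
    ToralB 5 p ↥(chevE8.group F) := by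
  have : Fact (Nat.Prime 5) := ⟨Nat.prime_five⟩
  obtain ⟨ε, hε, hq'⟩ := exists_eps (s := 5) _ hq
  obtain ⟨w, hw⟩ := exists_w e8T negE8 hε
  exact toral_untw e8T datE8 (s := 5) (by norm_num) (by exact_mod_cast h5F) w hw hq' chkSE8_five ortE8
    (by decide +kernel)

/-- `E₆(q)`, `s = 3`, `3 ∣ q - 1` -/
theorem toral_e6_three_one (h3F : (3 : F) ≠ 0) (hq3 : Fintype.card F % 3 = 1) : ToralB 3 p ↥(chevE6.group F) := by
  have : Fact (Nat.Prime 3) := ⟨Nat.prime_three⟩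
  have hq : ((3 : ℕ) : ℤ) ∣ (Fintype.card F : ℤ) - 1 := by omega
  exact toral_untw e6T datE6 (s := 3) (by norm_num) (by exact_mod_cast h3F) 1
    (fun x => by rw [map_one, Module.End.one_apply, one_smul]) hq chkSE6_three ortE6' (by decide +kernel)

/-- `E₆(q)`, `s = 3`, `3 ∣ q + 1` -/
theorem toral_e6_three_two (h3F : (3 : F) ≠ 0) (hq3 : Fintype.card F % 3 = 2) : ToralB 3 p ↥(chevE6.group F) := by
  have : Fact (Nat.Prime 3) := ⟨Nat.prime_three⟩
  have hGf : Finite ↥(chevE6.group F) := inferInstance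
  obtain ⟨r, n, hr, hrF, hrk, he, hqF, hk⟩ := Cfsg.Agent.H129.TorusUntw.exists_closure (F := F) rfl
  have hrp : p = r := CharP.eq F ‹_› hrF
  subst hrp
  have h3r : 3 ≠ p := by
    rintro rfl
    exact h3F (by exact_mod_cast CharP.cast_eq_zero F 3)
  have hroot : ∀ a : F, ∃ b : F, b ^ 3 = a := exists_root_of_coprime three_ne_zero (by
    refine Nat.Coprime.symm ((Nat.Prime.coprime_iff_not_dvd Nat.prime_three).2 fun h2 => ?_)
    omega)
  have hset := setup_untw_all hp6 hk (algebraMap F (AlgebraicClosure F)) he hqF invC_E6 three_ne_zero hroot 3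
  obtain ⟨κ, τ, z, hEm, hκ, hb⟩ := _root_.Cfsg.Agent.H572.ExcD.exists_emb (hp := hp6) hk hset.inj he hset.frob hset.fr hset.fix hset.fin
    Cfsg.Agent.H795.NotAbData.E6.c6
  have hθ : ∀ x, ((AddEquiv.refl (Fin 6 → ℤ)).trans (repAut CoxeterMatrix.E₆.toCoxeterSystem hp6.isCartan
      Cfsg.Agent.H795.NotAbData.E6.c6)) x = (-1 : ℤ) • H565.E6Lat.g x := by
    intro x
    have h1 := eps_of_mat (hp := hp6) (g := permE rho6) (w := Cfsg.Agent.H795.NotAbData.E6.c6)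
      (U := Cfsg.Agent.H795.NotAbData.E6.c6M) (ε := -1) perm6_mat
      (Cfsg.Agent.H795.NotAbData.E6.is_c6 hp6) (by decide +kernel) (H565.E6Lat.g x)
    have h2 : permE rho6 (H565.E6Lat.g x) = x := H565.E6Lat.g_g x
    rw [h2] at h1
    rw [H565.RowP1.refl_trans hp6, h1]
  refine toral_fun hk hEm invC_E6 three_ne_zero (fun y hy => ?_) (by norm_num) h3r NfE6 (fun j x => ?_) chkSgE6
    ortgE6 (by decide +kernel)
  · obtain ⟨x, hx⟩ := Cfsg.Agent.H129.TorusUntw.fix_range hp6 CoxeterMatrix.E₆.toCoxeterSystem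
      (algebraMap F (AlgebraicClosure F)) hqF invC_E6 three_ne_zero hroot (hb y hy)
    refine ⟨x, ?_⟩
    rw [hκ, hx]
    group
  · rw [hθ]
    have h1 : ∑ i, NfE6 j i * ((-1 : ℤ) • H565.E6Lat.g x) i = -∑ i, NfE6 j i * x i := by
      rw [← sum_gE6 j x, ← Finset.sum_neg_distrib]
      exact Finset.sum_congr rfl fun i _ => by
        show NfE6 j i * ((-1 : ℤ) • H565.E6Lat.g x i) = _
        rw [smul_eq_mul]; ring
    rw [h1]
    obtain ⟨c, hc⟩ : (3 : ℤ) ∣ (p : ℤ) ^ n + 1 := by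
      have : ((p : ℤ) ^ n) = (Fintype.card F : ℤ) := by rw [hqF]; push_cast; rfl
      rw [this]
      omega
    refine ⟨-c * ∑ i, NfE6 j i * x i, ?_⟩
    push_cast
    linear_combination (-∑ i, NfE6 j i * x i) * hc

/-- **`E₆(q)`, `s = 3`** -/
theorem toral_e6_three (h3F : (3 : F) ≠ 0) : ToralB 3 p ↥(chevE6.group F) := by
  have h4 := three_cases h3F
  by_cases h1 : Fintype.card F % 3 = 1
  · exact toral_e6_three_one h3F h1
  · exact toral_e6_three_two h3F (by omega)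

/-- `E₈(q)`, `5 ∣ q² + 1` -/
theorem toral_e8_four (h5F : (5 : F) ≠ 0) (hq : 5 ∣ Fintype.card F ^ 2 + 1) : ToralB 5 p ↥(chevE8.group F) := by
  have : Fact (Nat.Prime 5) := ⟨Nat.prime_five⟩
  have hGf : Finite ↥(chevE8.group F) := inferInstance
  obtain ⟨r, n, hr, hrF, hrk, he, hqF, hk⟩ := Cfsg.Agent.H129.TorusUntw.exists_closure (F := F) rfl
  have hrp : p = r := CharP.eq F ‹_› hrF
  subst hrp
  have h5r : 5 ≠ p := by
    rintro rfl
    exact h5F (by exact_mod_cast CharP.cast_eq_zero F 5)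
  have hset := Cfsg.Agent.H795.NotAbRows.setup_untw_all (D := chevE8) (M := CoxeterMatrix.E₈) e8T hk
    (algebraMap F (AlgebraicClosure F)) he hqF invC_E8 one_ne_zero (fun b => ⟨b, pow_one b⟩) 5
  obtain ⟨κ, τ, z, hEm, hκ, hb⟩ := _root_.Cfsg.Agent.H572.ExcD.exists_emb (hp := e8T) hk hset.inj he hset.frob hset.fr hset.fix hset.fin
    Cfsg.Agent.H795.NotAbData.E8.u5
  have hmem : ∀ y, τ y = y → ∃ x, κ x = y := by
    intro y hy
    obtain ⟨x, hx⟩ := Cfsg.Agent.H129.TorusUntw.fix_range e8T CoxeterMatrix.E₈.toCoxeterSystem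
      (algebraMap F (AlgebraicClosure F)) hqF invC_E8 one_ne_zero (fun b => ⟨b, pow_one b⟩) (hb y hy)
    refine ⟨x, ?_⟩
    rw [hκ, hx]
    group
  have hθ : ∀ x, ((AddEquiv.refl (Fin 8 → ℤ)).trans (repAut CoxeterMatrix.E₈.toCoxeterSystem e8T.isCartan
      Cfsg.Agent.H795.NotAbData.E8.u5)) x = th x := fun x => th_eq x
  have hqZ : (5 : ℤ) ∣ ((p : ℤ) ^ n) ^ 2 + 1 := by
    rw [hqF] at hq
    exact_mod_cast hq
  have key : ∀ q0 : ℤ, (5 : ℤ) ∣ (p : ℤ) ^ n - q0 → ∀ (j : Fin 4) (x : Fin 8 → ℤ),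
      ((5 : ℕ) : ℤ) ∣ (∑ i, NfE8 q0 j i * (((AddEquiv.refl (Fin 8 → ℤ)).trans (repAut
        CoxeterMatrix.E₈.toCoxeterSystem e8T.isCartan Cfsg.Agent.H795.NotAbData.E8.u5)) x) i) -
        (p : ℤ) ^ n * ∑ i, NfE8 q0 j i * x i := by
    rintro q0 ⟨c, hc⟩ j x
    rw [hθ, NfE8_eq, NfE8_eq, dot_cvec_th]
    obtain ⟨d, hd⟩ := hqZ
    generalize dot (cvec (fun i => if i = j then 1 else 0) q0) x = A
    generalize ∑ r, x r * ∑ i, (if i = j then (1 : ℤ) else 0) * gv i r = B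
    have hpn : (p : ℤ) ^ n = q0 + 5 * c := by linear_combination hc
    rw [hpn] at hd ⊢
    refine ⟨-(c * A) - (d - 2 * q0 * c - 5 * c ^ 2) * B, ?_⟩
    push_cast
    linear_combination -B * hd
  have hcase : (5 : ℤ) ∣ (p : ℤ) ^ n - 2 ∨ (5 : ℤ) ∣ (p : ℤ) ^ n - 3 := by
    generalize (p : ℤ) ^ n = a at hqZ
    have h0 : a % 5 = 0 ∨ a % 5 = 1 ∨ a % 5 = 2 ∨ a % 5 = 3 ∨ a % 5 = 4 := by omega
    have h2 : (a ^ 2 + 1) % 5 = 0 := Int.emod_eq_zero_of_dvd hqZ
    rw [pow_two, Int.add_emod, Int.mul_emod] at h2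
    rcases h0 with h | h | h | h | h <;> rw [h] at h2 <;> first | (exfalso; revert h2; decide) | skip
    · left; omega
    · right; omega
  rcases hcase with h | h
  · exact toral_fun hk hEm invC_E8 one_ne_zero hmem (by norm_num) h5r (NfE8 2) (key 2 h) chkSE8_2
      ortgE8 (by decide +kernel)
  · exact toral_fun hk hEm invC_E8 one_ne_zero hmem (by norm_num) h5r (NfE8 3) (key 3 h) chkSE8_3
      ortgE8 (by decide +kernel)

end Untw

section Tw

variable {K : Type u} [Field K] [Fintype K] {p : ℕ} [CharP K p] {q : ℕ} (hq : IsPrimePow q)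

include hq

set_option maxRecDepth 100000 in
/-- `²E₆(q)`, `s = 3`, `3 ∣ q + 1` -/
theorem toral_2E6_three_two (h3F : (3 : K) ≠ 0) (hF : Fintype.card K = q ^ 2) (hq3 : q % 3 = 2) :
    ToralB 3 p ↥(twistedE6 K q) := by
  have : Fact (Nat.Prime 3) := ⟨Nat.prime_three⟩
  have hG : Finite ↥(twistedE6 K q) := inferInstance
  obtain ⟨r, n, hr, hrF, hrk, hn0, hn, hk⟩ := Cfsg.Agent.H795.Tw.exists_closure_q two_ne_zero hq hF
  have hrp : p = r := CharP.eq K ‹_› hrF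
  subst hrp
  have hpr : 3 ≠ p := by
    rintro rfl
    exact h3F (by exact_mod_cast CharP.cast_eq_zero K 3)
  have : Fact (Nat.Prime 5) := ⟨by norm_num⟩
  have hset := Cfsg.Agent.H795.Tw.setup_six (algebraMap K (AlgebraicClosure K)) p hk hn0 hn hF (p := 5) (by norm_num)
  have hcm := comm_mem_of_split (TT_comm Cfsg.Agent.H720.TwFr.hp6) hset.norm hset.fix (fun y hy => by
      have hφ : ∀ t : AlgebraicClosure K, iterateFrobenius (AlgebraicClosure K) p n t = t ^ q :=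
        fun t => by rw [iterateFrobenius_def, hn]
      obtain ⟨x, hx, t, ht, e⟩ := EmbInst.twE6_split (f := algebraMap K (AlgebraicClosure K)) hq hF hφ y.2
        (by rw [← Cfsg.Agent.H720.TwFr.coe_sig6, hy])
      exact ⟨⟨x, hx⟩, ⟨t, diagonal_le_group Cfsg.Agent.H720.TwFr.hp6.inList _ ht⟩, ht, Subtype.ext e⟩)
  obtain ⟨κ, τ, z, hEm, hκ, hb⟩ := _root_.Cfsg.Agent.H572.ExcD.exists_emb (hp := hp6) hk hset.inj hn0 hset.frob hset.fr hset.fix hset.fin
    Cfsg.Agent.H795.NotAbData.E6.c6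
  have hcm' := fun a b => comm_of_comm (κ := κ) (τ := τ) hκ hb hcm a b
  have hθ0 : ∀ x, rep CoxeterMatrix.E₆.toCoxeterSystem hp6.isCartan Cfsg.Agent.H795.NotAbData.E6.c6
      (permE rho6 x) = (-1 : ℤ) • x :=
    eps_of_mat (hp := Cfsg.Agent.H720.TwFr.hp6) (g := permE rho6) (w := Cfsg.Agent.H795.NotAbData.E6.c6)
      (U := Cfsg.Agent.H795.NotAbData.E6.c6M) (ε := -1) perm6_mat
      (Cfsg.Agent.H795.NotAbData.E6.is_c6 Cfsg.Agent.H720.TwFr.hp6) (by decide +kernel)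
  have hθ : ∀ x, ((permE rho6).trans (repAut CoxeterMatrix.E₆.toCoxeterSystem hp6.isCartan
      Cfsg.Agent.H795.NotAbData.E6.c6)) x = (-1 : ℤ) • x := hθ0
  refine toral_full hk hEm datE6.hB datE6.hd0 hθ hcm' (by norm_num) hpr ?_ chkSE6_three ortE6' (by decide +kernel)
  have h1 : ((p : ℤ) ^ n) = (q : ℤ) := by rw [hn]; push_cast; rfl
  rw [h1]
  push_cast
  omega

/-- `²E₆(q)`, `s = 3`, `3 ∣ q - 1` -/
theorem toral_2E6_three_one (h3F : (3 : K) ≠ 0) (hF : Fintype.card K = q ^ 2) (hq3 : q % 3 = 1) :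
    ToralB 3 p ↥(twistedE6 K q) := by
  have : Fact (Nat.Prime 3) := ⟨Nat.prime_three⟩
  have hG : Finite ↥(twistedE6 K q) := inferInstance
  obtain ⟨r, n, hr, hrF, hrk, hn0, hn, hk⟩ := Cfsg.Agent.H795.Tw.exists_closure_q two_ne_zero hq hF
  have hrp : p = r := CharP.eq K ‹_› hrF
  subst hrp
  have hpr : 3 ≠ p := by
    rintro rfl
    exact h3F (by exact_mod_cast CharP.cast_eq_zero K 3)
  have : Fact (Nat.Prime 5) := ⟨by norm_num⟩
  have hset := Cfsg.Agent.H795.Tw.setup_six (algebraMap K (AlgebraicClosure K)) p hk hn0 hn hF (p := 5) (by norm_num)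
  obtain ⟨κ, τ, z, hEm, hκ, hb⟩ := _root_.Cfsg.Agent.H572.ExcD.exists_emb (hp := hp6) hk hset.inj hn0 hset.frob hset.fr hset.fix hset.fin 1
  have hθ : ∀ x, ((permE rho6).trans (repAut CoxeterMatrix.E₆.toCoxeterSystem hp6.isCartan
      (1 : CoxeterMatrix.E₆.Group))) x = H565.E6Lat.g x := by
    intro x
    show rep CoxeterMatrix.E₆.toCoxeterSystem hp6.isCartan 1 (permE rho6 x) = H565.E6Lat.g x
    rw [map_one, Module.End.one_apply]
  refine toral_fun hk hEm invC_E6 three_ne_zero (fun y hy => ?_) (by norm_num) hpr NfE6 (fun j x => ?_) chkSgE6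
    ortgE6 (by decide +kernel)
  · have h1 := desc6 (algebraMap K (AlgebraicClosure K)) p hk hn0 hn hF (hb y hy)
    have h2 : Nat.gcd 3 (q + 1) = 1 := by
      refine (Nat.Prime.coprime_iff_not_dvd Nat.prime_three).2 fun h5 => ?_
      omega
    rw [h2, pow_one] at h1
    obtain ⟨x, hx⟩ := h1
    refine ⟨x, ?_⟩
    rw [hκ, hx]
    group
  · rw [hθ, sum_gE6]
    obtain ⟨c, hc⟩ : (3 : ℤ) ∣ (p : ℤ) ^ n - 1 := by
      have : ((p : ℤ) ^ n) = (q : ℤ) := by rw [hn]; push_cast; rfl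
      rw [this]
      omega
    refine ⟨-c * ∑ i, NfE6 j i * x i, ?_⟩
    push_cast
    linear_combination (-∑ i, NfE6 j i * x i) * hc

/-- **`²E₆(q)`, `s = 3`** -/
theorem toral_2E6_three (h3F : (3 : K) ≠ 0) (hF : Fintype.card K = q ^ 2) : ToralB 3 p ↥(twistedE6 K q) := by
  have h4 := three_cases h3F
  have h0 : q % 3 ≠ 0 := by
    intro h0
    have h5 : 3 ∣ q := Nat.dvd_of_mod_eq_zero h0
    have h6 : 3 ∣ Fintype.card K := by rw [hF]; exact dvd_pow h5 two_ne_zero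
    omega
  by_cases h1 : q % 3 = 2
  · exact toral_2E6_three_two hq h3F hF h1
  · exact toral_2E6_three_one hq h3F hF (by omega)

end Tw

end Cfsg.Agent.H167.RM
end

-- part: H169/RM/ChkF
section
/-!
# S3849: the combinatorial condition of the JOINT EIG engine (helper169)

`Y` an elementary abelian `s`-group of toral elements, `e j b` the exponents of the roots on generators `y_j`. For a
hyperplane `B₀` of `Y` (a line `ψ` of exponent vectors) the roots trivial on `B₀` are those proportional to `ψ`. The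
roots `d` which are not trivial on `B₀` are divided into classes by integral functionals `μ` which vanish on the
roots trivial on `B₀`; `d` is good if its class does not contain a full coset of the line of `ψ`. All root vectors
must be good or brackets of two good root vectors.
-/

set_option autoImplicit false

namespace Cfsg.Agent.H169.RM

open Cfsg Cfsg.Lie Cfsg.Lie.ChevalleyDatum Cfsg.Agent.ChevalleyStructure Cfsg.Agent.Nodes.RGDChev

/-- `[e_a, e_b] = ± e_c` -/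
def Stp (D : ChevalleyDatum) (a b c : ℕ) : Prop :=
  b ≠ a ∧ b ≠ D.neg a ∧ (D.chainCoeff a b c = [(1, 1)] ∨ D.chainCoeff a b c = [(1, -1)])

/-- the exponent vector of `b` is a multiple of `ψ` mod `s` -/
def OnL (s : ℕ) {m : ℕ} (e : Fin m → ℕ → ℤ) (ψ : Fin m → ℤ) (b : ℕ) : Prop :=
  ∃ c : ℤ, ∀ j, (s : ℤ) ∣ e j b - c * ψ j

/-- the good roots with respect to the line `ψ` and the functionals `μ` -/
def Gd (D : ChevalleyDatum) (l s : ℕ) {m n : ℕ} (e : Fin m → ℕ → ℤ) (ψ : Fin m → ℤ) (μ : Fin n → Fin l → ℤ)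
    (d : ℕ) : Prop :=
  d < D.nroots ∧ ¬ OnL s e ψ d ∧ ∃ c : ℤ, ∀ d' < D.nroots,
    (∀ i, ∑ j, μ i j * vec D l d' j = ∑ j, μ i j * vec D l d j) → ¬ ∀ j, (s : ℤ) ∣ e j d' - e j d - c * ψ j

/-- the condition of the JOINT EIG engine -/
structure ChkF (D : ChevalleyDatum) (l s : ℕ) {m : ℕ} (e : Fin m → ℕ → ℤ) : Prop where
  line : ∀ ψ : Fin m → ℤ, (∃ j, ¬ (s : ℤ) ∣ ψ j) → ∃ (n : ℕ) (μ : Fin n → Fin l → ℤ),
    (∀ a < D.nroots, OnL s e ψ a → ∀ i, ∑ j, μ i j * vec D l a j = 0) ∧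
    ∀ c < D.nroots, Gd D l s e ψ μ c ∨ ∃ a b, Gd D l s e ψ μ a ∧ Gd D l s e ψ μ b ∧ Stp D a b c

end Cfsg.Agent.H169.RM
end

-- part: H169/RM/ChkG
section
/-!
# S3849: a checker for `ChkF` (helper169)
-/

set_option autoImplicit false

namespace Cfsg.Agent.H169.RM

open Cfsg Cfsg.Lie Cfsg.Lie.ChevalleyDatum Cfsg.Agent.ChevalleyStructure Cfsg.Agent.Nodes.RGDChev
open Cfsg.Agent.H167.RV

/-- equality of lists -/
def eqL : List ℕ → List ℕ → Bool
  | [], [] => true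
  | a :: x, b :: y => Nat.beq a b && eqL x y
  | _, _ => false

theorem eqL_iff {x y : List ℕ} : eqL x y = true ↔ x = y := by
  induction x generalizing y with
  | nil => cases y <;> simp [eqL]
  | cons a x ih =>
    cases y with
    | nil => simp [eqL]
    | cons b y => simp [eqL, ih]

/-- the leading coefficient -/
def lead : List ℕ → ℕ
  | [] => 0
  | a :: x => match a with
    | 0 => lead x
    | n + 1 => n + 1

/-- `c ψ` mod `s` -/
def mulS (s c : ℕ) : List ℕ → List ℕ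
  | [] => []
  | a :: x => (c * a) % s :: mulS s c x

/-- the code of `v + c ψ` mod `s` -/
def tgt (s c : ℕ) : List ℕ → List ℕ → ℕ
  | x :: v, y :: ψ => (x + c * y) % s + s * tgt s c v ψ
  | _, _ => 0

/-- the code of a vector -/
def cod (s : ℕ) : List ℕ → ℕ
  | [] => 0
  | a :: x => a + s * cod s x

def onLb (s : ℕ) (v ψ : List ℕ) : Bool := (List.range s).any fun c => eqL v (mulS s c ψ)

/-- data of a line: direction, functional, codes of the roots, good roots -/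
structure LD where
  ps : List ℕ
  mu : List ℤ
  off : ℤ
  mask : ℕ
  good : ℕ

/-- the label of a root -/
def LD.lab (L : LD) (x : List ℤ) : ℕ := (dotL L.mu x + L.off).toNat

/-- the check for a root -/
def okR (s S : ℕ) (L : LD) (b : ℕ) (x : List ℤ) (v : List ℕ) (dec : List (ℕ × ℕ)) : Bool :=
  (decide (0 ≤ dotL L.mu x + L.off)) && (L.mask.testBit (cod s v + S * L.lab x)) &&
    (!(onLb s v L.ps) || decide (dotL L.mu x = 0)) &&
    (match L.good.testBit b with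
      | true => !(onLb s v L.ps) && (List.range s).any fun c => !(L.mask.testBit (tgt s c v L.ps + S * L.lab x))
      | false => dec.any fun u => L.good.testBit u.1 && L.good.testBit u.2)

def okL (D : ChevalleyDatum) (l s m : ℕ) (E : List (List ℕ)) (Dec : List (List (ℕ × ℕ))) (L : LD) : Bool :=
  (List.range D.nroots).all fun b => okR s (s ^ m) L b (crd D l b) (E.getD b []) (Dec.getD b [])

def chkE (D : ChevalleyDatum) (l s : ℕ) (N : List (List ℤ)) (E : List (List ℕ)) : Bool :=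
  (List.range D.nroots).all fun b => eqL (E.getD b []) (N.map fun f => (dotL f (crd D l b) % s).toNat)

def stpB (D : ChevalleyDatum) (a b c : ℕ) : Bool :=
  !(Nat.beq b a) && !(Nat.beq b (D.neg a)) && (decide (D.chainCoeff a b c = [(1, 1)]) ||
    decide (D.chainCoeff a b c = [(1, -1)]))

def chkD (D : ChevalleyDatum) (Dec : List (List (ℕ × ℕ))) : Bool :=
  (List.range D.nroots).all fun c => (Dec.getD c []).all fun u =>
    Nat.blt u.1 D.nroots && Nat.blt u.2 D.nroots && stpB D u.1 u.2 c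

/-- all vectors of length `m` mod `s` -/
def vecs (s : ℕ) : ℕ → List (List ℕ)
  | 0 => [[]]
  | m + 1 => (List.range s).flatMap fun a => (vecs s m).map fun v => a :: v

def chkC (s m : ℕ) (P : List (List ℕ)) : Bool :=
  (vecs s m).all fun v => Nat.beq (lead v) 0 || P.any fun ψ => eqL v (mulS s (lead v) ψ)

/-! ### soundness -/

theorem mem_vecs {s m : ℕ} {v : List ℕ} (hl : v.length = m) (hv : ∀ a ∈ v, a < s) : v ∈ vecs s m := by
  induction m generalizing v with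
  | zero =>
    rw [List.length_eq_zero_iff] at hl
    rw [hl]
    exact List.mem_singleton.2 rfl
  | succ m ih =>
    cases v with
    | nil => simp at hl
    | cons a v =>
      rw [vecs, List.mem_flatMap]
      refine ⟨a, List.mem_range.2 (hv a List.mem_cons_self), List.mem_map.2 ⟨v, ih (by simpa using hl) fun b hb =>
        hv b (List.mem_cons_of_mem _ hb), rfl⟩⟩

theorem lead_zero {v : List ℕ} (h : lead v = 0) : ∀ a ∈ v, a = 0 := by
  induction v with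
  | nil => simp
  | cons a v ih =>
    intro b hb
    cases a with
    | zero =>
      rcases List.mem_cons.1 hb with rfl | hb
      · rfl
      · exact ih h b hb
    | succ n => exact absurd h (Nat.succ_ne_zero n)

theorem lead_lt {s : ℕ} (hs : 0 < s) {v : List ℕ} (hv : ∀ a ∈ v, a < s) : lead v < s := by
  induction v with
  | nil => exact hs
  | cons a v ih =>
    cases a with
    | zero => exact ih fun b hb => hv b (List.mem_cons_of_mem _ hb)
    | succ n => exact hv (n + 1) List.mem_cons_self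

theorem mulS_eq (s c : ℕ) (x : List ℕ) : mulS s c x = x.map fun a => (c * a) % s := by
  induction x with
  | nil => rfl
  | cons a x ih => rw [mulS, ih, List.map_cons]

theorem tgt_eq (s c : ℕ) {v ψ w : List ℕ} (h : ψ.length = v.length) (hw : w.length = v.length)
    (he : ∀ i, w.getD i 0 = (v.getD i 0 + c * ψ.getD i 0) % s ∨ v.length ≤ i) : cod s w = tgt s c v ψ := by
  induction v generalizing ψ w with
  | nil =>
    rw [List.length_nil, List.length_eq_zero_iff] at hw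
    rw [hw]
    cases ψ <;> rfl
  | cons x v ih =>
    cases ψ with
    | nil => simp at h
    | cons y ψ =>
      cases w with
      | nil => simp at hw
      | cons z w =>
        rw [cod, tgt, ih (by simpa using h) (by simpa using hw) fun i => ?_]
        · rcases he 0 with h0 | h0
          · have h1 : z = (x + c * y) % s := h0
            rw [h1]
          · simp at h0
        · rcases he (i + 1) with h1 | h1
          · left
            simpa only [_root_.List.getD_eq_getElem?_getD, _root_.List.getElem?_cons_succ] using h1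
          · right
            simpa using h1

section

variable {D : ChevalleyDatum} {l s m : ℕ}

/-- the residues -/
theorem res_eq {N : List (List ℤ)} {E : List (List ℕ)} (hs : 0 < s) (Nf : Fin m → Fin l → ℤ)
    (hN : N = List.ofFn fun j => List.ofFn (Nf j)) (hE : chkE D l s N E = true) {b : ℕ} (hb : b < D.nroots) :
    (E.getD b []).length = m ∧ (∀ a ∈ E.getD b [], a < s) ∧
      ∀ j : Fin m, (s : ℤ) ∣ (∑ i, Nf j i * vec D l b i) - ((E.getD b []).getD j 0 : ℕ) := by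
  have hs' : (0 : ℤ) < s := by exact_mod_cast hs
  have h1 := List.all_eq_true.1 hE b (List.mem_range.2 hb)
  rw [eqL_iff] at h1
  rw [h1, hN]
  refine ⟨by simp, ?_, fun j => ?_⟩
  · intro a ha
    obtain ⟨f, -, rfl⟩ := List.mem_map.1 ha
    have h2 := Int.emod_lt_of_pos (dotL f (crd D l b)) hs'
    have h3 := Int.emod_nonneg (dotL f (crd D l b)) hs'.ne'
    omega
  · have h2 : (List.map (fun f => (dotL f (crd D l b) % s).toNat) (List.ofFn fun j => List.ofFn (Nf j))).getD j 0 =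
        (dotL (List.ofFn (Nf j)) (crd D l b) % s).toNat := by
      rw [List.getD_eq_getElem _ _ (by simp), List.getElem_map, List.getElem_ofFn]
    rw [h2, crd_eq, dotL_eq, Int.toNat_of_nonneg (Int.emod_nonneg _ hs'.ne')]
    exact Int.dvd_self_sub_emod

theorem dotL_getD (μ : List ℤ) {n : ℕ} (x : Fin n → ℤ) : dotL μ (List.ofFn x) = ∑ i : Fin n, μ.getD i 0 * x i := by
  induction n generalizing μ with
  | zero =>
    cases μ <;> simp [dotL]
  | succ n ih =>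
    cases μ with
    | nil => simp [dotL]
    | cons a μ =>
      rw [List.ofFn_succ, Fin.sum_univ_succ, dotL, ih]
      simp only [_root_.List.getD_eq_getElem?_getD, _root_.Fin.coe_ofNat_eq_mod, _root_.Nat.zero_mod, _root_.List.length_cons, _root_.lt_add_iff_pos_left, _root_.Order.lt_add_one_iff, _root_.zero_le, _root_.getElem?_pos, _root_.List.getElem_cons_zero, _root_.Option.getD_some, _root_.Fin.val_succ, _root_.List.getElem?_cons_succ]

theorem chkF_of (hs : s.Prime) (Nf : Fin m → Fin l → ℤ) {N : List (List ℤ)} {E : List (List ℕ)}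
    {Dec : List (List (ℕ × ℕ))} {P : List LD} (hN : N = List.ofFn fun j => List.ofFn (Nf j))
    (hE : chkE D l s N E = true) (hD : chkD D Dec = true) (hL : (P.all (okL D l s m E Dec)) = true)
    (hC : chkC s m (P.map LD.ps) = true) : ChkF D l s (fun (j : Fin m) b => ∑ i, Nf j i * vec D l b i) := by
  have hs0 := hs.pos
  have hs' : (0 : ℤ) < s := by exact_mod_cast hs0
  have hres := fun {b : ℕ} (hb : b < D.nroots) => res_eq hs0 Nf hN hE hb
  constructor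
  intro ψ hψ
  -- the residues of `ψ`
  set w : List ℕ := List.ofFn fun j => (ψ j % s).toNat with hw
  have hwl : w.length = m := by simp [hw]
  have hws : ∀ a ∈ w, a < s := by
    intro a ha
    rw [hw, List.mem_ofFn] at ha
    obtain ⟨j, rfl⟩ := ha
    have h2 := Int.emod_lt_of_pos (ψ j) hs'
    have h3 := Int.emod_nonneg (ψ j) hs'.ne'
    omega
  have hwj : ∀ j : Fin m, (s : ℤ) ∣ ψ j - (w.getD j 0 : ℕ) := by
    intro j
    rw [hw, List.getD_eq_getElem _ _ (by simp), List.getElem_ofFn, Int.toNat_of_nonneg (Int.emod_nonneg _ hs'.ne')]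
    exact Int.dvd_self_sub_emod
  have hwm := mem_vecs hwl hws
  have h1 := List.all_eq_true.1 hC w hwm
  rw [Bool.or_eq_true] at h1
  have hlead : lead w ≠ 0 := by
    intro h0
    obtain ⟨j, hj⟩ := hψ
    apply hj
    have h2 := hwj j
    have h3 : w.getD j 0 = 0 := by
      rw [List.getD_eq_getElem _ _ (by rw [hwl]; exact j.2)]
      exact lead_zero h0 _ (List.getElem_mem _)
    rw [h3] at h2
    simpa using h2
  obtain ⟨L, hLP, hLw⟩ : ∃ L ∈ P, w = mulS s (lead w) L.ps := by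
    rcases h1 with h1 | h1
    · exact absurd (Nat.eq_of_beq_eq_true h1) hlead
    · obtain ⟨x, hx, hxe⟩ := List.any_eq_true.1 h1
      obtain ⟨L, hL', rfl⟩ := List.mem_map.1 hx
      exact ⟨L, hL', eqL_iff.1 hxe⟩
  set u := lead w with hu
  have hus : u < s := lead_lt hs0 hws
  have hpl : L.ps.length = m := by
    have := congrArg List.length hLw
    rw [mulS_eq, List.length_map, hwl] at this
    exact this.symm
  have hψu : ∀ j : Fin m, (s : ℤ) ∣ ψ j - u * (L.ps.getD j 0 : ℕ) := by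
    intro j
    have h2 := hwj j
    have h3 : w.getD j 0 = (u * L.ps.getD j 0) % s := by
      conv_lhs => rw [hLw]
      rw [mulS_eq, List.getD_eq_getElem _ _ (by rw [List.length_map, hpl]; exact j.2), List.getElem_map,
        List.getD_eq_getElem _ _ (by rw [hpl]; exact j.2)]
    rw [h3] at h2
    have h4 : (s : ℤ) ∣ ((u * L.ps.getD j 0 : ℕ) : ℤ) - ((u * L.ps.getD j 0 % s : ℕ) : ℤ) := by
      push_cast
      exact Int.dvd_self_sub_emod
    have h5 : ψ j - u * ((L.ps.getD j 0 : ℕ) : ℤ) = (ψ j - ((u * L.ps.getD j 0 % s : ℕ) : ℤ)) -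
        (((u * L.ps.getD j 0 : ℕ) : ℤ) - ((u * L.ps.getD j 0 % s : ℕ) : ℤ)) := by
      push_cast; ring
    rw [h5]
    exact dvd_sub h2 h4
  -- the inverse of `u`
  obtain ⟨u', hu'⟩ : ∃ u' : ℤ, (s : ℤ) ∣ u * u' - 1 := by
    have h2 : IsCoprime (u : ℤ) (s : ℤ) := by
      rw [Nat.isCoprime_iff_coprime]
      exact ((Nat.Prime.coprime_iff_not_dvd hs).2 fun h => hlead (Nat.eq_zero_of_dvd_of_lt h hus)).symm
    obtain ⟨a, b, hab⟩ := h2
    exact ⟨a, -b, by linear_combination hab⟩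
  have hOK := List.all_eq_true.1 (List.all_eq_true.1 hL L hLP)
  have hR : ∀ b < D.nroots, okR s (s ^ m) L b (crd D l b) (E.getD b []) (Dec.getD b []) = true := fun b hb =>
    hOK b (List.mem_range.2 hb)
  -- `OnL` implies the Boolean
  have hOn : ∀ b < D.nroots, OnL s (fun (j : Fin m) b => ∑ i, Nf j i * vec D l b i) ψ b →
      onLb s (E.getD b []) L.ps = true := by
    rintro b hb ⟨c, hc⟩
    obtain ⟨e1, e2, e3⟩ := hres hb
    have hc0 := Int.emod_nonneg (c * u) hs'.ne'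
    have hc1 := Int.emod_lt_of_pos (c * u) hs'
    refine List.any_eq_true.2 ⟨((c * u) % s).toNat, List.mem_range.2 (by omega), eqL_iff.2 ?_⟩
    rw [mulS_eq]
    apply List.ext_getElem
    · rw [List.length_map, e1, hpl]
    · intro i h2 h3
      rw [List.getElem_map]
      have him : i < m := by rw [e1] at h2; exact h2
      have h4 := hc ⟨i, him⟩
      have h5 := e3 ⟨i, him⟩
      have h6 := hψu ⟨i, him⟩
      rw [List.getD_eq_getElem _ _ h2] at h5
      rw [List.getD_eq_getElem _ _ (by rw [hpl]; exact him)] at h6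
      have h7 : (E.getD b [])[i] < s := e2 _ (List.getElem_mem _)
      have h8 : (s : ℤ) ∣ c * u - (((c * u) % s).toNat : ℤ) := by
        rw [Int.toNat_of_nonneg hc0]
        exact Int.dvd_self_sub_emod
      have h9 : (s : ℤ) ∣ ((E.getD b [])[i] : ℤ) - ((((c * u) % s).toNat * L.ps[i]'(by rw [hpl]; exact him) : ℕ) : ℤ) := by
        obtain ⟨q1, hq1⟩ := h4
        obtain ⟨q2, hq2⟩ := h5
        obtain ⟨q3, hq3⟩ := h6
        obtain ⟨q4, hq4⟩ := h8
        refine ⟨q1 - q2 + c * q3 + q4 * (L.ps[i]'(by rw [hpl]; exact him) : ℤ), ?_⟩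
        push_cast
        linear_combination hq1 - hq2 + c * hq3 + (L.ps[i]'(by rw [hpl]; exact him) : ℤ) * hq4
      have h10 : (E.getD b [])[i] ≡ ((c * u) % s).toNat * L.ps[i]'(by rw [hpl]; exact him) [MOD s] := by
        rw [← Int.natCast_modEq_iff]
        exact ((Int.modEq_iff_dvd).2 h9).symm
      have h11 : (E.getD b [])[i] % s = _ := h10
      rwa [Nat.mod_eq_of_lt h7] at h11
  -- good roots
  have hmu : ∀ b, dotL L.mu (crd D l b) = ∑ i : Fin l, L.mu.getD i 0 * vec D l b i := fun b => by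
    rw [crd_eq, dotL_getD]
  have hGood : ∀ d < D.nroots, L.good.testBit d = true →
      Gd D l s (fun (j : Fin m) b => ∑ i, Nf j i * vec D l b i) ψ
        (fun (_ : Fin 1) (i : Fin l) => L.mu.getD i 0) d := by
    intro d hd h1
    have h2 := hR d hd
    unfold okR at h2
    rw [h1, Bool.and_eq_true] at h2
    have h2' : (!(onLb s (E.getD d []) L.ps) && (List.range s).any fun c =>
      !(L.mask.testBit (tgt s c (E.getD d []) L.ps + s ^ m * L.lab (crd D l d)))) = true := h2.2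
    rw [Bool.and_eq_true, Bool.not_eq_true'] at h2'
    obtain ⟨h3, h4⟩ := h2'
    obtain ⟨c, hc, hc'⟩ := List.any_eq_true.1 h4
    rw [List.mem_range] at hc
    rw [Bool.not_eq_true'] at hc'
    refine ⟨hd, fun h5 => ?_, c * u', fun d' hd' h5 h6 => ?_⟩
    · rw [hOn d hd h5] at h3
      exact absurd h3 (by decide)
    · obtain ⟨e1, e2, e3⟩ := hres hd
      obtain ⟨f1, f2, f3⟩ := hres hd'
      have h7 := h5 0
      have hlab : L.lab (crd D l d') = L.lab (crd D l d) := by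
        unfold LD.lab
        rw [hmu, hmu, h7]
      have hcod : cod s (E.getD d' []) = tgt s c (E.getD d []) L.ps := by
        refine tgt_eq s c (by rw [hpl, e1]) (by rw [f1, e1]) fun i => ?_
        by_cases him : i < m
        · left
          have g1 := e3 ⟨i, him⟩
          have g2 := f3 ⟨i, him⟩
          have g3 := h6 ⟨i, him⟩
          have g4 := hψu ⟨i, him⟩
          have g5 : (E.getD d' []).getD i 0 < s := by
            rw [List.getD_eq_getElem _ _ (by rw [f1]; exact him)]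
            exact f2 _ (List.getElem_mem _)
          have g6 : (s : ℤ) ∣ (((E.getD d' []).getD i 0 : ℕ) : ℤ) -
              (((E.getD d []).getD i 0 + c * L.ps.getD i 0 : ℕ) : ℤ) := by
            obtain ⟨q1, hq1⟩ := g1
            obtain ⟨q2, hq2⟩ := g2
            obtain ⟨q3, hq3⟩ := g3
            obtain ⟨q4, hq4⟩ := g4
            obtain ⟨q5, hq5⟩ := hu'
            refine ⟨q1 - q2 + q3 + c * u' * q4 + c * q5 * ((L.ps.getD i 0 : ℕ) : ℤ), ?_⟩
            push_cast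
            linear_combination hq1 - hq2 + hq3 + c * u' * hq4 + c * ((L.ps.getD i 0 : ℕ) : ℤ) * hq5
          have g7 : (E.getD d' []).getD i 0 ≡ (E.getD d []).getD i 0 + c * L.ps.getD i 0 [MOD s] := by
            rw [← Int.natCast_modEq_iff]
            exact (Int.ModEq.symm ((Int.modEq_iff_dvd).2 g6))
          have g8 : (E.getD d' []).getD i 0 % s = _ := g7
          rwa [Nat.mod_eq_of_lt g5] at g8
        · right
          rw [e1]; omega
      have h8 := hR d' hd'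
      unfold okR at h8
      rw [Bool.and_eq_true, Bool.and_eq_true, Bool.and_eq_true] at h8
      have h9 := h8.1.1.2
      rw [hcod, hlab, hc'] at h9
      exact absurd h9 (by decide)
  refine ⟨1, fun (_ : Fin 1) (i : Fin l) => L.mu.getD i 0, fun a ha hon _ => ?_, fun c hc => ?_⟩
  · have h2 := hR a ha
    unfold okR at h2
    rw [Bool.and_eq_true, Bool.and_eq_true, Bool.or_eq_true, hOn a ha hon] at h2
    rcases h2.1.2 with h3 | h3
    · exact absurd h3 (by decide)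
    · rw [← hmu]
      exact of_decide_eq_true h3
  · by_cases hg : L.good.testBit c = true
    · exact Or.inl (hGood c hc hg)
    · right
      rw [Bool.not_eq_true] at hg
      have h2 := hR c hc
      unfold okR at h2
      rw [hg, Bool.and_eq_true] at h2
      have h3 : ((Dec.getD c []).any fun u => L.good.testBit u.1 && L.good.testBit u.2) = true := h2.2
      obtain ⟨x, hx, hx'⟩ := List.any_eq_true.1 h3
      rw [Bool.and_eq_true] at hx'
      have h4 := List.all_eq_true.1 (List.all_eq_true.1 hD c (List.mem_range.2 hc)) x hx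
      rw [Bool.and_eq_true, Bool.and_eq_true, Nat.blt_eq, Nat.blt_eq] at h4
      obtain ⟨⟨h5, h6⟩, h7⟩ := h4
      refine ⟨x.1, x.2, hGood _ h5 hx'.1, hGood _ h6 hx'.2, ?_⟩
      unfold stpB at h7
      rw [Bool.and_eq_true, Bool.and_eq_true, Bool.or_eq_true, Bool.not_eq_true', Bool.not_eq_true',
        decide_eq_true_iff, decide_eq_true_iff] at h7
      obtain ⟨⟨h8, h9⟩, h10⟩ := h7
      exact ⟨Nat.ne_of_beq_eq_false h8, Nat.ne_of_beq_eq_false h9, h10⟩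

end

end Cfsg.Agent.H169.RM
end

private theorem dce_5779260441b0 : _root_.True := by
  try have : _root_.True := by simp only [_root_.Cfsg.Agent.H169.RM.mulS.eq_def]
  try have : _root_.True := by simp only [_root_.Cfsg.Agent.H169.RM.mulS.eq_1]
  try have : _root_.True := by simp only [_root_.Cfsg.Agent.H169.RM.tgt.eq_1]
  try have : _root_.True := by simp only [_root_.Cfsg.Agent.H169.RM.vecs.eq_2]
  try have : _root_.True := by simp only [_root_.Cfsg.Agent.H169.RM.cod.eq_def]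
  try have : _root_.True := by simp only [_root_.Cfsg.Agent.H169.RM.eqL.eq_2]
  try have : _root_.True := by simp only [_root_.Cfsg.Agent.H169.RM.tgt.eq_def]
  try have : _root_.True := by simp only [_root_.Cfsg.Agent.H169.RM.mulS.eq_2]
  try have : _root_.True := by simp only [_root_.Cfsg.Agent.H169.RM.eqL._sparseCasesOn_2.else_eq]
  try have : _root_.True := by simp only [_root_.Cfsg.Agent.H169.RM.vecs.eq_1]
  try have : _root_.True := by simp only [_root_.Cfsg.Agent.H169.RM.eqL.eq_1]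
  try have : _root_.True := by simp only [_root_.Cfsg.Agent.H169.RM.tgt.eq_2]
  try have : _root_.True := by simp only [_root_.Cfsg.Agent.H169.RM.eqL._sparseCasesOn_1.else_eq]
  try have : _root_.True := by simp only [_root_.Cfsg.Agent.H169.RM.eqL.eq_3]
  try have : _root_.True := by simp only [_root_.Cfsg.Agent.H169.RM.cod.eq_1]
  try have : _root_.True := by simp only [_root_.Cfsg.Agent.H169.RM.vecs.eq_def]
  try have : _root_.True := by simp only [_root_.Cfsg.Agent.H169.RM.eqL.eq_def]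
  try have : _root_.True := by simp only [_root_.Cfsg.Agent.H169.RM.cod.eq_2]
  exact _root_.True.intro
end

-- part: H169/RM/RowsD
section
prune_inst 0x2000600408220000000000008000180090000000000000000000000001000c0000000800002001000020000000000008111000000000000000000000000000000000000480090000000000000000000000000000000000000000000000000000000000000
set_option linter.all false
open scoped Cfsg.Agent.FastGrp

/-- decoders of the packed data (elaboration time only) -/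
private noncomputable def pk61d (b S i : Nat) : Nat := Nat.mod (Nat.shiftRight S (Nat.mul b i)) (Nat.shiftLeft (nat_lit 1) b)
private noncomputable def pk61c {α : Type} (t : Nat) (a : α) (f : Nat → α) : α := Nat.rec a (fun k _ => f k) t
private noncomputable def pk61f {α : Type} (t : Nat) (f : Nat → α) : α := Nat.rec (f Nat.zero) (fun k _ => f (Nat.succ k)) t
private noncomputable def pk61l {α : Type} (f : Nat → α) (s e : Nat) (tl : List α) : List α :=
  pk61f e fun e => Nat.rec tl (fun k ih => List.cons (pk61f (Nat.sub e (Nat.succ k)) f) ih) (Nat.sub e s)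
private noncomputable def pk61o {α : Type} (O : (n : Nat) → OfNat α n → α) (I : (n : Nat) → OfNat α n) (t : Nat) : α :=
  pk61c t (O (nat_lit 0) (I (nat_lit 0))) fun k => O (Nat.succ k) (I (Nat.succ k))
private noncomputable def pk61y (O : (n : Nat) → OfNat Int n → Int) (I : (n : Nat) → OfNat Int n) (G : Int → Int) (t : Nat) : Int := pk61f t fun t =>
  pk61c (Nat.mod t (nat_lit 2)) (pk61o O I (Nat.div t (nat_lit 2))) fun _ => G (pk61o O I (Nat.succ (Nat.div t (nat_lit 2))))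

private noncomputable def lq26c77e173d {T : Sort _} (f :
    type_of% (@_root_.List.cons.{0}) →
    type_of% (@_root_.Matrix.vecCons.{0}) →
    type_of% (@_root_.List.nil.{0}) →
    type_of% (@_root_.Prod.mk.{0, 0}) →
    type_of% (@_root_.List.cons.{0} (List Nat)) →
    type_of% (@_root_.List.cons.{0} (List (Prod Nat Nat))) →
    type_of% (@_root_.Matrix.vecEmpty.{0}) →
    type_of% (@_root_.List.cons.{0} (Prod (Prod Nat Nat) (Prod (List Nat) (List Nat)))) →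
    type_of% (@_root_.Cfsg.Agent.H169.RM.LD.mk) →
    type_of% (@_root_.List.cons.{0} (Cfsg.Agent.H169.RM.LD)) → T) : T :=
  f (@_root_.List.cons.{0}) (@_root_.Matrix.vecCons.{0}) (@_root_.List.nil.{0}) (@_root_.Prod.mk.{0, 0}) (@_root_.List.cons.{0} (List Nat)) (@_root_.List.cons.{0} (List (Prod Nat Nat))) (@_root_.Matrix.vecEmpty.{0}) (@_root_.List.cons.{0} (Prod (Prod Nat Nat) (Prod (List Nat) (List Nat)))) (@_root_.Cfsg.Agent.H169.RM.LD.mk) (@_root_.List.cons.{0} (Cfsg.Agent.H169.RM.LD))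

-- part: fast checks
section
set_option autoImplicit false

namespace Cfsg.Agent.H169.RM

open Cfsg Cfsg.Lie Cfsg.Agent.H167.RV

private noncomputable def fA (a b : Bool) : Bool := Bool.rec false b a

private noncomputable def fO (a b : Bool) : Bool := Bool.rec b true a

private noncomputable def fN (a : Bool) : Bool := Bool.rec true false a

private theorem fA_eq (a b : Bool) : fA a b = (a && b) := by cases a <;> rfl

private theorem fO_eq (a b : Bool) : fO a b = (a || b) := by cases a <;> rfl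

private theorem fN_eq (a : Bool) : fN a = !a := by cases a <;> rfl

private noncomputable def allL {α : Type} (l : List α) (f : α → Bool) : Bool :=
  List.rec true (fun a _ ih => fA (f a) ih) l

private noncomputable def anyL {α : Type} (l : List α) (f : α → Bool) : Bool :=
  List.rec false (fun a _ ih => fO (f a) ih) l

private theorem allL_eq {α : Type} (l : List α) (f : α → Bool) : allL l f = l.all f := by
  induction l with
  | nil => rfl
  | cons a l ih => exact (fA_eq _ _).trans (congrArg (fun x => f a && x) ih)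

private theorem anyL_eq {α : Type} (l : List α) (f : α → Bool) : anyL l f = l.any f := by
  induction l with
  | nil => rfl
  | cons a l ih => exact (fO_eq _ _).trans (congrArg (fun x => f a || x) ih)

private noncomputable def tb (m k : ℕ) : Bool := Nat.beq (Nat.mod (Nat.shiftRight m k) 2) 1

private theorem tb_eq (m k : ℕ) : tb m k = m.testBit k := by
  rw [Nat.testBit_eq_decide_div_mod_eq, ← Nat.shiftRight_eq_div_pow, Bool.eq_iff_iff, decide_eq_true_iff]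
  exact ⟨Nat.eq_of_beq_eq_true, fun h => (congrArg (fun x => Nat.beq x 1) h).trans rfl⟩

private noncomputable def onM (s : ℕ) (ψ : List ℕ) (l : List ℕ) : ℕ :=
  List.rec 0 (fun c _ ih => Nat.lor ih (Nat.shiftLeft 1 (cod s (mulS s c ψ)))) l

private theorem onM_bit (s : ℕ) (ψ : List ℕ) {c : ℕ} : ∀ l : List ℕ, c ∈ l →
    (onM s ψ l).testBit (cod s (mulS s c ψ)) = true
  | a :: l, h => by
    show (onM s ψ l ||| 1 <<< cod s (mulS s a ψ)).testBit _ = true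
    rw [Nat.testBit_or, Bool.or_eq_true]
    rcases List.mem_cons.1 h with rfl | h
    · right
      rw [Nat.one_shiftLeft, Nat.testBit_two_pow_self]
    · exact Or.inl (onM_bit s ψ l h)

private theorem onM_of {s : ℕ} {v ψ : List ℕ} (h : fN (tb (onM s ψ (List.range s)) (cod s v)) = true) :
    (!(onLb s v ψ)) = true := by
  rw [Bool.not_eq_true', ← Bool.not_eq_true]
  intro h1
  obtain ⟨c, hc, h2⟩ := List.any_eq_true.1 h1
  rw [eqL_iff.1 h2, tb_eq, onM_bit s ψ _ hc] at h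
  exact Bool.false_ne_true h

private noncomputable def tgF (s c : ℕ) (v : List ℕ) : List ℕ → ℕ :=
  List.rec (fun _ => 0) (fun x _ ih ψ => List.rec 0
    (fun y ψ' _ => Nat.add (Nat.mod (Nat.add x (Nat.mul c y)) s) (Nat.mul s (ih ψ'))) ψ) v

private theorem tgF_eq (s c : ℕ) : ∀ v ψ : List ℕ, tgF s c v ψ = tgt s c v ψ
  | [], [] => rfl
  | [], _ :: _ => rfl
  | _ :: _, [] => rfl
  | x :: v, y :: ψ => congrArg (fun z => (x + c * y) % s + s * z) (tgF_eq s c v ψ)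

private noncomputable def okG (s S : ℕ) (L : LD) (d : ℤ) (b : ℕ) (v : List ℕ) (dec : List (ℕ × ℕ)) : Bool :=
  fA (decide (0 ≤ d + L.off)) (fA (tb L.mask (Nat.add (cod s v) (Nat.mul S (d + L.off).toNat)))
    (Bool.rec (fA (fO (fN (tb (onM s L.ps (List.range s)) (cod s v))) (decide (d = 0)))
        (anyL dec fun u => fA (tb L.good u.1) (tb L.good u.2)))
      (fA (fN (tb (onM s L.ps (List.range s)) (cod s v)))
        (anyL (List.range s) fun c => fN (tb L.mask (Nat.add (tgF s c v L.ps) (Nat.mul S (d + L.off).toNat)))))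
      (tb L.good b)))

private theorem okG_spec {s S : ℕ} {L : LD} {b : ℕ} {x : List ℤ} {v : List ℕ} {dec : List (ℕ × ℕ)}
    (h : okG s S L (dotL L.mu x) b v dec = true) : okR s S L b x v dec = true := by
  delta okG at h
  delta okR
  rw [fA_eq, fA_eq, Bool.and_eq_true, Bool.and_eq_true, tb_eq, tb_eq L.good b] at h
  obtain ⟨h1, h2, h3⟩ := h
  rw [Bool.and_eq_true, Bool.and_eq_true, Bool.and_eq_true]
  cases hg : L.good.testBit b
  · rw [hg] at h3
    replace h3 := (fA_eq _ _).symm.trans h3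
    rw [Bool.and_eq_true, fO_eq, Bool.or_eq_true, anyL_eq] at h3
    refine ⟨⟨⟨h1, h2⟩, ?_⟩, ?_⟩
    · rw [Bool.or_eq_true]
      exact h3.1.imp_left onM_of
    · simpa only [fA_eq, tb_eq] using h3.2
  · rw [hg] at h3
    replace h3 := (fA_eq _ _).symm.trans h3
    rw [Bool.and_eq_true, anyL_eq] at h3
    have h4 := onM_of h3.1
    refine ⟨⟨⟨h1, h2⟩, ?_⟩, ?_⟩
    · rw [h4]
      rfl
    · show (!(onLb s v L.ps) && _) = true
      rw [h4, Bool.true_and]
      have h5 := h3.2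
      simp only [fN_eq, tb_eq, tgF_eq] at h5
      exact h5

private noncomputable def allZ {α β : Type} (f : ℕ → α → β → Bool) (E : List α) : List β → ℕ → ℕ → Bool :=
  List.rec (fun _ b n => Nat.ble n b) (fun v _ ih D b n => List.rec false
    (fun d D' _ => fA (f b v d) (ih D' (Nat.add b 1) n)) D) E

private theorem allZ_spec {α β : Type} {f : ℕ → α → β → Bool} (x : α) (y : β) {n : ℕ} : ∀ (E : List α) (D : List β) (b : ℕ),
    allZ f E D b n = true → ∀ i, b + i < n → f (b + i) (E.getD i x) (D.getD i y) = true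
  | [], _, b, h, i, hi => absurd (Nat.le_of_ble_eq_true h) (by omega)
  | _ :: _, [], _, h, _, _ => absurd h Bool.false_ne_true
  | v :: E, d :: D, b, h, i, hi => by
    have h1 : (f b v d && allZ f E D (b + 1) n) = true := (fA_eq _ _).symm.trans h
    rw [Bool.and_eq_true] at h1
    cases i with
    | zero => exact h1.1
    | succ i =>
      have h2 := allZ_spec x y E D (b + 1) h1.2 i (by omega)
      rwa [show b + 1 + i = b + (i + 1) by omega] at h2

private noncomputable def okM (D : ChevalleyDatum) (l s m : ℕ) (E : List (List ℕ)) (Dec : List (List (ℕ × ℕ)))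
    (L : LD) : Bool :=
  List.rec (allZ (okG s (s ^ m) L 0) E Dec 0 D.nroots)
    (fun _ _ _ => allZ (fun b => okG s (s ^ m) L (dotL L.mu (crd D l b)) b) E Dec 0 D.nroots) L.mu

private theorem okL_of {D : ChevalleyDatum} {l s m : ℕ} {E : List (List ℕ)} {Dec : List (List (ℕ × ℕ))} {P : List LD}
    (h : allL P (okM D l s m E Dec) = true) : P.all (okL D l s m E Dec) = true := by
  rw [allL_eq] at h
  refine List.all_eq_true.2 fun L hL => List.all_eq_true.2 fun b hb => okG_spec ?_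
  have h1 : okM D l s m E Dec L = true := List.all_eq_true.1 h L hL
  have h2 : 0 + b < D.nroots := by
    rw [Nat.zero_add]
    exact List.mem_range.1 hb
  delta okM at h1
  cases hm : L.mu with
  | nil =>
    rw [hm] at h1
    have h3 := allZ_spec [] [] E Dec 0 h1 b h2
    rw [Nat.zero_add] at h3
    exact h3
  | cons a μ =>
    rw [hm] at h1
    have h3 := allZ_spec [] [] E Dec 0 h1 b h2
    rw [Nat.zero_add] at h3
    exact h3

private noncomputable def eqM (s c : ℕ) (v : List ℕ) : List ℕ → Bool :=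
  List.rec (fun ψ => List.rec true (fun _ _ _ => false) ψ) (fun x _ ih ψ => List.rec false
    (fun y ψ' _ => fA (Nat.beq x (Nat.mod (Nat.mul c y) s)) (ih ψ')) ψ) v

private theorem eqM_eq (s c : ℕ) : ∀ v ψ : List ℕ, eqM s c v ψ = eqL v (mulS s c ψ)
  | [], [] => rfl
  | [], _ :: _ => rfl
  | _ :: _, [] => rfl
  | x :: v, y :: ψ => (fA_eq _ _).trans (congrArg (fun z => Nat.beq x (c * y % s) && z) (eqM_eq s c v ψ))

private theorem chkC_of {s m : ℕ} {P : List (List ℕ)}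
    (h : (allL (vecs s m) fun v => fO (Nat.beq (lead v) 0) (anyL P (eqM s (lead v) v))) = true) : chkC s m P = true := by
  simp only [allL_eq, anyL_eq, fO_eq, funext (eqM_eq s _ _)] at h
  exact h

private theorem le_of {D : ChevalleyDatum}
    (h : (allL D.chain.toList fun x => allL x.toList fun e => Nat.ble e.2.toList.length 2) = true) (r : ℕ)
    (_ : r < D.nroots) : ∀ e ∈ Cfsg.Agent.ChevalleyStructure.RootVec.row D r, e.2.toList.length ≤ 2 := by
  intro e he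
  delta Cfsg.Agent.ChevalleyStructure.RootVec.row at he
  rw [Array.getD_eq_getD_getElem?] at he
  cases hx : D.chain[r]? with
  | none =>
    rw [hx] at he
    exact absurd he List.not_mem_nil
  | some x =>
    rw [hx] at he
    rw [allL_eq] at h
    have h1 := List.all_eq_true.1 h x (Array.mem_toList_iff.2 (Array.mem_of_getElem? hx))
    rw [allL_eq] at h1
    exact Nat.le_of_ble_eq_true (List.all_eq_true.1 h1 e he)

private noncomputable def nth {α : Type} (d : α) (l : List α) : ℕ → α :=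
  List.rec (fun _ => d) (fun x _ ih i => Nat.rec x (fun j _ => ih j) i) l

private theorem nth_eq {α : Type} (d : α) : ∀ (l : List α) (i : ℕ), l.getD i d = nth d l i
  | [], _ => rfl
  | _ :: _, 0 => rfl
  | _ :: l, i + 1 => nth_eq d l i

private theorem nth_arr {α : Type} (a : Array α) (i : ℕ) (d : α) : a.getD i d = nth d a.toList i := by
  rw [← nth_eq, List.getD_eq_getElem?_getD, Array.getElem?_toList, Array.getD_eq_getD_getElem?]

private noncomputable def filF {β : Type} (s : ℕ) (l : List (ℕ × β)) : List (ℕ × β) :=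
  List.rec [] (fun e _ ih => Bool.rec ih (e :: ih) (Nat.beq e.1 s)) l

private theorem filF_eq {β : Type} (s : ℕ) : ∀ l : List (ℕ × β), l.filter (fun e => decide (e.1 = s)) = filF s l
  | [] => rfl
  | e :: l => by
    show _ = @Bool.rec (fun _ => List (ℕ × β)) (filF s l) (e :: filF s l) (Nat.beq e.1 s)
    rw [← filF_eq s l]
    cases h : Nat.beq e.1 s
    · exact List.filter_cons_of_neg (by simpa using Nat.ne_of_beq_eq_false h)
    · exact List.filter_cons_of_pos (by simpa using Nat.eq_of_beq_eq_true h)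

private noncomputable def ccF (D : ChevalleyDatum) (r s u : ℕ) : List (ℕ × ℤ) :=
  (filF s (nth #[] D.chain.toList r).toList).flatMap fun e =>
    ((e.2.toList.zipIdx).filter (fun q => q.1.1 = u)).map fun q => (q.2 + 1, q.1.2)

private theorem chkD_of {D : ChevalleyDatum} {Dec : List (List (ℕ × ℕ))}
    (h : allZ (fun c dec _ => allL dec fun u => Nat.blt u.1 D.nroots && Nat.blt u.2 D.nroots &&
      (!(Nat.beq u.2 u.1) && !(Nat.beq u.2 (nth 0 D.negIdx.toList u.1)) && (decide (ccF D u.1 u.2 c = [(1, 1)]) ||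
        decide (ccF D u.1 u.2 c = [(1, -1)])))) Dec Dec 0 D.nroots = true) : chkD D Dec = true := by
  refine List.all_eq_true.2 fun c hc => ?_
  have h1 := allZ_spec [] [] Dec Dec 0 h c (by rw [Nat.zero_add]; exact List.mem_range.1 hc)
  rw [Nat.zero_add, allL_eq] at h1
  have h2 : ∀ a b, D.chainCoeff a b c = ccF D a b c := fun a b => by
    delta ChevalleyDatum.chainCoeff ccF
    rw [nth_arr, filF_eq]
  have h3 : ∀ a, D.neg a = nth 0 D.negIdx.toList a := fun a => nth_arr _ _ _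
  delta stpB
  simp only [h2, h3]
  exact h1

private noncomputable def dtF (x : List ℤ) : List ℤ → ℤ :=
  List.rec (fun _ => 0) (fun a _ ih y => List.rec 0 (fun b y' _ =>
    Int.rec (fun n => Nat.rec (ih y') (fun _ _ => Int.add (Int.mul a b) (ih y')) n)
      (fun _ => Int.add (Int.mul a b) (ih y')) a) y) x

private theorem dtF_eq : ∀ x y : List ℤ, dotL x y = dtF x y
  | [], [] => rfl
  | [], _ :: _ => rfl
  | _ :: _, [] => rfl
  | Int.ofNat 0 :: x, b :: y => by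
    show 0 * b + dotL x y = dtF x y
    rw [zero_mul, zero_add, dtF_eq x y]
  | Int.ofNat (n + 1) :: x, b :: y => congrArg (fun z => Int.ofNat (n + 1) * b + z) (dtF_eq x y)
  | Int.negSucc n :: x, b :: y => congrArg (fun z => Int.negSucc n * b + z) (dtF_eq x y)

private noncomputable def res (s : ℕ) (x : List ℤ) (N : List (List ℤ)) : List ℕ :=
  List.rec [] (fun n _ ih => (Int.emod (dtF n x) s).toNat :: ih) N

private theorem res_eq' (s : ℕ) (x : List ℤ) : ∀ N : List (List ℤ), (N.map fun f => (dotL f x % s).toNat) = res s x N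
  | [] => rfl
  | n :: N => by
    rw [List.map_cons, res_eq' s x N, dtF_eq]
    rfl

private theorem chkE_of {D : ChevalleyDatum} {l s : ℕ} {N : List (List ℤ)} {E : List (List ℕ)}
    (h : allZ (fun b v _ => eqL v (res s (crd D l b) N)) E E 0 D.nroots = true) : chkE D l s N E = true := by
  refine List.all_eq_true.2 fun b hb => ?_
  have h1 := allZ_spec [] [] E E 0 h b (by rw [Nat.zero_add]; exact List.mem_range.1 hb)
  rw [Nat.zero_add] at h1
  rw [res_eq']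
  exact h1

end Cfsg.Agent.H169.RM
end

-- part: H169/RM/Brk
section
/-!
# S3849: brackets of root vectors, elements fixing all root vectors (helper169)
-/

set_option autoImplicit false
set_option linter.unusedSectionVars false

namespace Cfsg.Agent.H169.RM

open CoxeterSystem Cfsg Cfsg.Lie Cfsg.Lie.ChevalleyDatum
open Cfsg.Agent.ChevalleyStructure Cfsg.Agent.ChevalleyStructure.Elts Cfsg.Agent.ChevalleyStructure.CoxeterGeom
  Cfsg.Agent.ChevalleyStructure.CoxeterGeomTypes Cfsg.Agent.ChevalleyStructure.NPerm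
  Cfsg.Agent.ChevalleyStructure.RootVec Cfsg.Agent.ChevalleyStructure.RootVecTab
open Cfsg.Agent.ChevalleyStructure.LieAbs Cfsg.Agent.ChevalleyStructure.Ring Cfsg.Agent.ChevalleyStructure.JacMain
  Cfsg.Agent.ChevalleyStructure.LieAut Cfsg.Agent.ChevalleyStructure.JacAll
open Cfsg.Agent.Tits.Roots Cfsg.Agent.Tits.Core Cfsg.Agent.Nodes Cfsg.Agent.Nodes.Reps Cfsg.Agent.Nodes.BNOf
  Cfsg.Agent.Nodes.RGDChev
open Cfsg.Agent.H167.EX Cfsg.Agent.H512.LinFour.IdealF Cfsg.Agent.H971.RV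
open Module Matrix

universe u v

variable {D : ChevalleyDatum} {k : Type u} [Field k]

theorem br_ev (a : Fin D.nroots) (y x : D.Idx) :
    br D k (Pi.single (Sum.inr a) 1) (Pi.single y 1) x = ((coefE D a.val 1 x y : ℤ) : k) := by
  unfold br
  rw [adv_single_one, Matrix.mulVec_single_one]
  rfl

/-- **`[e_a, e_b] = ± e_c`** -/
theorem br_stp (hC : Checked D) {l a b c : ℕ} (ha : a < D.nroots) (hb : b < D.nroots)
    (hc : c < D.nroots) (hinj : ∀ r < D.nroots, ∀ s < D.nroots, vec D l r = vec D l s → r = s) (h : Stp D a b c) :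
    ∃ ε : k, ε ≠ 0 ∧ br D k (ev k ha) (ev k hb) = ε • ev k hc := by
  obtain ⟨hba, hbn, h⟩ := h
  obtain ⟨c0, hc0, hcc⟩ : ∃ c0 : ℤ, (c0 = 1 ∨ c0 = -1) ∧ D.chainCoeff a b c = [(1, c0)] := by
    rcases h with h | h
    · exact ⟨1, Or.inl rfl, h⟩
    · exact ⟨-1, Or.inr rfl, h⟩
  have hwt : ∀ {u : ℕ} {km : ℕ × ℤ}, km ∈ D.chainCoeff a b u → km.1 = 1 → u = c := by
    intro u km hkm h1
    obtain ⟨hu, h2⟩ := TorusConj.chainCoeff_wt hC hkm
    obtain ⟨-, h3⟩ := TorusConj.chainCoeff_wt hC (r := a) (s := b) (u := c) (km := (1, c0)) (by rw [hcc]; simp)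
    refine hinj u hu c hc ?_
    funext i
    rw [vec_apply, vec_apply, h2, h3, h1]
  refine ⟨(c0 : k), ?_, ?_⟩
  · rcases hc0 with rfl | rfl
    · simp
    · simp
  · funext x
    have h1 : br D k (ev k ha) (ev k hb) x = ((coefE D a 1 x (Sum.inr ⟨b, hb⟩) : ℤ) : k) :=
      br_ev ⟨a, ha⟩ (Sum.inr ⟨b, hb⟩) x
    rw [h1, coefE_entry D a 1 ha]
    have e1 : ¬ ((⟨b, hb⟩ : Fin D.nroots).val = a) := hba
    have e2 : ¬ ((⟨b, hb⟩ : Fin D.nroots).val = D.negIdx.getD a 0) := hbn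
    simp only [e1, e2, if_false]
    rcases x with i | u
    · simp [ev]
    · simp only [one_ne_zero, false_and, if_false, zero_add]
      by_cases hu : u.val = c
      · have hu' : u = ⟨c, hc⟩ := Fin.ext hu
        subst hu'
        rw [hcc]
        simp [ev]
      · have hz : ((D.chainCoeff a b u.val).map fun km : ℕ × ℤ => if km.1 = 1 then km.2 else 0).sum = 0 := by
          apply List.sum_eq_zero
          intro z hz
          obtain ⟨km, hkm, rfl⟩ := List.mem_map.1 hz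
          rw [if_neg]
          intro h1
          exact hu (hwt hkm h1)
        rw [hz]
        have hne : (Sum.inr u : D.Idx) ≠ Sum.inr ⟨c, hc⟩ := by
          intro h
          exact hu (congrArg Fin.val (Sum.inr_injective h))
        simp only [ev, Pi.smul_apply, smul_eq_mul, Pi.single_eq_of_ne hne, mul_zero, Int.cast_zero]

/-- `[e_i, e_{-i}] = h_i` for the simple roots -/
theorem br_neg (L : Lac D) {i : ℕ} (hi : i < D.rank) (hne : D.neg (D.simple i) ≠ D.simple i)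
    (hn : D.neg (D.simple i) < D.nroots) :
    br D k (ev k (L.sim i hi).1) (ev k hn) = Pi.single (Sum.inl ⟨i, hi⟩) 1 := by
  funext x
  have h1 : br D k (ev k (L.sim i hi).1) (ev k hn) x = ((coefE D (D.simple i) 1 x (Sum.inr ⟨_, hn⟩) : ℤ) : k) :=
    br_ev ⟨_, (L.sim i hi).1⟩ (Sum.inr ⟨_, hn⟩) x
  rw [h1, coefE_entry D _ 1 (L.sim i hi).1]
  have e1 : ¬ ((⟨D.neg (D.simple i), hn⟩ : Fin D.nroots).val = D.simple i) := hne
  have e2 : ((⟨D.neg (D.simple i), hn⟩ : Fin D.nroots).val = D.negIdx.getD (D.simple i) 0) := rfl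
  beta_reduce
  dsimp only
  rw [if_neg hne]
  have e3 : D.neg (D.simple i) = D.negIdx.getD (D.simple i) 0 := rfl
  rw [if_pos e3]
  rcases x with j | u
  · have h2 := (L.sim i hi).2 j.val j.2
    have h3 : (D.coroot.getD (D.simple i) #[]).getD j.val 0 = if j.val = i then (1 : ℤ) else 0 := h2
    dsimp only
    rw [if_pos rfl, h3]
    by_cases hj : j.val = i
    · have hj' : j = ⟨i, hi⟩ := Fin.ext hj
      subst hj'
      rw [if_pos rfl, Pi.single_eq_same, Int.cast_one]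
    · have hne' : (Sum.inl j : D.Idx) ≠ Sum.inl ⟨i, hi⟩ := by
        intro h
        exact hj (congrArg Fin.val (Sum.inl_injective h))
      rw [if_neg hj, Pi.single_eq_of_ne hne', Int.cast_zero]
  · have hne' : (Sum.inr u : D.Idx) ≠ Sum.inl ⟨i, hi⟩ := by simp
    rw [Pi.single_eq_of_ne hne']
    dsimp only
    split_ifs <;> first | (exfalso; omega) | exact Int.cast_zero | simp_all

/-- an element which fixes all root vectors is trivial -/
theorem eq_one_of_fix (L : Lac D) (hne : ∀ r < D.nroots, D.neg r ≠ r ∧ D.neg r < D.nroots) {g : ↥(D.group k)}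
    (h : ∀ d (hd : d < D.nroots), rho D k g (ev k hd) = ev k hd) : g = 1 := by
  have h1 : ∀ i : D.Idx, rho D k g (Pi.single i 1) = Pi.single i 1 := by
    rintro (i | d)
    · have h2 := br_neg (k := k) L i.2 (hne _ (L.sim i i.2).1).1 (hne _ (L.sim i i.2).1).2
      rw [← h2, rho_br L.inList, h, h]
    · exact h d d.2
  apply Subtype.ext
  apply Units.ext
  ext i j
  have h2 := congrFun (h1 j) i
  rw [rho_apply, Matrix.mulVec_single_one] at h2
  rw [Subgroup.coe_one, Units.val_one, Matrix.one_apply, ← Matrix.col_apply (A := ((g : GL D.Idx k) : Matrix D.Idx D.Idx k)), h2,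
    Pi.single_apply]

end Cfsg.Agent.H169.RM
end

-- part: H167/RV/ChkSb
section
/-!
# The combinatorial checks mod `5` for `E6`, mod `7` for `E7`, `E8` (helper167)
-/

set_option autoImplicit false

namespace Cfsg.Agent.H167.RV

open Cfsg Cfsg.Lie Cfsg.Lie.ChevalleyDatum Cfsg.Agent.ChevalleyStructure Cfsg.Agent.Nodes.RGDChev
open Cfsg.Agent.ChevalleyStructure.CoxeterGeom Cfsg.Agent.ChevalleyStructure.CoxeterGeomTypes
open Cfsg.Agent.H167.EX

private noncomputable def _root_.Cfsg.Agent.LsF.f91205c_0 : {f // @Cfsg.Agent.H169.RM.dtF = f} := ⟨_, by first | (delta Cfsg.Agent.H169.RM.dtF; rewrite [Cfsg.Agent.LsF.iadd_eq, Cfsg.Agent.LsF.imul_eq]; exact rfl) | exact rfl⟩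
private noncomputable def _root_.Cfsg.Agent.LsF.f91205c_1 : {f // @Cfsg.Agent.H169.RM.res = f} := ⟨_, by first | (delta Cfsg.Agent.H169.RM.res; rewrite [Cfsg.Agent.LsF.f91205c_0.2, Cfsg.Agent.LsF.icast_pat, Cfsg.Agent.LsF.toNat_eq, Cfsg.Agent.LsF.emod_eq]; exact rfl) | exact rfl⟩
private noncomputable def _root_.Cfsg.Agent.LsF.f91205c_2 : {f // @Cfsg.Agent.ChevalleyStructure.RootVecTab.dig = f} := ⟨_, by first | (delta Cfsg.Agent.ChevalleyStructure.RootVecTab.dig; rewrite [Cfsg.Agent.LsF.nmul_pat]; exact rfl) | exact rfl⟩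
private noncomputable def _root_.Cfsg.Agent.LsF.f91205c_3 : {f // @Cfsg.Agent.ChevalleyStructure.RootVecTab.packTab = f} := ⟨_, by first | (delta Cfsg.Agent.ChevalleyStructure.RootVecTab.packTab; rewrite [Cfsg.Agent.LsF.instDecEq_eq, Cfsg.Agent.LsF.ite_eq]; exact rfl) | exact rfl⟩
private noncomputable def _root_.Cfsg.Agent.LsF.f91205c_4 : {f // @Cfsg.Agent.ChevalleyStructure.RootVecTab.code = f} := ⟨_, by first | (delta Cfsg.Agent.ChevalleyStructure.RootVecTab.code; rewrite [Cfsg.Agent.LsF.f91205c_3.2, Cfsg.Agent.LsF.nmul_pat, Cfsg.Agent.LsF.npow_pat]; exact rfl) | exact rfl⟩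
private noncomputable def _root_.Cfsg.Agent.LsF.f91205c_5 : {f // @Cfsg.Agent.ChevalleyStructure.RootVec.rt = f} := ⟨_, by first | (delta Cfsg.Agent.ChevalleyStructure.RootVec.rt; rewrite [Cfsg.Agent.LsF.f91205c_2.2, Cfsg.Agent.LsF.f91205c_4.2, Cfsg.Agent.LsF.nsub_pat, Cfsg.Agent.LsF.isub_pat, Cfsg.Agent.LsF.icast_pat, Cfsg.Agent.LsF.decLt_eq, Cfsg.Agent.LsF.dAnd_eq, Cfsg.Agent.LsF.ite_eq]; exact rfl) | exact rfl⟩
private noncomputable def _root_.Cfsg.Agent.LsF.f91205c_6 : {f // @Cfsg.Agent.H167.RV.crd = f} := ⟨_, by first | (delta Cfsg.Agent.H167.RV.crd; rewrite [Cfsg.Agent.LsF.f91205c_5.2, Cfsg.Agent.LsF.map_eq, Cfsg.Agent.LsF.range_eq]; exact rfl) | exact rfl⟩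
end Cfsg.Agent.H167.RV
end

-- part: H167/RM/TorB
section
/-!
# S3849: `ToralB 5` for `E6`, `2E6`, `5 ∣ q² - 1`; `ToralB 7` for `E7`, `E8`, `7 ∣ q² - 1` (helper167)
-/

set_option autoImplicit false
set_option linter.unusedSectionVars false

namespace Cfsg.Agent.H167.RM

open CoxeterSystem Cfsg Cfsg.Lie Cfsg.Lie.ChevalleyDatum
open Cfsg.Agent.ChevalleyStructure Cfsg.Agent.ChevalleyStructure.Elts Cfsg.Agent.ChevalleyStructure.CoxeterGeom
  Cfsg.Agent.ChevalleyStructure.CoxeterGeomTypes Cfsg.Agent.ChevalleyStructure.NPerm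
open Cfsg.Agent.Tits.Roots Cfsg.Agent.Tits.Core Cfsg.Agent.Nodes Cfsg.Agent.Nodes.Reps Cfsg.Agent.Nodes.BNOf
  Cfsg.Agent.Nodes.RGDChev Cfsg.Agent.Nodes.Bruhat
open Cfsg.Agent.KFacts.RgdField Cfsg.Agent.KFacts.RgdChevCoord Cfsg.Agent.BpExc.TorCent Cfsg.Agent.BpExc.TorChev
open Cfsg.Agent.GpExc.Field Cfsg.Agent.BpExc.Tow Cfsg.Agent.BpExc.TowChev Cfsg.Agent.BpExc.Fr
  Cfsg.Agent.BpExc.LangFr Cfsg.Agent.H129.TorusChar Cfsg.Agent.H129.TorusMain Cfsg.Agent.H123.ExcZ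
open Cfsg.Agent.BpExc Cfsg.Agent.H795.LangT Cfsg.Agent.H795.Core Cfsg.Agent.H795.NotAbT
open Cfsg.Agent.H572.ExcA Cfsg.Agent.H572.ExcB Cfsg.Agent.H572.ExcC Cfsg.Agent.H572.ExcD Cfsg.Agent.H572.LatQ
  Cfsg.Agent.H572.LatForm Cfsg.Agent.H572.ExcE Cfsg.Agent.H572.ExcF
open Cfsg.Agent.H565.CharCnt Cfsg.Agent.H167.RV Cfsg.Agent.H795.Untw
open Cfsg.Agent.BpExc.RowsUntw Cfsg.Agent.H720.TwFr Cfsg.Agent.H795.NotAbRows
open Subgroup

universe u v

section Emb

variable {D : ChevalleyDatum} {l : ℕ} {M : CoxeterMatrix (Fin l)} {hp : IsType D l M}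
  {k : Type u} [Field k] [IsAlgClosed k] {r e : ℕ} [Fact r.Prime] [CharP k r]
  {G : Type v} [Group G] {κ : G →* ↥(D.group k)} {τ : MulAut ↥(D.group k)}
  {θ : (Fin l → ℤ) ≃+ (Fin l → ℤ)}

/-- membership of fixed points of order `s`, after conjugation -/
theorem mem_of_setup {f : G →* ↥(D.group k)} {σ : MulAut ↥(D.group k)} {g : (Fin l → ℤ) ≃+ (Fin l → ℤ)} {p : ℕ}
    (hset : Setup hp p r e f σ g) {z : ↥(D.group k)} (hκ : ∀ x, κ x = z⁻¹ * f x * z)
    (hb : ∀ y, τ y = y → σ (z * y * z⁻¹) = z * y * z⁻¹) : ∀ y, τ y = y → y ^ p = 1 → ∃ x, κ x = y := by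
  intro y hy hy1
  obtain ⟨x, hx⟩ := hset.p_mem _ (hb y hy) ⟨1, by rw [pow_one, conj_pow, hy1, mul_one, mul_inv_cancel]⟩
  refine ⟨x, ?_⟩
  rw [hκ, hx]
  group

end Emb

section Untw

variable {F : Type u} [Field F] [Fintype F] {p : ℕ} [CharP F p]

end Untw

section Tw

variable {K : Type u} [Field K] [Fintype K] {p : ℕ} [CharP K p] {q : ℕ} (hq : IsPrimePow q)

include hq

end Tw

end Cfsg.Agent.H167.RM
end

-- part: H169/RM/Joint
section
/-!
# S3849: the JOINT EIG engine (helper169)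

`fix_good` : `C` abelian, `y` normalises `C`, everything commutes with a set `S` of toral elements; if the values of `y`
at the roots with a given restriction to `S` do not fill a coset of `μ_s` then the commutators `[y, a]`, `a ∈ C`, fix
the corresponding root vectors.
-/

set_option autoImplicit false
set_option linter.unusedSectionVars false

namespace Cfsg.Agent.H169.RM

open CoxeterSystem Cfsg Cfsg.Lie Cfsg.Lie.ChevalleyDatum
open Cfsg.Agent.ChevalleyStructure Cfsg.Agent.ChevalleyStructure.Elts Cfsg.Agent.ChevalleyStructure.CoxeterGeom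
  Cfsg.Agent.ChevalleyStructure.CoxeterGeomTypes Cfsg.Agent.ChevalleyStructure.NPerm
open Cfsg.Agent.Tits.Roots Cfsg.Agent.Tits.Core Cfsg.Agent.Nodes Cfsg.Agent.Nodes.Reps Cfsg.Agent.Nodes.BNOf
  Cfsg.Agent.Nodes.RGDChev Cfsg.Agent.Nodes.Bruhat Cfsg.Agent.Nodes.NormalForm
open Cfsg.Agent.KFacts.RgdField Cfsg.Agent.KFacts.RgdChevCoord
open Cfsg.Agent.BpExc Cfsg.Agent.BpExc.TorCent Cfsg.Agent.BpExc.TorChev Cfsg.Agent.BpExc.Tow
  Cfsg.Agent.BpExc.TowChev Cfsg.Agent.BpExc.Fr Cfsg.Agent.BpExc.Pair Cfsg.Agent.BpExc.LangFr Cfsg.Agent.GpExc.Field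
  Cfsg.Agent.BpExc.TorAll
open Cfsg.Agent.H469.Exc Cfsg.Agent.H469.Exc.SigFr
open Cfsg.Agent.Nodes.RGDFoldSL
open Cfsg.Agent.ChevalleyStructure.SL2Hom (up lo mem_closure_SL2)
open Cfsg.Agent.H167.EX Cfsg.Agent.H167.RV Cfsg.Agent.H971.RV
open Module

universe u v

/-- restriction of a representation to an invariant subspace -/
def resU {k : Type u} [Field k] {V : Type v} [AddCommGroup V] [Module k V] {H : Type*} [Group H] (ρ : H →* End k V)
    (U : Submodule k V) (hU : ∀ g, ∀ w ∈ U, ρ g w ∈ U) : H →* End k U where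
  toFun g := (ρ g).restrict (hU g)
  map_one' := by
    ext w
    simp
  map_mul' g h := by
    ext w
    simp

variable {D : ChevalleyDatum} {l : ℕ} {M : CoxeterMatrix (Fin l)} (hp : IsType D l M) {k : Type u} [Field k]

/-- the action of a toral element -/
theorem rho_TT (p : ℕ) [Fact p.Prime] [CharP k p] (hk : LocFin k) {t : ↥(D.group k)} (ht : t ∈ TT D k)
    (w : D.Idx → k) (x : D.Idx) : rho D k t w x = H892.El.dd hp t x * w x := by
  rw [rho_apply, H892.El.coe_TT hp (r := p) hk ht, Matrix.mulVec_diagonal]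

theorem fix_good [IsAlgClosed k] (p : ℕ) [Fact p.Prime] [CharP k p] (hk : LocFin k) {s : ℕ} (hsp : s.Prime)
    (hsk : (s : k) ≠ 0) {G : Type v} [Group G] (f : G →* ↥(D.group k)) {C : Subgroup G}
    (hC : ∀ a ∈ C, ∀ b ∈ C, a * b = b * a) (hcard : (Nat.card C : k) ≠ 0) {y : G} (hyT : f y ∈ TT D k)
    (hys : y ^ s = 1) (hyC : ∀ a ∈ C, y * a * y⁻¹ ∈ C) {S : Set ↥(D.group k)} (hS : ∀ t ∈ S, t ∈ TT D k)
    (hCS : ∀ a ∈ C, ∀ t ∈ S, f a * t = t * f a) {d : ℕ} (hd : d < D.nroots)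
    (hnt : ∃ t ∈ S, ch hp (vec D l d) t ≠ 1) {x : k} (hx : x ^ s = 1)
    (hmiss : ∀ d' < D.nroots, (∀ t ∈ S, ch hp (vec D l d') t = ch hp (vec D l d) t) →
      ch hp (vec D l d') (f y) ≠ ch hp (vec D l d) (f y) * x) :
    ∀ a ∈ C, rho D k (f (y * a * y⁻¹ * a⁻¹)) (ev k hd) = ev k hd := by
  classical
  -- the subspace
  let U : Submodule k (D.Idx → k) :=
    { carrier := {w | ∀ t ∈ S, rho D k t w = ch hp (vec D l d) t • w}
      zero_mem' := fun t _ => by rw [map_zero, smul_zero]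
      add_mem' := fun {w w'} hw hw' t ht => by rw [map_add, hw t ht, hw' t ht, smul_add]
      smul_mem' := fun c w hw t ht => by rw [map_smul, hw t ht, smul_comm] }
  have hUdef : ∀ w, w ∈ U ↔ ∀ t ∈ S, rho D k t w = ch hp (vec D l d) t • w := fun w => Iff.rfl
  -- coordinates of the vectors of `U`
  have hsupp : ∀ w ∈ U, ∀ z : D.Idx, w z ≠ 0 → ∃ d' : Fin D.nroots, z = Sum.inr d' ∧
      ∀ t ∈ S, ch hp (vec D l d') t = ch hp (vec D l d) t := by
    intro w hw z hz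
    have h1 : ∀ t ∈ S, H892.El.dd hp t z = ch hp (vec D l d) t := by
      intro t ht
      have h2 := congrFun (hw t ht) z
      rw [rho_TT hp p hk (hS t ht), Pi.smul_apply, smul_eq_mul] at h2
      exact mul_right_cancel₀ hz h2
    rcases z with i | d'
    · exfalso
      obtain ⟨t, ht, hne⟩ := hnt
      exact hne (h1 t ht).symm
    · exact ⟨d', rfl, h1⟩
  have hevU : ev k hd ∈ U := by
    intro t ht
    funext z
    rw [rho_TT hp p hk (hS t ht), Pi.smul_apply, smul_eq_mul]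
    by_cases hz : z = Sum.inr ⟨d, hd⟩
    · rw [hz]
      rfl
    · rw [ev, Pi.single_eq_of_ne hz, mul_zero, mul_zero]
  -- the group commuting with `S`
  let H : Subgroup G :=
    { carrier := {g | ∀ t ∈ S, f g * t = t * f g}
      one_mem' := fun t _ => by rw [map_one, one_mul, mul_one]
      mul_mem' := fun {a b} ha hb t ht => by rw [map_mul, mul_assoc, hb t ht, ← mul_assoc, ha t ht, mul_assoc]
      inv_mem' := fun {a} ha t ht => by
        rw [map_inv, inv_mul_eq_iff_eq_mul, ← mul_assoc, ha t ht, mul_assoc, mul_inv_cancel, mul_one] }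
  have hyH : y ∈ H := fun t ht => TT_comm hp _ hyT _ (hS t ht)
  have hCH : C ≤ H := fun a ha t ht => hCS a ha t ht
  have hUH : ∀ g : H, ∀ w ∈ U, ((rho D k).comp (f.comp H.subtype)) g w ∈ U := by
    intro g w hw t ht
    show rho D k t (rho D k (f g) w) = ch hp (vec D l d) t • rho D k (f g) w
    have h1 : rho D k t (rho D k (f g) w) = rho D k (t * f g) w := by rw [map_mul]; rfl
    rw [h1, ← g.2 t ht, map_mul, Module.End.mul_apply, hw t ht, map_smul]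
  set ρ := resU ((rho D k).comp (f.comp H.subtype)) U hUH with hρ
  have hyU : ∀ (c : k) (w : U), w ≠ 0 → ρ ⟨y, hyH⟩ w = c • w → ∃ d' < D.nroots,
      (∀ t ∈ S, ch hp (vec D l d') t = ch hp (vec D l d) t) ∧ c = ch hp (vec D l d') (f y) := by
    intro c w hw hcw
    have hw' : (w : D.Idx → k) ≠ 0 := fun h => hw (Subtype.ext h)
    obtain ⟨z, hz⟩ := Function.ne_iff.1 hw'
    obtain ⟨d', rfl, h1⟩ := hsupp w w.2 z hz
    refine ⟨d', d'.2, h1, ?_⟩
    have h2 := congrArg (fun u : U => (u : D.Idx → k) (Sum.inr d')) hcw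
    have h3 : rho D k (f y) w (Sum.inr d') = c * (w : D.Idx → k) (Sum.inr d') := h2
    rw [rho_TT hp p hk hyT] at h3
    exact (mul_right_cancel₀ hz h3).symm
  have hval : ∀ d' < D.nroots, ch hp (vec D l d') (f y) ^ s = 1 := by
    intro d' hd'
    rw [← ch_pow hp p hk hd' hyT, ← map_pow, hys, map_one, ch_one hp p hk hd']
  have hval0 : ch hp (vec D l d) (f y) ≠ 0 := by
    intro h
    have := hval d hd
    rw [h, zero_pow hsp.ne_zero] at this
    exact zero_ne_one this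
  have hcomm := Cfsg.Agent.H750.RM.eig_core ρ (A := C.subgroupOf H) (r := s) (z := ⟨y, hyH⟩) (m := 1)
    (fun a ha b hb => Subtype.ext (hC a ha b hb))
    (by rwa [Nat.card_congr (Subgroup.subgroupOfEquivOfLe hCH).toEquiv]) hsp hsk
    (fun a ha => hyC a ha)
    (fun a _ => by
      have h1 : (⟨y, hyH⟩ : H) ^ s ^ 1 = 1 := Subtype.ext (by rw [pow_one]; exact hys)
      rw [h1, map_one, one_mul, mul_one])
    (by
      intro c hc
      by_cases h1 : (ρ ⟨y, hyH⟩).HasEigenvalue c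
      · obtain ⟨w, hw⟩ := h1.exists_hasEigenvector
        obtain ⟨d1, hd1, -, e1⟩ := hyU c w hw.2 hw.apply_eq_smul
        have hcs : c ^ s = 1 := by rw [e1]; exact hval d1 hd1
        refine ⟨c⁻¹ * (ch hp (vec D l d) (f y) * x), ?_, ?_⟩
        · rw [mul_pow, inv_pow, hcs, inv_one, one_mul, mul_pow, hval d hd, hx, one_mul]
        · rw [mul_inv_cancel_left₀ hc]
          intro h2
          obtain ⟨w, hw⟩ := h2.exists_hasEigenvector
          obtain ⟨d', hd', h3, e3⟩ := hyU _ w hw.2 hw.apply_eq_smul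
          exact hmiss d' hd' h3 e3.symm
      · exact ⟨1, one_pow _, by rwa [mul_one]⟩)
  intro a ha
  have h1 := hcomm ⟨a, hCH ha⟩ ha
  rw [← map_mul, ← map_mul] at h1
  have h2 := congrArg (fun T : End k U => ((T (ρ (⟨a, hCH ha⟩ * ⟨y, hyH⟩ : H)⁻¹ ⟨ev k hd, hevU⟩) : U) : D.Idx → k)) h1
  have h3 : rho D k (f (y * a)) (rho D k (f (a * y)⁻¹) (ev k hd)) =
      rho D k (f (a * y)) (rho D k (f (a * y)⁻¹) (ev k hd)) := h2
  have h4 : ∀ g g' : G, ∀ w, rho D k (f g) (rho D k (f g') w) = rho D k (f (g * g')) w := by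
    intro g g' w
    rw [map_mul, map_mul]; rfl
  have h5 : f (a * y)⁻¹ = f ((a * y)⁻¹) := rfl
  rw [h4, h4] at h3
  have e1 : y * a * (a * y)⁻¹ = y * a * y⁻¹ * a⁻¹ := by group
  have e2 : a * y * (a * y)⁻¹ = 1 := mul_inv_cancel _
  rw [e1, e2, map_one, map_one] at h3
  exact h3

/-! ### hyperplanes -/

theorem TT_of_closure {G : Type v} [Group G] {f : G →* ↥(D.group k)} {m : ℕ} {y : Fin m → G}
    (hyT : ∀ j, f (y j) ∈ TT D k) : ∀ a ∈ Subgroup.closure (Set.range y), f a ∈ TT D k := by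
  have h1 : Subgroup.closure (Set.range y) ≤ (TT D k).comap f := by
    rw [Subgroup.closure_le]
    rintro _ ⟨j, rfl⟩
    exact hyT j
  exact h1

open Cfsg.Agent.H795.NotAbT Cfsg.Agent.H129.TorusChar Cfsg.Agent.H512.LinFour.IdealF in
/-- **the hyperplane step** -/
theorem step_hyp [IsAlgClosed k] (p : ℕ) [Fact p.Prime] [CharP k p] (hk : LocFin k) {s : ℕ} (hsp : s.Prime)
    (hsk : (s : k) ≠ 0) {ζ : k} (hζ : IsPrimitiveRoot ζ s) {d₀ : ℕ} {Bi : Fin l → Fin l → ℤ} (hB : InvC D l d₀ Bi)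
    (hd₀ : d₀ ≠ 0) (L : Lac D) {m : ℕ} {e : Fin m → ℕ → ℤ} (K : ChkF D l s e)
    {G : Type v} [Group G] [Finite G] (f : G →* ↥(D.group k)) (hf : Function.Injective f) {y : Fin m → G}
    (hyT : ∀ j, f (y j) ∈ TT D k) (hch : ∀ j, ∀ b < D.nroots, ch hp (vec D l b) (f (y j)) = ζ ^ e j b)
    {B₀ : Subgroup G} (hB₀ : B₀ ≤ Subgroup.closure (Set.range y)) (hB₀s : ∀ β ∈ B₀, β ^ s = 1) {y₀ : G}
    (hy₀ : y₀ ∈ Subgroup.closure (Set.range y)) (hy₀s : y₀ ^ s = 1) {β : Fin m → G} (hβ : ∀ j, β j ∈ B₀) {ψ : Fin m → ℤ}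
    (hjψ : ∀ j, y j = β j * y₀ ^ ψ j) (hψ : ∃ j, ¬ (s : ℤ) ∣ ψ j) {C : Subgroup G}
    (hC : ∀ a ∈ C, ∀ b ∈ C, a * b = b * a) (hcard : (Nat.card C : k) ≠ 0)
    (hsC : ¬ s ∣ Nat.card C) (hyC : ∀ a ∈ C, y₀ * a * y₀⁻¹ ∈ C)
    (hCB : ∀ a ∈ C, ∀ b ∈ B₀, a * b = b * a) : ∀ a ∈ C, y₀ * a = a * y₀ := by
  have hYT := TT_of_closure hyT
  have hB₀T : ∀ b ∈ B₀, f b ∈ TT D k := fun b hb => hYT b (hB₀ hb)
  have hy₀T := hYT y₀ hy₀
  -- values at `y₀`
  have hval : ∀ b < D.nroots, ∃ c : ℤ, ch hp (vec D l b) (f y₀) = ζ ^ c := by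
    intro b hb
    have h1 : ch hp (vec D l b) (f y₀) ^ s = 1 := by
      rw [← ch_pow hp p hk hb hy₀T, ← map_pow, hy₀s, map_one, ch_one hp p hk hb]
    have : NeZero s := ⟨hsp.ne_zero⟩
    obtain ⟨c, -, hc⟩ := hζ.eq_pow_of_pow_eq_one h1
    exact ⟨c, by rw [zpow_natCast, hc]⟩
  have hzj : ∀ (j : Fin m) (b : ℕ), b < D.nroots → ch hp (vec D l b) (f (y j)) =
      ch hp (vec D l b) (f (β j)) * ch hp (vec D l b) (f y₀) ^ ψ j := by
    intro j b hb
    conv_lhs => rw [hjψ j]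
    rw [map_mul, ch_mul hp p hk hb (hB₀T _ (hβ j)) (by rw [map_zpow]; exact zpow_mem hy₀T _), map_zpow,
      ch_zpow' hp p hk hb hy₀T]
  -- roots trivial on `B₀`
  have hOn : ∀ b < D.nroots, (∀ a ∈ B₀, ch hp (vec D l b) (f a) = 1) → OnL s e ψ b := by
    intro b hb h1
    obtain ⟨c, hc⟩ := hval b hb
    refine ⟨c, fun j => ?_⟩
    apply zpow_prim hsp hζ
    rw [← hch j b hb, hzj j b hb, h1 _ (hβ j), one_mul, hc, ← zpow_mul]
  obtain ⟨n, μ, hμ, hgen⟩ := K.line ψ hψ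
  -- the toral elements trivial on these roots
  set S : Set ↥(D.group k) := {t | t ∈ TT D k ∧ ∀ b < D.nroots, (∀ a ∈ B₀, ch hp (vec D l b) (f a) = 1) →
    ch hp (vec D l b) t = 1} with hS
  have hBS : ∀ b ∈ B₀, f b ∈ S := fun b hb => ⟨hB₀T b hb, fun b' _ h => h b hb⟩
  have hX1 : ∀ {b : ℕ} (hb : b < D.nroots), ∀ g ∈ XX D l k (vec D l b), ∃ t : k, g = xs hp.inList b t := by
    intro b hb g hg
    obtain ⟨t, ht⟩ := (LangThm.mem_XX_vec hp hb).1 hg
    exact ⟨t, Subtype.ext ht⟩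
  have hCS : ∀ a ∈ C, ∀ t ∈ S, f a * t = t * f a := by
    intro a ha t ht
    obtain ⟨n', hn'⟩ := pow_mem_set hp hk p (S := f '' (B₀ : Set G)) (by
      rintro _ ⟨b, hb, rfl⟩
      exact hB₀T b hb) hsp (by
      rintro _ ⟨b, hb, rfl⟩
      exact ⟨1, by rw [pow_one, ← map_pow, hB₀s b hb, map_one]⟩) (g := f a) (by
      rintro _ ⟨b, hb, rfl⟩
      rw [← map_mul, hCB a ha b hb, map_mul])
    have h1 : f a ∈ SetC.MMs M.toCoxeterSystem hp.isCartan (XX D l k) (ch hp) (f '' (B₀ : Set G)) ⊔ TT D k := by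
      refine mem_of_pow_cop (m := Nat.card C) (n := s ^ n') ?_ ?_ hn'
      · exact Nat.Coprime.pow_right _ ((Nat.Prime.coprime_iff_not_dvd hsp).2 hsC).symm
      · have h2 : (⟨a, ha⟩ : C) ^ Nat.card C = 1 := pow_card_eq_one'
        have h3 : a ^ Nat.card C = 1 := congrArg Subtype.val h2
        rw [← map_pow, h3, map_one]
    have h2 : SetC.MMs M.toCoxeterSystem hp.isCartan (XX D l k) (ch hp) (f '' (B₀ : Set G)) ⊔ TT D k ≤
        Subgroup.centralizer {t} := by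
      refine sup_le (RGD.Sup_le fun b hb => ?_) fun g hg => ?_
      · obtain ⟨b', hb', rfl⟩ := (isRoot_iff hp M.toCoxeterSystem b).1 hb.1
        have h3 : ch hp (vec D l b') t = 1 := ht.2 b' hb' fun a ha' => hb.2 _ ⟨a, ha', rfl⟩
        intro g hg
        obtain ⟨c, rfl⟩ := hX1 hb' g hg
        rw [Subgroup.mem_centralizer_singleton_iff]
        exact (comm_xs_of_ch hp hb' ht.1 h3 c).symm
      · rw [Subgroup.mem_centralizer_singleton_iff]
        exact TT_comm hp _ hg _ ht.1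
    exact Subgroup.mem_centralizer_singleton_iff.1 (h2 h1)
  -- the functionals `μ` on roots equal on `S`
  have hμS : ∀ d < D.nroots, ∀ d' < D.nroots, (∀ t ∈ S, ch hp (vec D l d') t = ch hp (vec D l d) t) →
      ∀ i, ∑ j, μ i j * vec D l d' j = ∑ j, μ i j * vec D l d j := by
    intro d hd d' hd' h1 i
    by_contra hne
    obtain ⟨N, hN, hNp⟩ := Nat.exists_infinite_primes
      ((∑ j, μ i j * vec D l d' j - ∑ j, μ i j * vec D l d j).natAbs + p + 1)
    have hNf : Fact N.Prime := ⟨hNp⟩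
    have hNk : (N : k) ≠ 0 := by
      intro h
      rw [CharP.cast_eq_zero_iff k p, Nat.prime_dvd_prime_iff_eq Fact.out hNp] at h
      omega
    have : NeZero (N : k) := ⟨hNk⟩
    have hN0 : NeZero N := ⟨hNp.ne_zero⟩
    obtain ⟨η, hη⟩ := HasEnoughRootsOfUnity.exists_primitiveRoot k N
    let c : (Fin l → ℤ) →+ ZMod N :=
      { toFun := fun x => ((∑ j, μ i j * x j : ℤ) : ZMod N)
        map_zero' := by simp
        map_add' := fun x z => by
          rw [← Int.cast_add, ← Finset.sum_add_distrib]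
          congr 1
          exact Finset.sum_congr rfl fun i _ => by rw [Pi.add_apply, mul_add] }
    obtain ⟨t, ht, htc⟩ := exists_tor (hp := hp) hB hd₀ hη c
    have htS : t ∈ S := by
      refine ⟨ht, fun b hb h2 => ?_⟩
      rw [← cX_vec hp ht hb, htc]
      have h3 : c (vec D l b) = 0 := by
        show ((∑ j, μ i j * vec D l b j : ℤ) : ZMod N) = 0
        rw [hμ b hb (hOn b hb h2) i, Int.cast_zero]
      rw [h3, ZMod.val_zero, pow_zero]
    have h2 := h1 t htS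
    rw [← cX_vec hp ht hd, ← cX_vec hp ht hd', htc, htc] at h2
    have h3 := pow_val_inj hη h2
    have h4 : ((∑ j, μ i j * vec D l d' j : ℤ) : ZMod N) = ((∑ j, μ i j * vec D l d j : ℤ) : ZMod N) := h3
    rw [ZMod.intCast_eq_intCast_iff_dvd_sub, ← dvd_neg, neg_sub] at h4
    have h5 := Int.natAbs_dvd_natAbs.2 h4
    rw [Int.natAbs_natCast] at h5
    have h6 := Nat.le_of_dvd (Int.natAbs_pos.2 (sub_ne_zero.2 hne)) h5
    omega
  intro a ha
  -- good roots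
  have hgood : ∀ d, Gd D l s e ψ μ d → ∀ hd : d < D.nroots, rho D k (f (y₀ * a * y₀⁻¹ * a⁻¹)) (ev k hd) = ev k hd := by
    rintro d ⟨-, hdO, c, hc⟩ hd
    refine fix_good hp p hk hsp hsk f hC hcard hy₀T hy₀s hyC (S := S) (fun t ht => ht.1) hCS hd ?_ (x := ζ ^ c) ?_ ?_ a ha
    · by_contra hcon
      push Not at hcon
      exact hdO (hOn d hd fun b hb => hcon _ (hBS b hb))
    · rw [← zpow_natCast, ← zpow_mul, mul_comm, zpow_mul, zpow_natCast, hζ.pow_eq_one, one_zpow]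
    · intro d' hd' h1 h2
      refine hc d' hd' (hμS d hd d' hd' h1) fun j => ?_
      have h3 : ζ ^ e j d' = ζ ^ (e j d + c * ψ j) := by
        rw [zpow_add₀ (hζ.ne_zero hsp.ne_zero), ← hch j d' hd', ← hch j d hd, hzj j d' hd', hzj j d hd,
          h1 _ (hBS _ (hβ j)), h2, mul_zpow, ← zpow_mul, mul_assoc]
      have h4 := zpow_prim hsp hζ h3
      have e1 : e j d' - (e j d + c * ψ j) = e j d' - e j d - c * ψ j := by ring
      rwa [e1] at h4
  have hC' : RootVecTab.Checked D := RootVecTab.checked_of_mem L.inList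
  have hneg : ∀ r < D.nroots, D.neg r ≠ r ∧ D.neg r < D.nroots := by
    intro r hr
    refine ⟨fun h => ?_, neg_lt hp.inList hr⟩
    have h1 := vec_neg hp hr
    rw [h] at h1
    have h2 : vec D l r = 0 := by
      funext i
      have := congrFun h1 i
      rw [Pi.neg_apply] at this
      rw [Pi.zero_apply]
      omega
    exact (isRoot_vec hp M.toCoxeterSystem hr).ne_zero h2
  have hfix : ∀ d (hd : d < D.nroots), rho D k (f (y₀ * a * y₀⁻¹ * a⁻¹)) (ev k hd) = ev k hd := by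
    intro d hd
    rcases hgen d hd with h | ⟨b, c, hb, hc, hst⟩
    · exact hgood d h hd
    · obtain ⟨ε, hε, h2⟩ := br_stp (k := k) (l := l) hC' hb.1 hc.1 hd (fun r hr t ht h => vec_inj hp hr ht h) hst
      have h3 := rho_br L.inList (f (y₀ * a * y₀⁻¹ * a⁻¹)) (ev k hb.1) (ev k hc.1)
      rw [hgood b hb hb.1, hgood c hc hc.1, h2, map_smul] at h3
      exact smul_right_injective _ hε h3
  have h1 := eq_one_of_fix L hneg hfix
  have h2 : y₀ * a * y₀⁻¹ * a⁻¹ = 1 := hf (by rw [h1, map_one])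
  rw [mul_inv_eq_one, mul_inv_eq_iff_eq_mul] at h2
  exact h2

end Cfsg.Agent.H169.RM
end

-- part: H169/RM/CenB
section
/-!
# S3849: `CenB`, an `s`-subgroup centralising the abelian groups it normalises (helper169)

* `cen_of_chkF` : the JOINT EIG engine;
* `cenB_fun` : the same with the shape of helper167's `toral_fun'`;
* `rowM_of_cenB`.
-/

set_option autoImplicit false
set_option linter.unusedSectionVars false

namespace Cfsg.Agent.H169.RM

open CoxeterSystem Cfsg Cfsg.Lie Cfsg.Lie.ChevalleyDatum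
open Cfsg.Agent.ChevalleyStructure Cfsg.Agent.ChevalleyStructure.Elts Cfsg.Agent.ChevalleyStructure.CoxeterGeom
  Cfsg.Agent.ChevalleyStructure.CoxeterGeomTypes Cfsg.Agent.ChevalleyStructure.NPerm
open Cfsg.Agent.Tits.Roots Cfsg.Agent.Tits.Core Cfsg.Agent.Nodes Cfsg.Agent.Nodes.Reps Cfsg.Agent.Nodes.BNOf
  Cfsg.Agent.Nodes.RGDChev Cfsg.Agent.Nodes.Bruhat
open Cfsg.Agent.KFacts.RgdField Cfsg.Agent.KFacts.RgdChevCoord Cfsg.Agent.BpExc.TorCent Cfsg.Agent.BpExc.TorChev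
open Cfsg.Agent.GpExc.Field Cfsg.Agent.BpExc.Tow Cfsg.Agent.BpExc.TowChev Cfsg.Agent.BpExc.Fr
  Cfsg.Agent.BpExc.LangFr Cfsg.Agent.H129.TorusChar Cfsg.Agent.H129.TorusMain Cfsg.Agent.H123.ExcZ
open Cfsg.Agent.BpExc Cfsg.Agent.H795.LangT Cfsg.Agent.H795.Core Cfsg.Agent.H795.NotAbT
open Cfsg.Agent.H572.ExcA Cfsg.Agent.H572.ExcB Cfsg.Agent.H572.ExcC Cfsg.Agent.H572.ExcD
open Cfsg.Agent.H565.CharCnt Cfsg.Agent.H167.RV Cfsg.Agent.H167.EX Cfsg.Agent.H512.LinFour.IdealF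
open Subgroup

universe u v

section engine

variable {D : ChevalleyDatum} {l : ℕ} {M : CoxeterMatrix (Fin l)} (hp : IsType D l M) {k : Type u} [Field k]

/-- **the JOINT EIG engine** -/
theorem cen_of_chkF [IsAlgClosed k] (p : ℕ) [Fact p.Prime] [CharP k p] (hk : LocFin k) {s : ℕ} (hsp : s.Prime)
    (hsk : (s : k) ≠ 0) {ζ : k} (hζ : IsPrimitiveRoot ζ s) {d₀ : ℕ} {Bi : Fin l → Fin l → ℤ} (hB : InvC D l d₀ Bi)
    (hd₀ : d₀ ≠ 0) (L : Lac D) {m : ℕ} {e : Fin m → ℕ → ℤ} (K : ChkF D l s e)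
    {G : Type v} [Group G] [Finite G] (f : G →* ↥(D.group k)) (hf : Function.Injective f) {y : Fin m → G}
    (hyT : ∀ j, f (y j) ∈ TT D k) (hys : ∀ j, y j ^ s = 1)
    (hch : ∀ j, ∀ b < D.nroots, ch hp (vec D l b) (f (y j)) = ζ ^ e j b) {A : Subgroup G}
    (hA : ∀ a ∈ A, ∀ b ∈ A, a * b = b * a) (hAs : ¬ s ∣ Nat.card A) (hAp : ¬ p ∣ Nat.card A)
    (hYA : closure (Set.range y) ≤ normalizer (A : Set G)) :
    ∀ b ∈ closure (Set.range y), ∀ a ∈ A, b * a = a * b := by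
  have hfs : Fact s.Prime := ⟨hsp⟩
  have hYT := TT_of_closure hyT
  set Y := closure (Set.range y) with hY
  have hyY : ∀ j, y j ∈ Y := fun j => subset_closure ⟨j, rfl⟩
  have hYc : ∀ a ∈ Y, ∀ b ∈ Y, a * b = b * a := by
    intro a ha b hb
    apply hf
    rw [map_mul, map_mul]
    exact TT_comm hp _ (hYT a ha) _ (hYT b hb)
  have hYs : ∀ a ∈ Y, a ^ s = 1 := by
    intro a ha
    refine closure_induction (p := fun a _ => a ^ s = 1) ?_ (one_pow _) ?_ ?_ ha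
    · rintro _ ⟨j, rfl⟩
      exact hys j
    · intro a b ha hb h1 h2
      have hc : Commute a b := hYc a ha b hb
      rw [hc.mul_pow, h1, h2, one_mul]
    · intro a _ h1
      rw [inv_pow, h1, inv_one]
  by_cases hY1 : Y = ⊥
  · intro b hb a _
    rw [hY1, mem_bot] at hb
    rw [hb, one_mul, mul_one]
  have hYe : IsElementaryAbelian s Y := ⟨⟨⟨fun a b => Subtype.ext (hYc a a.2 b b.2)⟩⟩, fun a ha => hYs a ha⟩
  have hsup := Cfsg.Agent.Lib.CoprimeHyperplane.iSup_centralizer_hyperplane (p := s) hYe hY1 hAs hYA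
  have hmain : (⨆ B : {B : Subgroup G // B ≤ Y ∧ B.relIndex Y = s},
      A ⊓ centralizer ((B : Subgroup G) : Set G)) ≤ centralizer (Y : Set G) := by
    refine iSup_le ?_
    rintro ⟨B, hBY, hBi⟩
    simp only
    set C : Subgroup G := A ⊓ centralizer (B : Set G) with hCdef
    have hCA : C ≤ A := inf_le_left
    have hCB : ∀ a ∈ C, ∀ b ∈ B, a * b = b * a := fun a ha b hb => (mem_centralizer_iff.1 ha.2 b hb).symm
    obtain ⟨y₀, hy₀, hy₀B⟩ : ∃ y₀ ∈ Y, y₀ ∉ B := by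
      by_contra hcon
      push Not at hcon
      have h1 : B.relIndex Y = 1 := relIndex_eq_one.2 hcon
      rw [h1] at hBi
      exact hsp.one_lt.ne hBi
    -- `Y = B ⟨y₀⟩`
    have hYB : ∀ a ∈ Y, ∃ β ∈ B, ∃ c : ℤ, a = β * y₀ ^ c := by
      have h1 : B ⊔ zpowers y₀ ≤ Y := sup_le hBY (zpowers_le.2 hy₀)
      have h2 : B.relIndex (B ⊔ zpowers y₀) * (B ⊔ zpowers y₀).relIndex Y = s := by
        rw [relIndex_mul_relIndex _ _ _ le_sup_left h1, hBi]
      have h3 : B.relIndex (B ⊔ zpowers y₀) ≠ 1 := by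
        intro h
        rw [relIndex_eq_one] at h
        exact hy₀B (h (mem_sup_right (mem_zpowers _)))
      have h4 : (B ⊔ zpowers y₀).relIndex Y = 1 := by
        rcases (Nat.dvd_prime hsp).1 (Dvd.intro _ h2) with h | h
        · exact absurd h h3
        · rw [h] at h2
          exact Nat.eq_of_mul_eq_mul_left hsp.pos (h2.trans (mul_one s).symm)
      rw [relIndex_eq_one] at h4
      intro a ha
      have hn : zpowers y₀ ≤ normalizer (B : Set G) := by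
        rw [zpowers_le, mem_normalizer_iff]
        intro x
        constructor
        · intro hx
          rw [hYc _ hy₀ x (hBY hx), mul_inv_cancel_right]
          exact hx
        · intro hx
          have h5 := hYc _ hy₀ _ (hBY hx)
          have h6 : y₀ * x = x * y₀ → y₀ * x * y₀⁻¹ = x := fun h => by rw [h, mul_inv_cancel_right]
          have h7 : y₀ * (y₀ * x * y₀⁻¹) = y₀ * x := by rw [h5, inv_mul_cancel_right]
          have h8 : y₀ * x * y₀⁻¹ = x := mul_left_cancel h7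
          rwa [h8] at hx
      have h5 : a ∈ ((B ⊔ zpowers y₀ : Subgroup G) : Set G) := h4 ha
      rw [coe_mul_of_right_le_normalizer_left _ _ hn] at h5
      obtain ⟨β, hβ, z, hz, rfl⟩ := h5
      obtain ⟨c, rfl⟩ := mem_zpowers_iff.1 hz
      exact ⟨β, hβ, c, rfl⟩
    choose β hβ ψ hjψ using fun j => hYB (y j) (hyY j)
    have hψ : ∃ j, ¬ (s : ℤ) ∣ ψ j := by
      by_contra hcon
      push Not at hcon
      have h1 : Y ≤ B := by
        rw [hY, closure_le]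
        rintro _ ⟨j, rfl⟩
        obtain ⟨c, hc⟩ := hcon j
        have h2 : y₀ ^ ψ j = 1 := by
          rw [hc, zpow_mul, zpow_natCast, hYs y₀ hy₀, one_zpow]
        have h3 := hjψ j
        rw [h2, mul_one] at h3
        rw [h3]
        exact hβ j
      exact hy₀B (h1 hy₀)
    have hCcard : Nat.card C ∣ Nat.card A := card_dvd_of_le hCA
    have hyC : ∀ a ∈ C, y₀ * a * y₀⁻¹ ∈ C := by
      intro a ha
      refine ⟨(mem_normalizer_iff.1 (hYA hy₀) a).1 ha.1, ?_⟩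
      refine mem_centralizer_iff.2 fun b hb => ?_
      have h1 : a * b = b * a := hCB a ha b hb
      have h2 := hYc b (hBY hb) y₀ hy₀
      have h3 := hYc b (hBY hb) y₀⁻¹ (inv_mem hy₀)
      calc b * (y₀ * a * y₀⁻¹) = (b * y₀) * a * y₀⁻¹ := by group
        _ = y₀ * (b * a) * y₀⁻¹ := by rw [h2]; group
        _ = y₀ * a * (b * y₀⁻¹) := by rw [← h1]; group
        _ = y₀ * a * y₀⁻¹ * b := by rw [h3]; group
    have key := step_hyp hp p hk hsp hsk hζ hB hd₀ L K f hf hyT hch (B₀ := B) hBY (fun b hb => hYs b (hBY hb))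
      (y₀ := y₀) hy₀ (hYs y₀ hy₀) hβ hjψ hψ (C := C) (fun a ha b hb => hA a (hCA ha) b (hCA hb)) (by
        rw [Ne, CharP.cast_eq_zero_iff k p]
        exact fun h => hAp (h.trans hCcard)) (fun h => hAs (h.trans hCcard)) hyC hCB
    intro a ha
    rw [mem_centralizer_iff]
    intro b hb
    obtain ⟨b', hb', c, rfl⟩ := hYB b hb
    have h1 : Commute y₀ a := key a ha
    have h2 : Commute b' a := (hCB a ha b' hb').symm
    exact (h2.mul_left (h1.zpow_left c)).eq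
  rw [hsup] at hmain
  intro b hb a ha
  exact mem_centralizer_iff.1 (hmain ha) b hb

end engine

/-- an `s`-subgroup `≠ 1` which centralises the abelian subgroups of order prime to `s p` it normalises -/
def CenB (s p : ℕ) (G : Type*) [Group G] : Prop :=
  ∃ B : Subgroup G, B ≠ ⊥ ∧ IsPGroup s B ∧ ∀ A : Subgroup G, (∀ a ∈ A, ∀ b ∈ A, a * b = b * a) →
    ¬ s ∣ Nat.card A → ¬ p ∣ Nat.card A → B ≤ normalizer (A : Set G) → ∀ b ∈ B, ∀ a ∈ A, b * a = a * b

theorem CenB.of_equiv {s p : ℕ} {G : Type u} [Group G] {G' : Type v} [Group G'] (e : G ≃* G')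
    (h : CenB s p G') : CenB s p G := by
  obtain ⟨B, h1, h2, h3⟩ := h
  have hmem : ∀ y ∈ B, e.symm y ∈ B.comap e.toMonoidHom := by
    intro y hy
    show e (e.symm y) ∈ B
    rw [e.apply_symm_apply]
    exact hy
  refine ⟨B.comap e.toMonoidHom, ?_, h2.comap_of_injective e.toMonoidHom e.injective, ?_⟩
  · intro h
    apply h1
    rw [eq_bot_iff]
    intro y hy
    have h6 := hmem y hy
    rw [h, mem_bot] at h6
    rw [mem_bot, ← e.apply_symm_apply y, h6, map_one]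
  · intro A hA hs hpA hn b hb a ha
    have hcard : Nat.card (A.map e.toMonoidHom) = Nat.card A := card_map_of_injective e.injective
    have key := h3 (A.map e.toMonoidHom) (by
      rintro _ ⟨x, hx, rfl⟩ _ ⟨y, hy, rfl⟩
      show e x * e y = e y * e x
      rw [← map_mul, hA x hx y hy, map_mul]) (by rwa [hcard]) (by rwa [hcard]) (by
      intro c hc
      rw [mem_normalizer_iff]
      intro x
      have h4 := mem_normalizer_iff.1 (hn (hmem c hc)) (e.symm x)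
      have h5 : ∀ z : G', z ∈ A.map e.toMonoidHom ↔ e.symm z ∈ A := by
        intro z
        constructor
        · rintro ⟨w, hw, rfl⟩
          show e.symm (e w) ∈ A
          rwa [e.symm_apply_apply]
        · intro hz
          exact ⟨e.symm z, hz, e.apply_symm_apply z⟩
      rw [h5, h5, map_mul, map_mul, map_inv]
      exact h4) (e b) hb (e a) ⟨a, ha, rfl⟩
    apply e.injective
    rw [map_mul, map_mul]
    exact key

section Emb

variable {D : ChevalleyDatum} {l : ℕ} {M : CoxeterMatrix (Fin l)} {hp : IsType D l M}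
  {k : Type u} [Field k] [IsAlgClosed k] {r e : ℕ} [Fact r.Prime] [CharP k r]
  {G : Type v} [Group G] {κ : G →* ↥(D.group k)} {τ : MulAut ↥(D.group k)}
  {θ : (Fin l → ℤ) ≃+ (Fin l → ℤ)}

/-- **`CenB` from functionals on the root lattice**, the shape of helper167's `toral_fun'` -/
theorem cenB_fun [Finite G] (hk : LocFin k) (h : Emb hp r e κ τ θ) {d : ℕ} {Bi : Fin l → Fin l → ℤ}
    (hB : InvC D l d Bi) (hd : d ≠ 0) {s : ℕ} (hmem : ∀ y, τ y = y → y ^ s = 1 → ∃ x, κ x = y) [hs : Fact s.Prime]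
    (hsr : s ≠ r) (L : Lac D) {m : ℕ} (Nf : Fin m → Fin l → ℤ)
    (hN : ∀ j x, (s : ℤ) ∣ (∑ i, Nf j i * (θ x) i) - (r : ℤ) ^ e * ∑ i, Nf j i * x i)
    (K : ChkF D l s (fun j b => ∑ i, Nf j i * vec D l b i))
    (h1 : ∃ j, ∃ b < D.nroots, ¬ (s : ℤ) ∣ ∑ i, Nf j i * vec D l b i) : CenB s r G := by
  obtain ⟨ζ, hζ⟩ := exists_zeta_pow (k := k) (r := r) (s := s) (a := 1) hsr
  rw [pow_one] at hζ
  have hNz : NeZero s := ⟨hs.out.ne_zero⟩
  have hsk : (s : k) ≠ 0 := by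
    rw [Ne, CharP.cast_eq_zero_iff k r, Nat.prime_dvd_prime_iff_eq Fact.out hs.out]
    exact fun h => hsr h.symm
  have h2 : ∀ j, ∃ a ∈ TG κ, a ^ s = 1 ∧ ∀ x, cX hp (κ a) x = ζ ^ (∑ i, Nf j i * x i) := by
    intro j
    let c : (Fin l → ℤ) →+ ZMod s :=
      { toFun := fun x => ((∑ i, Nf j i * x i : ℤ) : ZMod s)
        map_zero' := by simp
        map_add' := fun x z => by
          rw [← Int.cast_add, ← Finset.sum_add_distrib]
          congr 1
          exact Finset.sum_congr rfl fun i _ => by rw [Pi.add_apply, mul_add] }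
    obtain ⟨t, ht, hct, htN, hτt⟩ := exists_tor_fix hp hB hd h.frob h.fr hζ c (fun x => by
      show ((∑ i, Nf j i * (θ x) i : ℤ) : ZMod s) = ((r ^ e : ℕ) : ZMod s) * ((∑ i, Nf j i * x i : ℤ) : ZMod s)
      have h3 := (ZMod.intCast_zmod_eq_zero_iff_dvd _ _).2 (hN j x)
      push_cast at h3 ⊢
      exact sub_eq_zero.1 h3)
    obtain ⟨x, rfl⟩ := hmem t hτt htN
    refine ⟨x, ht, ?_, fun z => ?_⟩
    · apply h.inj
      rw [map_pow, htN, map_one]
    · rw [hct]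
      exact (zpow_eq_pow_val hζ _)
  choose a ha has hax using h2
  have hch : ∀ j, ∀ b < D.nroots, ch hp (vec D l b) (κ (a j)) = ζ ^ (∑ i, Nf j i * vec D l b i) := by
    intro j b hb
    rw [← cX_vec hp (ha j) hb]
    exact hax j _
  refine ⟨closure (Set.range a), ?_, ?_, fun A hA hAs hAp hn => ?_⟩
  · intro hbot
    obtain ⟨j, b, hb, hj⟩ := h1
    have h3 : a j ∈ closure (Set.range a) := subset_closure ⟨j, rfl⟩
    rw [hbot, mem_bot] at h3
    have h4 := hch j b hb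
    rw [h3, map_one, ch_one hp r hk hb] at h4
    have h5 := zpow_prim hs.out hζ (h4.symm.trans (zpow_zero ζ).symm)
    rw [sub_zero] at h5
    exact hj h5
  · have hYT := TT_of_closure (f := κ) ha
    rintro ⟨x, hx⟩
    refine ⟨1, Subtype.ext ?_⟩
    show x ^ s ^ 1 = 1
    rw [pow_one]
    refine closure_induction (p := fun x _ => x ^ s = 1) ?_ (one_pow _) ?_ ?_ hx
    · rintro _ ⟨j, rfl⟩
      exact has j
    · intro x z hx hz h3 h4
      have hc : Commute x z := by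
        apply h.inj
        rw [map_mul, map_mul]
        exact TT_comm hp _ (hYT x hx) _ (hYT z hz)
      rw [hc.mul_pow, h3, h4, one_mul]
    · intro x _ h3
      rw [inv_pow, h3, inv_one]
  · exact cen_of_chkF hp r hk hs.out hsk hζ hB hd L K κ h.inj ha has hch hA hAs hAp hn

end Emb

section Row

open Cfsg.Agent.H571.RV Cfsg.Agent.H571.RM

variable {S : Type u} [Group S] [Finite S] {π : Set ℕ} {r p : ℕ} {H A : Subgroup S}

/-- **`RowM` from `CenB`.** -/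
theorem rowM_of_cenB [IsSimpleGroup S] (hna : ∃ a b : S, a * b ≠ b * a) (hpp : p.Prime) (hpπ : p ∉ π)
    (d : HA π r H A) (hrπ : r ∈ π) (h : CenB r p S) : RowM π S := by
  obtain ⟨B, hB1, hB, hcen⟩ := h
  refine rowM_of_cen hna d hrπ (MonoidHom.id S) Function.surjective_id ?_ ?_ hB ?_ ?_
  · rw [MonoidHom.ker_id]
    exact bot_le
  · rw [MonoidHom.ker_id, Subgroup.card_bot]
    exact Nat.coprime_one_right _
  · by_contra hcon
    push Not at hcon
    exact hB1 ((eq_bot_iff_forall B).2 hcon)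
  · intro A' hab hπ hr hn b hb a ha
    exact hcen A' hab hr (fun h => hpπ (hπ p hpp h)) hn b hb a ha

end Row

end Cfsg.Agent.H169.RM
end

-- part: H169/RM/WPow
section
/-!
# S3849: powers of the Coxeter element of the parabolic `E₆` in `E₆`, `E₇`, `E₈` (helper169)
-/

set_option autoImplicit false
set_option maxRecDepth 100000

namespace Cfsg.Agent.H169.RM

open CoxeterSystem Cfsg Cfsg.Lie Cfsg.Lie.ChevalleyDatum
open Cfsg.Agent.ChevalleyStructure Cfsg.Agent.ChevalleyStructure.Elts Cfsg.Agent.ChevalleyStructure.CoxeterGeom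
  Cfsg.Agent.ChevalleyStructure.CoxeterGeomTypes Cfsg.Agent.Nodes.RGDChev
open Cfsg.Agent.H129.WData Cfsg.Agent.H795.NotAbCert

namespace E6

/-- the Cartan matrix -/
def Am : Mat 6 :=
  (beta% delta% lq26c77e173d fun _ b _ _ _ _ h _ _ _ =>
 (b (b 2<|b 0<|b (-1)<|b 0<|b 0<|b 0<|h)<|b (b 0<|b 2<|b 0<|b (-1)<|b 0<|b 0<|h)<|b (b (-1)<|b 0<|b 2<|b (-1)<|b 0<|b 0<|h)<|b (b 0<|b (-1)<|b (-1)<|b 2<|b (-1)<|b 0<|h)<|b (b 0<|b 0<|b 0<|b (-1)<|
 b 2<|b (-1)<|h)<|b (b 0<|b 0<|b 0<|b 0<|b (-1)<|b 2<|h)<|h))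

theorem hA : ∀ i j, Am i j = cartanOf chevE6 6 i j := by (delta Cfsg.Agent.ChevalleyStructure.CoxeterGeomTypes.cartanOf; rewrite [Cfsg.Agent.ChevFast.E6.cartan]; decide +kernel)

def cL : List (Fin 6 × Mat 6) :=
  (beta% delta% lq26c77e173d fun a b c d _ _ h _ _ _ =>
 (a (d 0 (b (b 0<|b 0<|b 1<|b 0<|b 0<|b 0<|h)<|b (b 1<|b 0<|b 1<|b 1<|b 0<|b 0<|h)<|b (b 0<|b 1<|b 0<|b 1<|b 0<|b 0<|h)<|b (b 0<|b 0<|b 0<|b 0<|b 1<|b 0<|h)<|b (b 0<|b 0<|b 0<|b 0<|b 0<|
 b 1<|h)<|b (b (-1)<|b (-1)<|b (-1)<|b (-1)<|b (-1)<|b (-1)<|h)<|h))<|a (d 1 (b (b 1<|b 0<|b 1<|b 0<|b 0<|b 0<|h)<|b (b 0<|b 0<|b 1<|b 1<|b 0<|b 0<|h)<|b (b 0<|b 1<|b 0<|b 1<|b 0<|b 0<|h)<|b (b 0<|b 0<|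
 b 0<|b 0<|b 1<|b 0<|h)<|b (b 0<|b 0<|b 0<|b 0<|b 0<|b 1<|h)<|b (b 0<|b (-1)<|b (-1)<|b (-1)<|b (-1)<|b (-1)<|h)<|h))<|a (d 2 (b (b 1<|b 0<|b 1<|b 0<|b 0<|b 0<|h)<|b (b 0<|b 1<|b 1<|b 1<|b 0<|b 0<|h)<|
 b (b 0<|b 0<|b 0<|b 1<|b 0<|b 0<|h)<|b (b 0<|b 0<|b 0<|b 0<|b 1<|b 0<|h)<|b (b 0<|b 0<|b 0<|b 0<|b 0<|b 1<|h)<|b (b 0<|b 0<|b (-1)<|b (-1)<|b (-1)<|b (-1)<|h)<|h))<|a (d 3 (b (b 1<|b 0<|b 0<|b 0<|
 b 0<|b 0<|h)<|b (b 0<|b 1<|b 0<|b 1<|b 0<|b 0<|h)<|b (b 0<|b 0<|b 1<|b 1<|b 0<|b 0<|h)<|b (b 0<|b 0<|b 0<|b 0<|b 1<|b 0<|h)<|b (b 0<|b 0<|b 0<|b 0<|b 0<|b 1<|h)<|b (b 0<|b 0<|b 0<|b (-1)<|b (-1)<|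
 b (-1)<|h)<|h))<|a (d 4 (b (b 1<|b 0<|b 0<|b 0<|b 0<|b 0<|h)<|b (b 0<|b 1<|b 0<|b 0<|b 0<|b 0<|h)<|b (b 0<|b 0<|b 1<|b 0<|b 0<|b 0<|h)<|b (b 0<|b 0<|b 0<|b 1<|b 1<|b 0<|h)<|b (b 0<|b 0<|b 0<|
 b 0<|b 0<|b 1<|h)<|b (b 0<|b 0<|b 0<|b 0<|b (-1)<|b (-1)<|h)<|h))<|a (d 5 (b (b 1<|b 0<|b 0<|b 0<|b 0<|b 0<|h)<|b (b 0<|b 1<|b 0<|b 0<|b 0<|b 0<|h)<|b (b 0<|b 0<|b 1<|b 0<|b 0<|b 0<|h)<|b (b 0<|
 b 0<|b 0<|b 1<|b 0<|b 0<|h)<|b (b 0<|b 0<|b 0<|b 0<|b 1<|b 1<|h)<|b (b 0<|b 0<|b 0<|b 0<|b 0<|b (-1)<|h)<|h))<|c))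

theorem cOK : ChainOK Am cL :=
  H129.ChainF.ok H129.ChainF.i6 rfl rfl (by decide +kernel)

def c1M : Mat 6 :=
  (beta% delta% lq26c77e173d fun _ b _ _ _ _ h _ _ _ =>
 (b (b 0<|b 0<|b 1<|b 0<|b 0<|b 0<|h)<|b (b 1<|b 0<|b 1<|b 1<|b 0<|b 0<|h)<|b (b 0<|b 1<|b 0<|b 1<|b 0<|b 0<|h)<|b (b 0<|b 0<|b 0<|b 0<|b 1<|b 0<|h)<|b (b 0<|b 0<|b 0<|b 0<|b 0<|b 1<|h)<|
 b (b (-1)<|b (-1)<|b (-1)<|b (-1)<|b (-1)<|b (-1)<|h)<|h))

/-- the Coxeter element of the parabolic `E₆` -/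
noncomputable def c1 : CoxeterMatrix.E₆.Group := CoxeterMatrix.E₆.toCoxeterSystem.wordProd (cL.map Prod.fst)

theorem is_c1 (hp : IsType chevE6 6 CoxeterMatrix.E₆) : IsMat hp c1 c1M := by
  have h := isMat_chain hp hA cOK
  have e : hd cL = c1M := rfl
  rw [e] at h
  exact h

def c2M : Mat 6 :=
  (beta% delta% lq26c77e173d fun _ b _ _ _ _ h _ _ _ =>
 (b (b 0<|b 1<|b 0<|b 1<|b 0<|b 0<|h)<|b (b 0<|b 1<|b 1<|b 1<|b 1<|b 0<|h)<|b (b 1<|b 0<|b 1<|b 1<|b 1<|b 0<|h)<|b (b 0<|b 0<|b 0<|b 0<|b 0<|b 1<|h)<|b (b (-1)<|b (-1)<|b (-1)<|b (-1)<|b (-1)<|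
 b (-1)<|h)<|b (b 0<|b 0<|b (-1)<|b (-1)<|b 0<|b 0<|h)<|h))

noncomputable def c2 : CoxeterMatrix.E₆.Group := c1 * c1

theorem is_c2 (hp : IsType chevE6 6 CoxeterMatrix.E₆) : IsMat hp c2 c2M :=
  (is_c1 hp).mul (is_c1 hp) (H129.MulF.mul H129.ChainF.m6 H129.RootF.t6 H129.ChainF.m6 (by decide +kernel))

def c3M : Mat 6 :=
  (beta% delta% lq26c77e173d fun _ b _ _ _ _ h _ _ _ =>
 (b (b 1<|b 0<|b 1<|b 1<|b 1<|b 0<|h)<|b (b 1<|b 1<|b 1<|b 2<|b 1<|b 1<|h)<|b (b 0<|b 1<|b 1<|b 1<|b 1<|b 1<|h)<|b (b (-1)<|b (-1)<|b (-1)<|b (-1)<|b (-1)<|b (-1)<|h)<|b (b 0<|b 0<|b (-1)<|b (-1)<|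
 b 0<|b 0<|h)<|b (b 0<|b (-1)<|b 0<|b (-1)<|b (-1)<|b 0<|h)<|h))

noncomputable def c3 : CoxeterMatrix.E₆.Group := c2 * c1

theorem is_c3 (hp : IsType chevE6 6 CoxeterMatrix.E₆) : IsMat hp c3 c3M :=
  (is_c2 hp).mul (is_c1 hp) (H129.MulF.mul H129.ChainF.m6 H129.RootF.t6 H129.ChainF.m6 (by decide +kernel))

def c6M : Mat 6 :=
  (beta% delta% lq26c77e173d fun _ b _ _ _ _ h _ _ _ =>
 (b (b 0<|b 0<|b 0<|b 0<|b 1<|b 0<|h)<|b (b 0<|b (-1)<|b 0<|b 0<|b 0<|b 0<|h)<|b (b 0<|b 0<|b 0<|b 0<|b 0<|b 1<|h)<|b (b (-1)<|b 0<|b (-1)<|b (-1)<|b (-1)<|b (-1)<|h)<|b (b 1<|b 0<|b 0<|b 0<|b 0<|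
 b 0<|h)<|b (b 0<|b 0<|b 1<|b 0<|b 0<|b 0<|h)<|h))

noncomputable def c6 : CoxeterMatrix.E₆.Group := c3 * c3

theorem is_c6 (hp : IsType chevE6 6 CoxeterMatrix.E₆) : IsMat hp c6 c6M :=
  (is_c3 hp).mul (is_c3 hp) (H129.MulF.mul H129.ChainF.m6 H129.RootF.t6 H129.ChainF.m6 (by decide +kernel))

def c9M : Mat 6 :=
  (beta% delta% lq26c77e173d fun _ b _ _ _ _ h _ _ _ =>
 (b (b 0<|b 0<|b (-1)<|b (-1)<|b 0<|b 0<|h)<|b (b (-1)<|b (-1)<|b (-1)<|b (-2)<|b (-1)<|b (-1)<|h)<|b (b 0<|b (-1)<|b 0<|b (-1)<|b (-1)<|b 0<|h)<|b (b 0<|b 1<|b 0<|b 1<|b 0<|b 0<|h)<|b (b 1<|b 0<|b 1<|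
 b 1<|b 1<|b 0<|h)<|b (b 0<|b 1<|b 1<|b 1<|b 1<|b 1<|h)<|h))

noncomputable def c9 : CoxeterMatrix.E₆.Group := c6 * c3

theorem is_c9 (hp : IsType chevE6 6 CoxeterMatrix.E₆) : IsMat hp c9 c9M :=
  (is_c6 hp).mul (is_c3 hp) (H129.MulF.mul H129.ChainF.m6 H129.RootF.t6 H129.ChainF.m6 (by decide +kernel))

end E6

namespace E7

/-- the Cartan matrix -/
def Am : Mat 7 :=
  (beta% delta% lq26c77e173d fun _ b _ _ _ _ h _ _ _ =>
 (b (b 2<|b 0<|b (-1)<|b 0<|b 0<|b 0<|b 0<|h)<|b (b 0<|b 2<|b 0<|b (-1)<|b 0<|b 0<|b 0<|h)<|b (b (-1)<|b 0<|b 2<|b (-1)<|b 0<|b 0<|b 0<|h)<|b (b 0<|b (-1)<|b (-1)<|b 2<|b (-1)<|b 0<|b 0<|h)<|b (b 0<|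
 b 0<|b 0<|b (-1)<|b 2<|b (-1)<|b 0<|h)<|b (b 0<|b 0<|b 0<|b 0<|b (-1)<|b 2<|b (-1)<|h)<|b (b 0<|b 0<|b 0<|b 0<|b 0<|b (-1)<|b 2<|h)<|h))

theorem hA : ∀ i j, Am i j = cartanOf chevE7 7 i j := by (delta Cfsg.Agent.ChevalleyStructure.CoxeterGeomTypes.cartanOf; rewrite [Cfsg.Agent.ChevFast.E7.cartan]; decide +kernel)

def cL : List (Fin 7 × Mat 7) :=
  (beta% delta% lq26c77e173d fun a b c d _ _ h _ _ _ =>
 (a (d 0 (b (b 0<|b 0<|b 1<|b 0<|b 0<|b 0<|b 0<|h)<|b (b 1<|b 0<|b 1<|b 1<|b 0<|b 0<|b 0<|h)<|b (b 0<|b 1<|b 0<|b 1<|b 0<|b 0<|b 0<|h)<|b (b 0<|b 0<|b 0<|b 0<|b 1<|b 0<|b 0<|h)<|b (b 0<|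
 b 0<|b 0<|b 0<|b 0<|b 1<|b 0<|h)<|b (b (-1)<|b (-1)<|b (-1)<|b (-1)<|b (-1)<|b (-1)<|b 0<|h)<|b (b 1<|b 1<|b 1<|b 1<|b 1<|b 1<|b 1<|h)<|h))<|a (d 1 (b (b 1<|b 0<|b 1<|b 0<|b 0<|b 0<|b 0<|h)<|b (b 0<|
 b 0<|b 1<|b 1<|b 0<|b 0<|b 0<|h)<|b (b 0<|b 1<|b 0<|b 1<|b 0<|b 0<|b 0<|h)<|b (b 0<|b 0<|b 0<|b 0<|b 1<|b 0<|b 0<|h)<|b (b 0<|b 0<|b 0<|b 0<|b 0<|b 1<|b 0<|h)<|b (b 0<|b (-1)<|b (-1)<|b (-1)<|
 b (-1)<|b (-1)<|b 0<|h)<|b (b 0<|b 1<|b 1<|b 1<|b 1<|b 1<|b 1<|h)<|h))<|a (d 2 (b (b 1<|b 0<|b 1<|b 0<|b 0<|b 0<|b 0<|h)<|b (b 0<|b 1<|b 1<|b 1<|b 0<|b 0<|b 0<|h)<|b (b 0<|b 0<|b 0<|b 1<|b 0<|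
 b 0<|b 0<|h)<|b (b 0<|b 0<|b 0<|b 0<|b 1<|b 0<|b 0<|h)<|b (b 0<|b 0<|b 0<|b 0<|b 0<|b 1<|b 0<|h)<|b (b 0<|b 0<|b (-1)<|b (-1)<|b (-1)<|b (-1)<|b 0<|h)<|b (b 0<|b 0<|b 1<|b 1<|b 1<|b 1<|b 1<|h)<|h))<|
 a (d 3 (b (b 1<|b 0<|b 0<|b 0<|b 0<|b 0<|b 0<|h)<|b (b 0<|b 1<|b 0<|b 1<|b 0<|b 0<|b 0<|h)<|b (b 0<|b 0<|b 1<|b 1<|b 0<|b 0<|b 0<|h)<|b (b 0<|b 0<|b 0<|b 0<|b 1<|b 0<|b 0<|h)<|b (b 0<|b 0<|
 b 0<|b 0<|b 0<|b 1<|b 0<|h)<|b (b 0<|b 0<|b 0<|b (-1)<|b (-1)<|b (-1)<|b 0<|h)<|b (b 0<|b 0<|b 0<|b 1<|b 1<|b 1<|b 1<|h)<|h))<|a (d 4 (b (b 1<|b 0<|b 0<|b 0<|b 0<|b 0<|b 0<|h)<|b (b 0<|b 1<|b 0<|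
 b 0<|b 0<|b 0<|b 0<|h)<|b (b 0<|b 0<|b 1<|b 0<|b 0<|b 0<|b 0<|h)<|b (b 0<|b 0<|b 0<|b 1<|b 1<|b 0<|b 0<|h)<|b (b 0<|b 0<|b 0<|b 0<|b 0<|b 1<|b 0<|h)<|b (b 0<|b 0<|b 0<|b 0<|b (-1)<|b (-1)<|
 b 0<|h)<|b (b 0<|b 0<|b 0<|b 0<|b 1<|b 1<|b 1<|h)<|h))<|a (d 5 (b (b 1<|b 0<|b 0<|b 0<|b 0<|b 0<|b 0<|h)<|b (b 0<|b 1<|b 0<|b 0<|b 0<|b 0<|b 0<|h)<|b (b 0<|b 0<|b 1<|b 0<|b 0<|b 0<|b 0<|h)<|
 b (b 0<|b 0<|b 0<|b 1<|b 0<|b 0<|b 0<|h)<|b (b 0<|b 0<|b 0<|b 0<|b 1<|b 1<|b 0<|h)<|b (b 0<|b 0<|b 0<|b 0<|b 0<|b (-1)<|b 0<|h)<|b (b 0<|b 0<|b 0<|b 0<|b 0<|b 1<|b 1<|h)<|h))<|c))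

theorem cOK : ChainOK Am cL :=
  H129.ChainF.ok H129.ChainF.i7 rfl rfl (by decide +kernel)

def c1M : Mat 7 :=
  (beta% delta% lq26c77e173d fun _ b _ _ _ _ h _ _ _ =>
 (b (b 0<|b 0<|b 1<|b 0<|b 0<|b 0<|b 0<|h)<|b (b 1<|b 0<|b 1<|b 1<|b 0<|b 0<|b 0<|h)<|b (b 0<|b 1<|b 0<|b 1<|b 0<|b 0<|b 0<|h)<|b (b 0<|b 0<|b 0<|b 0<|b 1<|b 0<|b 0<|h)<|b (b 0<|b 0<|b 0<|
 b 0<|b 0<|b 1<|b 0<|h)<|b (b (-1)<|b (-1)<|b (-1)<|b (-1)<|b (-1)<|b (-1)<|b 0<|h)<|b (b 1<|b 1<|b 1<|b 1<|b 1<|b 1<|b 1<|h)<|h))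

/-- the Coxeter element of the parabolic `E₆` -/
noncomputable def c1 : CoxeterMatrix.E₇.Group := CoxeterMatrix.E₇.toCoxeterSystem.wordProd (cL.map Prod.fst)

theorem is_c1 (hp : IsType chevE7 7 CoxeterMatrix.E₇) : IsMat hp c1 c1M := by
  have h := isMat_chain hp hA cOK
  have e : hd cL = c1M := rfl
  rw [e] at h
  exact h

def c2M : Mat 7 :=
  (beta% delta% lq26c77e173d fun _ b _ _ _ _ h _ _ _ =>
 (b (b 0<|b 1<|b 0<|b 1<|b 0<|b 0<|b 0<|h)<|b (b 0<|b 1<|b 1<|b 1<|b 1<|b 0<|b 0<|h)<|b (b 1<|b 0<|b 1<|b 1<|b 1<|b 0<|b 0<|h)<|b (b 0<|b 0<|b 0<|b 0<|b 0<|b 1<|b 0<|h)<|b (b (-1)<|b (-1)<|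
 b (-1)<|b (-1)<|b (-1)<|b (-1)<|b 0<|h)<|b (b 0<|b 0<|b (-1)<|b (-1)<|b 0<|b 0<|b 0<|h)<|b (b 1<|b 1<|b 2<|b 2<|b 1<|b 1<|b 1<|h)<|h))

noncomputable def c2 : CoxeterMatrix.E₇.Group := c1 * c1

theorem is_c2 (hp : IsType chevE7 7 CoxeterMatrix.E₇) : IsMat hp c2 c2M :=
  (is_c1 hp).mul (is_c1 hp) (H129.MulF.mul H129.ChainF.m7 H129.RootF.t7 H129.ChainF.m7 (by decide +kernel))

def c3M : Mat 7 :=
  (beta% delta% lq26c77e173d fun _ b _ _ _ _ h _ _ _ =>
 (b (b 1<|b 0<|b 1<|b 1<|b 1<|b 0<|b 0<|h)<|b (b 1<|b 1<|b 1<|b 2<|b 1<|b 1<|b 0<|h)<|b (b 0<|b 1<|b 1<|b 1<|b 1<|b 1<|b 0<|h)<|b (b (-1)<|b (-1)<|b (-1)<|b (-1)<|b (-1)<|b (-1)<|b 0<|h)<|b (b 0<|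
 b 0<|b (-1)<|b (-1)<|b 0<|b 0<|b 0<|h)<|b (b 0<|b (-1)<|b 0<|b (-1)<|b (-1)<|b 0<|b 0<|h)<|b (b 1<|b 2<|b 2<|b 3<|b 2<|b 1<|b 1<|h)<|h))

noncomputable def c3 : CoxeterMatrix.E₇.Group := c2 * c1

theorem is_c3 (hp : IsType chevE7 7 CoxeterMatrix.E₇) : IsMat hp c3 c3M :=
  (is_c2 hp).mul (is_c1 hp) (H129.MulF.mul H129.ChainF.m7 H129.RootF.t7 H129.ChainF.m7 (by decide +kernel))

def c4M : Mat 7 :=
  (beta% delta% lq26c77e173d fun _ b _ _ _ _ h _ _ _ =>
 (b (b 0<|b 1<|b 1<|b 1<|b 1<|b 1<|b 0<|h)<|b (b 0<|b 0<|b 1<|b 1<|b 1<|b 0<|b 0<|h)<|b (b 0<|b 0<|b 0<|b 1<|b 0<|b 0<|b 0<|h)<|b (b 0<|b 0<|b (-1)<|b (-1)<|b 0<|b 0<|b 0<|h)<|b (b 0<|b (-1)<|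
 b 0<|b (-1)<|b (-1)<|b 0<|b 0<|h)<|b (b (-1)<|b 0<|b (-1)<|b (-1)<|b (-1)<|b (-1)<|b 0<|h)<|b (b 2<|b 2<|b 3<|b 4<|b 3<|b 2<|b 1<|h)<|h))

noncomputable def c4 : CoxeterMatrix.E₇.Group := c2 * c2

theorem is_c4 (hp : IsType chevE7 7 CoxeterMatrix.E₇) : IsMat hp c4 c4M :=
  (is_c2 hp).mul (is_c2 hp) (H129.MulF.mul H129.ChainF.m7 H129.RootF.t7 H129.ChainF.m7 (by decide +kernel))

def c6M : Mat 7 :=
  (beta% delta% lq26c77e173d fun _ b _ _ _ _ h _ _ _ =>
 (b (b 0<|b 0<|b 0<|b 0<|b 1<|b 0<|b 0<|h)<|b (b 0<|b (-1)<|b 0<|b 0<|b 0<|b 0<|b 0<|h)<|b (b 0<|b 0<|b 0<|b 0<|b 0<|b 1<|b 0<|h)<|b (b (-1)<|b 0<|b (-1)<|b (-1)<|b (-1)<|b (-1)<|b 0<|h)<|b (b 1<|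
 b 0<|b 0<|b 0<|b 0<|b 0<|b 0<|h)<|b (b 0<|b 0<|b 1<|b 0<|b 0<|b 0<|b 0<|h)<|b (b 1<|b 2<|b 2<|b 4<|b 3<|b 2<|b 1<|h)<|h))

noncomputable def c6 : CoxeterMatrix.E₇.Group := c3 * c3

theorem is_c6 (hp : IsType chevE7 7 CoxeterMatrix.E₇) : IsMat hp c6 c6M :=
  (is_c3 hp).mul (is_c3 hp) (H129.MulF.mul H129.ChainF.m7 H129.RootF.t7 H129.ChainF.m7 (by decide +kernel))

def c8M : Mat 7 :=
  (beta% delta% lq26c77e173d fun _ b _ _ _ _ h _ _ _ =>
 (b (b (-1)<|b (-1)<|b (-1)<|b (-1)<|b (-1)<|b (-1)<|b 0<|h)<|b (b 0<|b (-1)<|b (-1)<|b (-1)<|b (-1)<|b 0<|b 0<|h)<|b (b 0<|b 0<|b (-1)<|b (-1)<|b 0<|b 0<|b 0<|h)<|b (b 0<|b 0<|b 1<|b 0<|b 0<|b 0<|b 0<|h)<|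
 b (b 0<|b 1<|b 0<|b 1<|b 0<|b 0<|b 0<|h)<|b (b 1<|b 0<|b 1<|b 1<|b 1<|b 0<|b 0<|h)<|b (b 0<|b 1<|b 1<|b 2<|b 2<|b 2<|b 1<|h)<|h))

noncomputable def c8 : CoxeterMatrix.E₇.Group := c4 * c4

theorem is_c8 (hp : IsType chevE7 7 CoxeterMatrix.E₇) : IsMat hp c8 c8M :=
  (is_c4 hp).mul (is_c4 hp) (H129.MulF.mul H129.ChainF.m7 H129.RootF.t7 H129.ChainF.m7 (by decide +kernel))

def c9M : Mat 7 :=
  (beta% delta% lq26c77e173d fun _ b _ _ _ _ h _ _ _ =>
 (b (b 0<|b 0<|b (-1)<|b (-1)<|b 0<|b 0<|b 0<|h)<|b (b (-1)<|b (-1)<|b (-1)<|b (-2)<|b (-1)<|b (-1)<|b 0<|h)<|b (b 0<|b (-1)<|b 0<|b (-1)<|b (-1)<|b 0<|b 0<|h)<|b (b 0<|b 1<|b 0<|b 1<|b 0<|b 0<|b 0<|h)<|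
 b (b 1<|b 0<|b 1<|b 1<|b 1<|b 0<|b 0<|h)<|b (b 0<|b 1<|b 1<|b 1<|b 1<|b 1<|b 0<|h)<|b (b 0<|b 0<|b 0<|b 1<|b 1<|b 1<|b 1<|h)<|h))

noncomputable def c9 : CoxeterMatrix.E₇.Group := c6 * c3

theorem is_c9 (hp : IsType chevE7 7 CoxeterMatrix.E₇) : IsMat hp c9 c9M :=
  (is_c6 hp).mul (is_c3 hp) (H129.MulF.mul H129.ChainF.m7 H129.RootF.t7 H129.ChainF.m7 (by decide +kernel))

end E7

namespace E8

/-- the Cartan matrix -/
def Am : Mat 8 :=
  (beta% delta% lq26c77e173d fun _ b _ _ _ _ h _ _ _ =>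
 (b (b 2<|b 0<|b (-1)<|b 0<|b 0<|b 0<|b 0<|b 0<|h)<|b (b 0<|b 2<|b 0<|b (-1)<|b 0<|b 0<|b 0<|b 0<|h)<|b (b (-1)<|b 0<|b 2<|b (-1)<|b 0<|b 0<|b 0<|b 0<|h)<|b (b 0<|b (-1)<|b (-1)<|b 2<|b (-1)<|b 0<|
 b 0<|b 0<|h)<|b (b 0<|b 0<|b 0<|b (-1)<|b 2<|b (-1)<|b 0<|b 0<|h)<|b (b 0<|b 0<|b 0<|b 0<|b (-1)<|b 2<|b (-1)<|b 0<|h)<|b (b 0<|b 0<|b 0<|b 0<|b 0<|b (-1)<|b 2<|b (-1)<|h)<|b (b 0<|b 0<|b 0<|b 0<|
 b 0<|b 0<|b (-1)<|b 2<|h)<|h))

theorem hA : ∀ i j, Am i j = cartanOf chevE8 8 i j := by (delta Cfsg.Agent.ChevalleyStructure.CoxeterGeomTypes.cartanOf; rewrite [Cfsg.Agent.ChevFast.E8.cartan]; decide +kernel)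

def cL : List (Fin 8 × Mat 8) :=
  (beta% delta% lq26c77e173d fun a b c d _ _ h _ _ _ =>
 (a (d 0 (b (b 0<|b 0<|b 1<|b 0<|b 0<|b 0<|b 0<|b 0<|h)<|b (b 1<|b 0<|b 1<|b 1<|b 0<|b 0<|b 0<|b 0<|h)<|b (b 0<|b 1<|b 0<|b 1<|b 0<|b 0<|b 0<|b 0<|h)<|b (b 0<|b 0<|b 0<|b 0<|b 1<|b 0<|
 b 0<|b 0<|h)<|b (b 0<|b 0<|b 0<|b 0<|b 0<|b 1<|b 0<|b 0<|h)<|b (b (-1)<|b (-1)<|b (-1)<|b (-1)<|b (-1)<|b (-1)<|b 0<|b 0<|h)<|b (b 1<|b 1<|b 1<|b 1<|b 1<|b 1<|b 1<|b 0<|h)<|b (b 0<|b 0<|b 0<|b 0<|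
 b 0<|b 0<|b 0<|b 1<|h)<|h))<|a (d 1 (b (b 1<|b 0<|b 1<|b 0<|b 0<|b 0<|b 0<|b 0<|h)<|b (b 0<|b 0<|b 1<|b 1<|b 0<|b 0<|b 0<|b 0<|h)<|b (b 0<|b 1<|b 0<|b 1<|b 0<|b 0<|b 0<|b 0<|h)<|b (b 0<|b 0<|
 b 0<|b 0<|b 1<|b 0<|b 0<|b 0<|h)<|b (b 0<|b 0<|b 0<|b 0<|b 0<|b 1<|b 0<|b 0<|h)<|b (b 0<|b (-1)<|b (-1)<|b (-1)<|b (-1)<|b (-1)<|b 0<|b 0<|h)<|b (b 0<|b 1<|b 1<|b 1<|b 1<|b 1<|b 1<|b 0<|h)<|b (b 0<|
 b 0<|b 0<|b 0<|b 0<|b 0<|b 0<|b 1<|h)<|h))<|a (d 2 (b (b 1<|b 0<|b 1<|b 0<|b 0<|b 0<|b 0<|b 0<|h)<|b (b 0<|b 1<|b 1<|b 1<|b 0<|b 0<|b 0<|b 0<|h)<|b (b 0<|b 0<|b 0<|b 1<|b 0<|b 0<|b 0<|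
 b 0<|h)<|b (b 0<|b 0<|b 0<|b 0<|b 1<|b 0<|b 0<|b 0<|h)<|b (b 0<|b 0<|b 0<|b 0<|b 0<|b 1<|b 0<|b 0<|h)<|b (b 0<|b 0<|b (-1)<|b (-1)<|b (-1)<|b (-1)<|b 0<|b 0<|h)<|b (b 0<|b 0<|b 1<|b 1<|b 1<|b 1<|
 b 1<|b 0<|h)<|b (b 0<|b 0<|b 0<|b 0<|b 0<|b 0<|b 0<|b 1<|h)<|h))<|a (d 3 (b (b 1<|b 0<|b 0<|b 0<|b 0<|b 0<|b 0<|b 0<|h)<|b (b 0<|b 1<|b 0<|b 1<|b 0<|b 0<|b 0<|b 0<|h)<|b (b 0<|b 0<|b 1<|b 1<|
 b 0<|b 0<|b 0<|b 0<|h)<|b (b 0<|b 0<|b 0<|b 0<|b 1<|b 0<|b 0<|b 0<|h)<|b (b 0<|b 0<|b 0<|b 0<|b 0<|b 1<|b 0<|b 0<|h)<|b (b 0<|b 0<|b 0<|b (-1)<|b (-1)<|b (-1)<|b 0<|b 0<|h)<|b (b 0<|b 0<|b 0<|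
 b 1<|b 1<|b 1<|b 1<|b 0<|h)<|b (b 0<|b 0<|b 0<|b 0<|b 0<|b 0<|b 0<|b 1<|h)<|h))<|a (d 4 (b (b 1<|b 0<|b 0<|b 0<|b 0<|b 0<|b 0<|b 0<|h)<|b (b 0<|b 1<|b 0<|b 0<|b 0<|b 0<|b 0<|b 0<|h)<|b (b 0<|
 b 0<|b 1<|b 0<|b 0<|b 0<|b 0<|b 0<|h)<|b (b 0<|b 0<|b 0<|b 1<|b 1<|b 0<|b 0<|b 0<|h)<|b (b 0<|b 0<|b 0<|b 0<|b 0<|b 1<|b 0<|b 0<|h)<|b (b 0<|b 0<|b 0<|b 0<|b (-1)<|b (-1)<|b 0<|b 0<|h)<|b (b 0<|
 b 0<|b 0<|b 0<|b 1<|b 1<|b 1<|b 0<|h)<|b (b 0<|b 0<|b 0<|b 0<|b 0<|b 0<|b 0<|b 1<|h)<|h))<|a (d 5 (b (b 1<|b 0<|b 0<|b 0<|b 0<|b 0<|b 0<|b 0<|h)<|b (b 0<|b 1<|b 0<|b 0<|b 0<|b 0<|b 0<|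
 b 0<|h)<|b (b 0<|b 0<|b 1<|b 0<|b 0<|b 0<|b 0<|b 0<|h)<|b (b 0<|b 0<|b 0<|b 1<|b 0<|b 0<|b 0<|b 0<|h)<|b (b 0<|b 0<|b 0<|b 0<|b 1<|b 1<|b 0<|b 0<|h)<|b (b 0<|b 0<|b 0<|b 0<|b 0<|b (-1)<|b 0<|
 b 0<|h)<|b (b 0<|b 0<|b 0<|b 0<|b 0<|b 1<|b 1<|b 0<|h)<|b (b 0<|b 0<|b 0<|b 0<|b 0<|b 0<|b 0<|b 1<|h)<|h))<|c))

theorem cOK : ChainOK Am cL :=
  H129.ChainF.ok H129.ChainF.i8 rfl rfl (by decide +kernel)

def c1M : Mat 8 :=
  (beta% delta% lq26c77e173d fun _ b _ _ _ _ h _ _ _ =>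
 (b (b 0<|b 0<|b 1<|b 0<|b 0<|b 0<|b 0<|b 0<|h)<|b (b 1<|b 0<|b 1<|b 1<|b 0<|b 0<|b 0<|b 0<|h)<|b (b 0<|b 1<|b 0<|b 1<|b 0<|b 0<|b 0<|b 0<|h)<|b (b 0<|b 0<|b 0<|b 0<|b 1<|b 0<|b 0<|b 0<|h)<|
 b (b 0<|b 0<|b 0<|b 0<|b 0<|b 1<|b 0<|b 0<|h)<|b (b (-1)<|b (-1)<|b (-1)<|b (-1)<|b (-1)<|b (-1)<|b 0<|b 0<|h)<|b (b 1<|b 1<|b 1<|b 1<|b 1<|b 1<|b 1<|b 0<|h)<|b (b 0<|b 0<|b 0<|b 0<|b 0<|b 0<|b 0<|
 b 1<|h)<|h))

/-- the Coxeter element of the parabolic `E₆` -/
noncomputable def c1 : CoxeterMatrix.E₈.Group := CoxeterMatrix.E₈.toCoxeterSystem.wordProd (cL.map Prod.fst)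

theorem is_c1 (hp : IsType chevE8 8 CoxeterMatrix.E₈) : IsMat hp c1 c1M := by
  have h := isMat_chain hp hA cOK
  have e : hd cL = c1M := rfl
  rw [e] at h
  exact h

def c2M : Mat 8 :=
  (beta% delta% lq26c77e173d fun _ b _ _ _ _ h _ _ _ =>
 (b (b 0<|b 1<|b 0<|b 1<|b 0<|b 0<|b 0<|b 0<|h)<|b (b 0<|b 1<|b 1<|b 1<|b 1<|b 0<|b 0<|b 0<|h)<|b (b 1<|b 0<|b 1<|b 1<|b 1<|b 0<|b 0<|b 0<|h)<|b (b 0<|b 0<|b 0<|b 0<|b 0<|b 1<|b 0<|b 0<|h)<|
 b (b (-1)<|b (-1)<|b (-1)<|b (-1)<|b (-1)<|b (-1)<|b 0<|b 0<|h)<|b (b 0<|b 0<|b (-1)<|b (-1)<|b 0<|b 0<|b 0<|b 0<|h)<|b (b 1<|b 1<|b 2<|b 2<|b 1<|b 1<|b 1<|b 0<|h)<|b (b 0<|b 0<|b 0<|b 0<|b 0<|b 0<|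
 b 0<|b 1<|h)<|h))

noncomputable def c2 : CoxeterMatrix.E₈.Group := c1 * c1

theorem is_c2 (hp : IsType chevE8 8 CoxeterMatrix.E₈) : IsMat hp c2 c2M :=
  (is_c1 hp).mul (is_c1 hp) (H129.MulF.mul H129.ChainF.m8 H129.RootF.t8 H129.ChainF.m8 (by decide +kernel))

def c4M : Mat 8 :=
  (beta% delta% lq26c77e173d fun _ b _ _ _ _ h _ _ _ =>
 (b (b 0<|b 1<|b 1<|b 1<|b 1<|b 1<|b 0<|b 0<|h)<|b (b 0<|b 0<|b 1<|b 1<|b 1<|b 0<|b 0<|b 0<|h)<|b (b 0<|b 0<|b 0<|b 1<|b 0<|b 0<|b 0<|b 0<|h)<|b (b 0<|b 0<|b (-1)<|b (-1)<|b 0<|b 0<|b 0<|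
 b 0<|h)<|b (b 0<|b (-1)<|b 0<|b (-1)<|b (-1)<|b 0<|b 0<|b 0<|h)<|b (b (-1)<|b 0<|b (-1)<|b (-1)<|b (-1)<|b (-1)<|b 0<|b 0<|h)<|b (b 2<|b 2<|b 3<|b 4<|b 3<|b 2<|b 1<|b 0<|h)<|b (b 0<|b 0<|b 0<|b 0<|b 0<|
 b 0<|b 0<|b 1<|h)<|h))

noncomputable def c4 : CoxeterMatrix.E₈.Group := c2 * c2

theorem is_c4 (hp : IsType chevE8 8 CoxeterMatrix.E₈) : IsMat hp c4 c4M :=
  (is_c2 hp).mul (is_c2 hp) (H129.MulF.mul H129.ChainF.m8 H129.RootF.t8 H129.ChainF.m8 (by decide +kernel))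

def c8M : Mat 8 :=
  (beta% delta% lq26c77e173d fun _ b _ _ _ _ h _ _ _ =>
 (b (b (-1)<|b (-1)<|b (-1)<|b (-1)<|b (-1)<|b (-1)<|b 0<|b 0<|h)<|b (b 0<|b (-1)<|b (-1)<|b (-1)<|b (-1)<|b 0<|b 0<|b 0<|h)<|b (b 0<|b 0<|b (-1)<|b (-1)<|b 0<|b 0<|b 0<|b 0<|h)<|b (b 0<|b 0<|b 1<|b 0<|
 b 0<|b 0<|b 0<|b 0<|h)<|b (b 0<|b 1<|b 0<|b 1<|b 0<|b 0<|b 0<|b 0<|h)<|b (b 1<|b 0<|b 1<|b 1<|b 1<|b 0<|b 0<|b 0<|h)<|b (b 0<|b 1<|b 1<|b 2<|b 2<|b 2<|b 1<|b 0<|h)<|b (b 0<|b 0<|b 0<|b 0<|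
 b 0<|b 0<|b 0<|b 1<|h)<|h))

noncomputable def c8 : CoxeterMatrix.E₈.Group := c4 * c4

theorem is_c8 (hp : IsType chevE8 8 CoxeterMatrix.E₈) : IsMat hp c8 c8M :=
  (is_c4 hp).mul (is_c4 hp) (H129.MulF.mul H129.ChainF.m8 H129.RootF.t8 H129.ChainF.m8 (by decide +kernel))

end E8

end Cfsg.Agent.H169.RM
end

-- part: H169/RM/TabE6
section
/-!
# S3849: the checks for `E₆`, `s = 5` (helper169)
-/

set_option autoImplicit false
set_option maxRecDepth 100000

namespace Cfsg.Agent.H169.RM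

open Cfsg Cfsg.Lie Cfsg.Lie.ChevalleyDatum Cfsg.Agent.ChevalleyStructure Cfsg.Agent.Nodes.RGDChev

/-- the functionals -/
def Nf65 : Fin 2 → Fin 6 → ℤ :=
  (beta% delta% lq26c77e173d fun _ b _ _ _ _ h _ _ _ =>
 (b (b 4<|b 1<|b 0<|b 3<|b 1<|b 0<|h)<|b (b 0<|b 2<|b 4<|b 1<|b 0<|b 1<|h)<|h))

def N65 : List (List ℤ) :=
  (beta% delta% lq26c77e173d fun a _ c _ _ _ _ _ _ _ =>
 (a (a 4<|a 1<|a 0<|a 3<|a 1<|a 0<|c)<|a (a 0<|a 2<|a 4<|a 1<|a 0<|a 1<|c)<|c))

noncomputable def E65 : List (List ℕ) :=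
  (by
  refine (?fq9005 : (fun (On : (n : Nat) → OfNat Nat n → Nat) (In : (n : Nat) → OfNat Nat n) => ((pk61l (fun i1 => (pk61l (fun i2 => (pk61o On In (pk61d (nat_lit 3) 
    (nat_lit 0x2a16da4a389a7144cb0c29049236d84148187113040e050c2c90488049228592020617114086584122890490c289a6514cb29b4d2323) i2))) (Nat.mul (nat_lit 2) i1) (Nat.mul (nat_lit 2) (Nat.succ i1)) List.nil)) (nat_lit 0) (nat_lit 72) List.nil) : List (List ℕ)))
    = ?xq9005 → (List (List ℕ))) ?hq9005; (case hq9005 => (set_option maxRecDepth 1000000 in conv => lhs; reduce)); intro _; exact ?xq9005 (@OfNat.ofNat Nat) instOfNatNat : List (List ℕ))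

noncomputable def D65 : List (List (ℕ × ℕ)) :=
  (by
  refine (?fq9006 : (fun (On : (n : Nat) → OfNat Nat n → Nat) (In : (n : Nat) → OfNat Nat n) => ((pk61l (fun i1 => ((fun g1 : Nat → Nat => pk61l (fun i2 => (_root_.Prod.mk (pk61o On In (pk61d (nat_lit 6) 
    (nat_lit 0xbf29e89628e175d9e171a85a5534e24523ce38f30b8cb31d2cc30b2483c814e2482470c920214714b1420c23022481c51530c24c21c31421c30cc0832030831432020c2083083085) i2)) (pk61o On In (pk61d (nat_lit 7) 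
    (nat_lit 0x8b0a2c489162458b11fc28915fc4891623b890214589022c569121348501f3f8b15dc48af2142810a2bf7d1203e7ee5f427efdc3e76f1dbc76a9e3c48edc3970e5ab66895a324cb56ab4ca902a48992a2407cc15) i2)))) (g1 i1) (g1 (Nat.succ i1)) List.nil) fun j => (pk61d (nat_lit 7) 
    (nat_lit 0x60bd72ddab15ead4a74a84f9d325ca911e345870a03f7cf1db970ddab466c98b05eb96ac56a54274a911214078e9b3464c162a50911203868c16244060a10100) j))) (nat_lit 0) (nat_lit 72) List.nil) : List (List (ℕ × ℕ))))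
    = ?xq9006 → (List (List (ℕ × ℕ)))) ?hq9006; (case hq9006 => (set_option maxRecDepth 1000000 in conv => lhs; reduce)); intro _; exact ?xq9006 (@OfNat.ofNat Nat) instOfNatNat : List (List (ℕ × ℕ)))

noncomputable def P65 : List LD :=
  (by
  refine (?fq9007 : (fun (On : (n : Nat) → OfNat Nat n → Nat) (In : (n : Nat) → OfNat Nat n) (Oz : (n : Nat) → OfNat Int n → Int) (Iz : (n : Nat) → OfNat Int n) (Gz : Int → Int) => ((pk61l (fun i1 => (_root_.Cfsg.Agent.H169.RM.LD.mk (pk61l (fun i2 => (pk61o On In (pk61d (nat_lit 3) 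
    (nat_lit 0x859449048) i2))) (Nat.mul (nat_lit 2) i1) (Nat.mul (nat_lit 2) (Nat.succ i1)) List.nil) (pk61l (fun i2 => (pk61y Oz Iz Gz (pk61d (nat_lit 5) 
    (nat_lit 0x518a9138c11a5c21a4080188309e082010710003481c8) i2))) (Nat.mul (nat_lit 6) i1) (Nat.mul (nat_lit 6) (Nat.succ i1)) List.nil) (pk61y Oz Iz Gz (nat_lit 16)) (pk61o On In (pk61d (nat_lit 424) 
    (nat_lit 0x88004400888804000008880440080002220014002222011110222200440222220011002222000040008888800000808880050008880000020a0502000002050204040a04014081010281008140a081408081028140814002814010205000a0500000001050205000001000004080901200040004009201240081002480490021012404480900120248004809101040401202440410101000002480910000000008000c1041100000041800882003010600220800c0820c110410401060820408208020c101020820083040000401041060080000000080f8000000100001d00000003600740000000d8000f80000001e07c0005c00000007801700000001e0000400000007c08000000002001084210008000802109084010200842421004108421010842021084200421090802100108424200840080002108420200000)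 i1)) (pk61o On In (pk61d (nat_lit 72) 
    (nat_lit 0x24db6e88e71176db24319631b5dbad8c698c1d49d52d3cb4ab92b81749556d3cb6aa92e8b19231a7dbe58c498d64fb6488e71126df26) i1)))) (nat_lit 0) (nat_lit 6) List.nil) : List LD))
    = ?xq9007 → (List LD)) ?hq9007; (case hq9007 => (set_option maxRecDepth 1000000 in conv => lhs; reduce)); intro _; exact ?xq9007 (@OfNat.ofNat Nat) instOfNatNat (@OfNat.ofNat Int) (@instOfNat) (@Neg.neg Int Int.instNegInt) : List LD)

theorem N65_eq : N65 = List.ofFn fun j => List.ofFn (Nf65 j) := by decide +kernel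

theorem chkE_65 : chkE chevE6 6 5 N65 E65 = true := chkE_of (by decide +kernel)

theorem chkD_65 : chkD chevE6 D65 = true := chkD_of (by decide +kernel)

theorem chkC_65 : chkC 5 2 (P65.map LD.ps) = true := chkC_of (by decide +kernel)

private noncomputable def _root_.Cfsg.Agent.LsF.f91205c_13 : {f // @Cfsg.Agent.H169.RM.cod = f} := ⟨_, by first | (delta Cfsg.Agent.H169.RM.cod List.brecOn List.brecOn.go Cfsg.Agent.H169.RM.cod._f; rewrite [Cfsg.Agent.LsF.nadd_pat, Cfsg.Agent.LsF.nmul_pat]; (try delta Cfsg.Agent.H169.RM.lead.match_3); (try delta List.casesOn); first | dsimp -zeta only | exact rfl) | exact rfl⟩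
private noncomputable def _root_.Cfsg.Agent.LsF.f91205c_14 : {f // @Cfsg.Agent.H169.RM.mulS = f} := ⟨_, by first | (delta Cfsg.Agent.H169.RM.mulS List.brecOn List.brecOn.go Cfsg.Agent.H169.RM.mulS._f; rewrite [Cfsg.Agent.LsF.nmul_pat, Cfsg.Agent.LsF.nmod_pat]; (try delta Cfsg.Agent.H169.RM.lead.match_3); (try delta List.casesOn); first | dsimp -zeta only | exact rfl) | exact rfl⟩
private noncomputable def _root_.Cfsg.Agent.LsF.f91205c_15 : {f // @Cfsg.Agent.H169.RM.onM = f} := ⟨_, by first | (delta Cfsg.Agent.H169.RM.onM; rewrite [Cfsg.Agent.LsF.f91205c_13.2, Cfsg.Agent.LsF.f91205c_14.2]; exact rfl) | exact rfl⟩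
private noncomputable def _root_.Cfsg.Agent.LsF.f91205c_16 : {f // @Cfsg.Agent.H169.RM.okG = f} := ⟨_, by first | (delta Cfsg.Agent.H169.RM.okG; rewrite [Cfsg.Agent.LsF.f91205c_13.2, Cfsg.Agent.LsF.f91205c_15.2, Cfsg.Agent.LsF.iadd_pat, Cfsg.Agent.LsF.range_eq, Cfsg.Agent.LsF.toNat_eq, Cfsg.Agent.LsF.instIDecEq_eq, Cfsg.Agent.LsF.idecLe_eq, Cfsg.Agent.LsF.decide_eq]; exact rfl) | exact rfl⟩
private noncomputable def _root_.Cfsg.Agent.LsF.f91205c_17 : {f // @Cfsg.Agent.H167.RV.dotL = f} := ⟨_, by first | (delta Cfsg.Agent.H167.RV.dotL List.brecOn List.brecOn.go Cfsg.Agent.H167.RV.dotL._f; rewrite [Cfsg.Agent.LsF.iadd_pat, Cfsg.Agent.LsF.imul_pat]; (try delta Cfsg.Agent.H167.RV.dotL.match_1); (try delta Cfsg.Agent.H167.RV.dotL._sparseCasesOn_1); first | dsimp -zeta only | exact rfl) | exact rfl⟩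
private noncomputable def _root_.Cfsg.Agent.LsF.f91205c_18 : {f // @Cfsg.Agent.H169.RM.okM = f} := ⟨_, by first | (delta Cfsg.Agent.H169.RM.okM; rewrite [Cfsg.Agent.LsF.f91205c_16.2, Cfsg.Agent.LsF.f91205c_17.2, Cfsg.Agent.LsF.f91205c_6.2, Cfsg.Agent.LsF.npow_pat]; exact rfl) | exact rfl⟩
theorem okL_65 : (P65.all (okL chevE6 6 5 2 E65 D65)) = true := okL_of (by ((try (rewrite [Cfsg.Agent.LsF.f91205c_18.2])); decide +kernel))

theorem chkF_65 : ChkF chevE6 6 5 (fun (j : Fin 2) b => ∑ i, Nf65 j i * vec chevE6 6 b i) :=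
  chkF_of (by norm_num) _ N65_eq chkE_65 chkD_65 okL_65 chkC_65

end Cfsg.Agent.H169.RM
end

-- part: H169/RM/TabE7
section
/-!
# S3849: the checks for `E₇`, `s = 5` (helper169)
-/

set_option autoImplicit false
set_option maxRecDepth 100000

namespace Cfsg.Agent.H169.RM

open Cfsg Cfsg.Lie Cfsg.Lie.ChevalleyDatum Cfsg.Agent.ChevalleyStructure Cfsg.Agent.Nodes.RGDChev

/-- the functionals -/
def Nf75 : Fin 2 → Fin 7 → ℤ :=
  (beta% delta% lq26c77e173d fun _ b _ _ _ _ h _ _ _ =>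
 (b (b 3<|b 4<|b 4<|b 2<|b 2<|b 1<|b 0<|h)<|b (b 2<|b 3<|b 0<|b 4<|b 3<|b 0<|b 1<|h)<|h))

def N75 : List (List ℤ) :=
  (beta% delta% lq26c77e173d fun a _ c _ _ _ _ _ _ _ =>
 (a (a 3<|a 4<|a 4<|a 2<|a 2<|a 1<|a 0<|c)<|a (a 2<|a 3<|a 0<|a 4<|a 3<|a 0<|a 1<|c)<|c))

noncomputable def E75 : List (List ℕ) :=
  (by
  refine (?fq9008 : (fun (On : (n : Nat) → OfNat Nat n → Nat) (In : (n : Nat) → OfNat Nat n) => ((pk61l (fun i1 => (pk61l (fun i2 => (pk61o On In (pk61d (nat_lit 3) 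
    (nat_lit 0x2a48034502148a164012448a2410204cb2994508c28a13124db69202090b0c240c10345c7144e11184148a36da2412201244d228b65840131a65145c0818580c28892006d349a6e130b0ca61c52389a2001248db24101430b66061c088263) i2))) (Nat.mul (nat_lit 2) i1) (Nat.mul (nat_lit 2) (Nat.succ i1)) List.nil)) (nat_lit 0) (nat_lit 126) List.nil) : List (List ℕ)))
    = ?xq9008 → (List (List ℕ))) ?hq9008; (case hq9008 => (set_option maxRecDepth 1000000 in conv => lhs; reduce)); intro _; exact ?xq9008 (@OfNat.ofNat Nat) instOfNatNat : List (List ℕ))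

noncomputable def D75 : List (List (ℕ × ℕ)) :=
  (by
  refine (?fq9009 : (fun (On : (n : Nat) → OfNat Nat n → Nat) (In : (n : Nat) → OfNat Nat n) => ((pk61l (fun i1 => ((fun g1 : Nat → Nat => pk61l (fun i2 => (_root_.Prod.mk (pk61o On In (pk61d (nat_lit 7) 
    (nat_lit 0xba80fb33a70db55464c272e98b25284d111429928f1c346274294488421d285080d10202587941c4c68c224c488221c6891820387104c284280c10d18142034a142130a34604220c1a104083820e0408112043830808102060c0810604182020808202041000000480002020000002020010000040010002040000204001000000100080000200001) i2)) (pk61o On In (pk61d (nat_lit 7) 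
    (nat_lit 0xf9f7efcfbf7efbf9f7efcfbf3efcfbf7e7df9efdfdfbf7ef9f7e7efdf3f7afdfbf7a7dfbefe7bf9efe7cf7ebe7cf5f3d7bf5efdfaf3dbe7ce9f3e76edefdfbb9ebd6cf3c7878d5e7c58f5e78f8e1efd79d3e3576ebdbaf4e3c3b75d9d356ce3ab869dfbb3fcf7eadf9f162e76ebd2c5ce35b86fb1babecb96f569b15f3d6cd97253c5230e0957aea0) i2)))) (g1 i1) (g1 (Nat.succ i1)) List.nil) fun j => (pk61d (nat_lit 8) 
    (nat_lit 0x9c9b9a99989796949392918f8d8c8b8a898786848382807f7e7d7c7a79787775747372716f6d6c6b6a696766656362615f5e5d5b5a5958565554535251504f4e4d4c4b4a49484746444342413f3e3d3b3a39373635333231302f2d2b2a29282725242322201f1e1d1c1a19181615131211100f0d0b0a090806050403020100) j))) (nat_lit 0) (nat_lit 126) List.nil) : List (List (ℕ × ℕ))))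
    = ?xq9009 → (List (List (ℕ × ℕ)))) ?hq9009; (case hq9009 => (set_option maxRecDepth 1000000 in conv => lhs; reduce)); intro _; exact ?xq9009 (@OfNat.ofNat Nat) instOfNatNat : List (List (ℕ × ℕ)))

noncomputable def P75 : List LD :=
  (by
  refine (?fq9010 : (fun (On : (n : Nat) → OfNat Nat n → Nat) (In : (n : Nat) → OfNat Nat n) (Oz : (n : Nat) → OfNat Int n → Int) (Iz : (n : Nat) → OfNat Int n) (Gz : Int → Int) => ((pk61l (fun i1 => (_root_.Cfsg.Agent.H169.RM.LD.mk (pk61l (fun i2 => (pk61o On In (pk61d (nat_lit 3) 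
    (nat_lit 0x859449048) i2))) (Nat.mul (nat_lit 2) i1) (Nat.mul (nat_lit 2) (Nat.succ i1)) List.nil) (pk61l (fun i2 => (pk61y Oz Iz Gz (pk61d (nat_lit 4) 
    (nat_lit 0xa3034103a569165460305343a3b4504609303a5429) i2))) (Nat.mul (nat_lit 7) i1) (Nat.mul (nat_lit 7) (Nat.succ i1)) List.nil) (pk61y Oz Iz Gz (nat_lit 12)) (pk61o On In (pk61d (nat_lit 322) 
    (nat_lit 0x4000008880440080004400220044442011110222201440222111000a0011100004000888880000080000088102810000040814080140a000a0502205020450205028102081028000000088140a0000004004000480921000000092004202080a024048480901092024080124002404800004040490101000000080020830400004004180081020820c10414104105041060820030008304100000041820808000004000000f800000080b8000003a00000007c000001ff80000000f0000006c080000007c000001000200000210842000800108021108401084210804210844210840108422008420080001084210000200) i1)) (pk61o On In (pk61d (nat_lit 126) 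
    (nat_lit 0xdb8f43994386cbecdf4d870a670bc76db31863379dea52edd295ee7b3186336b549db54b4b45d57aae8b4b4ab6e4ab6d5257d5292d5755eabaad252afa92ad6ce618ede73294bb74a5339edc619cdb663d0e6d0e1ba7b379761c2d9c2f19b) i1)))) (nat_lit 0) (nat_lit 6) List.nil) : List LD))
    = ?xq9010 → (List LD)) ?hq9010; (case hq9010 => (set_option maxRecDepth 1000000 in conv => lhs; reduce)); intro _; exact ?xq9010 (@OfNat.ofNat Nat) instOfNatNat (@OfNat.ofNat Int) (@instOfNat) (@Neg.neg Int Int.instNegInt) : List LD)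

theorem N75_eq : N75 = List.ofFn fun j => List.ofFn (Nf75 j) := by decide +kernel

private noncomputable def _root_.Cfsg.Agent.LsF.f91205c_19 : {f // @Cfsg.Agent.H169.RM.eqL = f} := ⟨_, by first | (delta Cfsg.Agent.H169.RM.eqL List.brecOn List.brecOn.go Cfsg.Agent.H169.RM.eqL._f; rewrite [Cfsg.Agent.LsF.and_eq]; (try delta Cfsg.Agent.H169.RM.eqL.match_1); (try delta Cfsg.Agent.H169.RM.eqL._sparseCasesOn_1); (try delta Cfsg.Agent.H169.RM.eqL._sparseCasesOn_2); (try delta List.casesOn); first | dsimp -zeta only | exact rfl) | exact rfl⟩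
theorem chkE_75 : chkE chevE7 7 5 N75 E75 = true := chkE_of (by ((try (rewrite [Cfsg.Agent.LsF.f91205c_19.2, Cfsg.Agent.LsF.f91205c_1.2, Cfsg.Agent.LsF.f91205c_6.2])); decide +kernel))

theorem chkD_75 : chkD chevE7 D75 = true := chkD_of (by decide +kernel)

theorem chkC_75 : chkC 5 2 (P75.map LD.ps) = true := chkC_of (by decide +kernel)

theorem okL_75 : (P75.all (okL chevE7 7 5 2 E75 D75)) = true := okL_of (by ((try (rewrite [Cfsg.Agent.LsF.f91205c_18.2])); decide +kernel))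

theorem chkF_75 : ChkF chevE7 7 5 (fun (j : Fin 2) b => ∑ i, Nf75 j i * vec chevE7 7 b i) :=
  chkF_of (by norm_num) _ N75_eq chkE_75 chkD_75 okL_75 chkC_75

end Cfsg.Agent.H169.RM
end

-- part: H169/RM/TabE7b
section
/-!
# S3849: the checks for `E₇`, `s = 7` (helper169)
-/

set_option autoImplicit false
set_option maxRecDepth 100000

namespace Cfsg.Agent.H169.RM

open Cfsg Cfsg.Lie Cfsg.Lie.ChevalleyDatum Cfsg.Agent.ChevalleyStructure Cfsg.Agent.Nodes.RGDChev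

/-- the functionals -/
def Nf77 : Fin 3 → Fin 7 → ℤ :=
  (beta% delta% lq26c77e173d fun _ b _ _ _ _ h _ _ _ =>
 (b (b 5<|b 1<|b 5<|b 3<|b 1<|b 0<|b 0<|h)<|b (b 6<|b 6<|b 4<|b 1<|b 0<|b 1<|b 0<|h)<|b (b 4<|b 5<|b 1<|b 2<|b 0<|b 0<|b 1<|h)<|h))

def N77 : List (List ℤ) :=
  (beta% delta% lq26c77e173d fun a _ c _ _ _ _ _ _ _ =>
 (a (a 5<|a 1<|a 5<|a 3<|a 1<|a 0<|a 0<|c)<|a (a 6<|a 6<|a 4<|a 1<|a 0<|a 1<|a 0<|c)<|a (a 4<|a 5<|a 1<|a 2<|a 0<|a 0<|a 1<|c)<|c))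

noncomputable def E77 : List (List ℕ) :=
  (by
  refine (?fq9011 : (fun (On : (n : Nat) → OfNat Nat n → Nat) (In : (n : Nat) → OfNat Nat n) => ((pk61l (fun i1 => (pk61l (fun i2 => (pk61o On In (pk61d (nat_lit 3) 
    (nat_lit 0x1014a922653090284824d1e6f26d2653491489475368b4d82c12686c359ac1a050201356e6b00983c26cf6772acd663311341a05025c664f2753a4cad44a23116490480490082060061b0030db6d74b9dae579a8b4561acd4700c0432d96773994aa44612c98432180ca520643010c82814c9e2f06c27930964b15b5d6db7596cb2485c2d96c6a2d160b336d6b40) i2))) (Nat.mul (nat_lit 3) i1) (Nat.mul (nat_lit 3) (Nat.succ i1)) List.nil)) (nat_lit 0) (nat_lit 126) List.nil) : List (List ℕ)))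
    = ?xq9011 → (List (List ℕ))) ?hq9011; (case hq9011 => (set_option maxRecDepth 1000000 in conv => lhs; reduce)); intro _; exact ?xq9011 (@OfNat.ofNat Nat) instOfNatNat : List (List ℕ))

noncomputable def D77 : List (List (ℕ × ℕ)) :=
  (by
  refine (?fq9012 : (fun (On : (n : Nat) → OfNat Nat n → Nat) (In : (n : Nat) → OfNat Nat n) => ((pk61l (fun i1 => (pk61l (fun i2 => (_root_.Prod.mk (pk61o On In (pk61d (nat_lit 7) 
    (nat_lit 0x2ea03e78e9c3668c982e58a9426488901e3868c16284880e1828406080901e3868c16284880e284880e1c305080c1060a101860a103050c14204060c18204081010204081060810204040810204081020408000000000000000000000000000000000000000000000000000000001) i2)) (pk61o On In (pk61d (nat_lit 7) 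
    (nat_lit 0x3e7dfbf7efdfbf7efdfbf7efdfbf7efdfbf7efdfbf7efdfbf7efdfbf7efcf9f3e7cf9f3e7cf9efdfbf7ebe7cf9f3e7bf7efdfaf5ebcf9f1dfc77f3e3bfaf3e3bfbf5e7c77eddbaf4e7dbaf4e7cb8f0dfbb6fcf7ebcf8efdbaf4e7cb8f0dfbb6ecd7ab4e8cf9b2e4c78b0e0bf7aea0) i2)))) (Nat.mul (nat_lit 1) i1) (Nat.mul (nat_lit 1) (Nat.succ i1)) List.nil)) (nat_lit 0) (nat_lit 126) List.nil) : List (List (ℕ × ℕ))))
    = ?xq9012 → (List (List (ℕ × ℕ)))) ?hq9012; (case hq9012 => (set_option maxRecDepth 1000000 in conv => lhs; reduce)); intro _; exact ?xq9012 (@OfNat.ofNat Nat) instOfNatNat : List (List (ℕ × ℕ)))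

noncomputable def P77 : List LD :=
  (by
  refine (?fq9013 : (fun (On : (n : Nat) → OfNat Nat n → Nat) (In : (n : Nat) → OfNat Nat n) (Oz : (n : Nat) → OfNat Int n → Int) (Iz : (n : Nat) → OfNat Int n) (Gz : Int → Int) => ((pk61l (fun i1 => (_root_.Cfsg.Agent.H169.RM.LD.mk (pk61l (fun i2 => (pk61o On In (pk61d (nat_lit 3) 
    (nat_lit 0x1b1b8cc5e2b1388c7536994ba5526914e86c32170a84c221ccd6632d94c9643391a8c45a29128847134984b25124904e06830160a048201c452210c8441201040) i2))) (Nat.mul (nat_lit 3) i1) (Nat.mul (nat_lit 3) (Nat.succ i1)) List.nil) List.nil (pk61y Oz Iz Gz (nat_lit 0)) (pk61o On In (nat_lit 14191996901769083392050773248654116336746936063696195817687901162198426351149273636859029794668469768702)) (pk61o On In (pk61d (nat_lit 126) 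
    (nat_lit 0xffffffffffffffffffffffffffffffffffffffffffff9dffee7fffffffffffffffffffffff9ffefdffe7ffffffffffffffffffffefb7fffffb7dfffffffffffffffffffddffefffdffeeffffffffffffffffcfffffffedfffffffcfffffffffffff7f7f7ffffffffffbfbfbffffffffffeff7ffdffffffffefffbfdfffffffffedffffffffdfeffffffffedffffffffbfffbeffffffffffffdf7fff7ffffffbffbfffffbffffff7fffff7ff7fffffbf7fffdffffffffffffeffffbf7ffffdf7ffffffffdfffefffffffffbeffffefefffffbfffffffffff7ffffdfdffff77ffffffefffffffffdfffffffbbfff7ffff7fbfffffffffffff7fbffffbffafffffffffffff7bffffffffffffd7fdfffffbf7fffffffffffffbf7ffffefeffff7ffffff7ffffffbffffffbfffdf7ff7fffffffffeffdffffffffffbffbbffffefffffffbffff7ffffffdfffff5fffffffefffffff3ffffffdfffffffe) (pk61d (nat_lit 5) 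
    (nat_lit 0x15956b5ad6b5ad2b5a85e9456b5aaea71d5d5ac6b5ad6b562aa26d6b5ad6b3ad4c4a9600) i1))))) (nat_lit 0) (nat_lit 57) List.nil) : List LD))
    = ?xq9013 → (List LD)) ?hq9013; (case hq9013 => (set_option maxRecDepth 1000000 in conv => lhs; reduce)); intro _; exact ?xq9013 (@OfNat.ofNat Nat) instOfNatNat (@OfNat.ofNat Int) (@instOfNat) (@Neg.neg Int Int.instNegInt) : List LD)

theorem N77_eq : N77 = List.ofFn fun j => List.ofFn (Nf77 j) := by decide +kernel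

theorem chkE_77 : chkE chevE7 7 7 N77 E77 = true := chkE_of (by ((try (rewrite [Cfsg.Agent.LsF.f91205c_19.2, Cfsg.Agent.LsF.f91205c_1.2, Cfsg.Agent.LsF.f91205c_6.2])); decide +kernel))

theorem chkD_77 : chkD chevE7 D77 = true := chkD_of (by decide +kernel)

theorem chkC_77 : chkC 7 3 (P77.map LD.ps) = true := chkC_of (by decide +kernel)

theorem okL_77 : (P77.all (okL chevE7 7 7 3 E77 D77)) = true := okL_of (by decide +kernel)

theorem chkF_77 : ChkF chevE7 7 7 (fun (j : Fin 3) b => ∑ i, Nf77 j i * vec chevE7 7 b i) :=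
  chkF_of (by norm_num) _ N77_eq chkE_77 chkD_77 okL_77 chkC_77

end Cfsg.Agent.H169.RM
end

-- part: H169/RM/TabE8
section
/-!
# S3849: the checks for `E₈`, `s = 7` (helper169)
-/

set_option autoImplicit false
set_option maxRecDepth 100000

namespace Cfsg.Agent.H169.RM

open Cfsg Cfsg.Lie Cfsg.Lie.ChevalleyDatum Cfsg.Agent.ChevalleyStructure Cfsg.Agent.Nodes.RGDChev

/-- the functionals -/
def Nf87 : Fin 3 → Fin 8 → ℤ :=
  (beta% delta% lq26c77e173d fun _ b _ _ _ _ h _ _ _ =>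
 (b (b 5<|b 1<|b 5<|b 3<|b 1<|b 0<|b 0<|b 0<|h)<|b (b 6<|b 6<|b 4<|b 1<|b 0<|b 1<|b 0<|b 0<|h)<|b (b 4<|b 5<|b 1<|b 2<|b 0<|b 0<|b 1<|b 0<|h)<|h))

def N87 : List (List ℤ) :=
  (beta% delta% lq26c77e173d fun a _ c _ _ _ _ _ _ _ =>
 (a (a 5<|a 1<|a 5<|a 3<|a 1<|a 0<|a 0<|a 0<|c)<|a (a 6<|a 6<|a 4<|a 1<|a 0<|a 1<|a 0<|a 0<|c)<|a (a 4<|a 5<|a 1<|a 2<|a 0<|a 0<|a 1<|a 0<|c)<|c))

noncomputable def E87 : List (List ℕ) :=
  (by
  refine (?fq9014 : (fun (On : (n : Nat) → OfNat Nat n → Nat) (In : (n : Nat) → OfNat Nat n) => ((pk61l (fun i1 => (pk61l (fun i2 => (pk61o On In (pk61d (nat_lit 3) 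
    (nat_lit 0x301b0db4ad9bb2aa32590c040203205ec9e4b154aa55b6d96492491c2d94ca65b0984c2412050b45824120b349a4d1e8f379b69b4da4d265349248a44a5a9d4ea6d368b4d86c1609343a1b0d66b068340a04026adcd68100804c260f09b4d9ecee55aacd663311349a0d02812e332993c9d4e932b51a8944622c9249048049048041008000006030030d86c00c36db6dae973b5cae579a8b4561acd66a380602196cb659dce652a95488c2592c98432190c06020194a40c8602190c82814c9e2f1783613c9e4c2592c962b154adaeb6db6dd65b2d964b249242e170b65b2996c3613090d45a2d160b0482cd6693479b6db4da4d24b55a9d4da6cd09a28140804c26cab26cc9a849241000000) i2))) (Nat.mul (nat_lit 3) i1) (Nat.mul (nat_lit 3) (Nat.succ i1)) List.nil)) (nat_lit 0) (nat_lit 240) List.nil) : List (List ℕ)))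
    = ?xq9014 → (List (List ℕ))) ?hq9014; (case hq9014 => (set_option maxRecDepth 1000000 in conv => lhs; reduce)); intro _; exact ?xq9014 (@OfNat.ofNat Nat) instOfNatNat : List (List ℕ))

noncomputable def D87 : List (List (ℕ × ℕ)) :=
  (by
  refine (?fq9015 : (fun (On : (n : Nat) → OfNat Nat n → Nat) (In : (n : Nat) → OfNat Nat n) => ((pk61l (fun i1 => ((fun g1 : Nat → Nat => pk61l (fun i2 => (_root_.Prod.mk (pk61o On In (pk61d (nat_lit 7) 
    (nat_lit 0x3efaf9e7df4e1af2dfb55a9d3a5464c480f5eba72d99b360bd6ad54a56a74ca94a4468d01f4674e1d38691993064c163a70a9546509942644a132040c981e3c794263870e1c391a2423460a1a304891a3040810346070e1c38d18183060c346050a1468c081068c06509941a4c612240850a0608489080c1081014203041c385080c1060c101820a141820810103063870e0c14203041c38406083060608204040c18204181820a141030608105040c1820410102060810408081040408182040818204081030408102060c182040810204081030608182) i2)) (pk61o On In (pk61d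 (nat_lit 8) 
    (nat_lit 0xecedecedecededededededededecececededededecededededecedededecededebededebebededecededebededececedeaededececedeaeaedece9ededececedebebedece9e9edecebe8e8edecebeae9e1e1e1ececedebebedeceaeaedecebe9e9edecebeae8e8edecebeae7e7edecebe6e6edece5e5eddddddce3dbe2dcdbece3e2ebebe3e2eaeaeae3e2e9e9e9e9e3e2e8e8e8e8e3e2e7e7e7e3e2e6e6e3e2e5e3e2cecdcce1e1e1e1e1dcdbe0e0e0d7d6dfdfdcdbdedcdbdcdbccdadad3d2d9d7d6d7d6ccd5d3d2d3d2ccd0cfcccccbc6c5c9c8c2c6c5c2c2c0bfbcbcb9b6b5b2b2afaba69e9d9c9c9995908a847f7b7473767275) i2)))) (g1 i1) (g1 (Nat.succ i1)) List.nil) fun j => (pk61d (nat_lit 8) 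
    (nat_lit 0xf6f4f2f1f0efeeedecebeae9e8e7e6e5e4e3e2e1e0dfdedddcdbdad9d8d7d6d5d4d3d2d1d0cfcecdcccbcac9c8c7c6c5c4c3c2c1c0bfbebdbcbbbab9b8b7b6b5b4b3b2b1b0afaeadacabaaa9a8a7a6a5a4a3a2a1a09f9e9d9c9b9a999897969594939291908f8e8d8c8b8a898887868584838281807f7e7d7b797877767574737271706f6e6d6c6b6a696867666564636261605f5e5d5c5b5a595857565554535251504f4e4d4c4b4a494847464544434241403f3e3d3c3b3a393837363534333231302f2e2d2c2b2a292827262524232221201f1e1d1c1b1a191817161514131211100f0e0d0c0b0a0908070605040200) j))) (nat_lit 0) (nat_lit 240) List.nil) : List (List (ℕ × ℕ))))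
    = ?xq9015 → (List (List (ℕ × ℕ)))) ?hq9015; (case hq9015 => (set_option maxRecDepth 1000000 in conv => lhs; reduce)); intro _; exact ?xq9015 (@OfNat.ofNat Nat) instOfNatNat : List (List (ℕ × ℕ)))

noncomputable def P87 : List LD :=
  (by
  refine (?fq9016 : (fun (On : (n : Nat) → OfNat Nat n → Nat) (In : (n : Nat) → OfNat Nat n) (Oz : (n : Nat) → OfNat Int n → Int) (Iz : (n : Nat) → OfNat Int n) (Gz : Int → Int) => ((pk61l (fun i1 => (_root_.Cfsg.Agent.H169.RM.LD.mk (pk61l (fun i2 => (pk61o On In (pk61d (nat_lit 3) 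
    (nat_lit 0x1b1b8cc5e2b1388c7536994ba5526914e86c32170a84c221ccd6632d94c9643391a8c45a29128847134984b25124904e06830160a048201c452210c8441201040) i2))) (Nat.mul (nat_lit 3) i1) (Nat.mul (nat_lit 3) (Nat.succ i1)) List.nil) List.nil (pk61y Oz Iz Gz (nat_lit 0)) (pk61o On In (nat_lit 14191996901769083392050773248654116336746936063696195817687901162198426351149273636859029794668469768703)) (pk61o On In (pk61d (nat_lit 238) 
    (nat_lit 0xfffffffffffffffffffffffffffff9fffffffffffffffffffffffffffff3ffffffffffffffffffffffffe7bfe7fde7ffffffffffffffffffffffffcfffffffffffffffffffffffcfffef9f7fff3fffffffffffffffffffffff3fffffffffffffffffffffefddfffe7fffbbf7fffffffffffffffffffffcfffffffffffffffffffffbdfffdff9ffbfffbdfffffffffffffffffffff3fffffffffffffffff9ffffffffff66ffffffffff9fffffffffffffffffcffffffffffffffffdfefff7ffffff9ffffffefff7fbffffffffffffffff3fffffffffffffff7feffffefffffe7fffff7ffff7fefffffffffffffff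cffffffffffffffeefffffffffffdf9fbfffffffffff77ffffffffffffff3ffffffffffffdfffff7fdfffffffe7fffffffbfefffffbffffffffffffcffffffffffffbfffefffffffeffff9ffff7fffffff7fffdffffffffffff3ffffffffffbfeffffffffffffeffe7ff7ffffffffffff7fdffffffffffcffffffffbffffffff7ffbffffffff9ffffffffdffeffffffffdffffffff3fddfffe7bfffffffe7f9ffffffffe7ffffffff9fe7fffffffde7fffbbfcfefefbfffff9ff9fffffcffffffff9ffffffff3fffff9ff9fffffdf7f7f3f7fdfdfffe7ff9fffffff3ffffffe7ffffffcfffffff9ffe7fffbfbfefcfbfff7bffe7e7fffffffffe7fffff9fffffe7fffffffffe7e7ffdefffdf3dff7ff3ff7ffffcffffffffe7fffe7fffe7ffffffff3ffffeffcffeffbceffb9ffffffffdff3ffffffffe7ff9ffe7ffffffffcffbffffffff9dff737fffb3ffffdf3fffffffffffffcfe7f3fffffffffffffcfbffffcdfffecbffffff653ffffffffffffffffff39cffffffffffffffffffca6ffffffd1fe3fffffffffffffffc7ffffffff81ffffffffe3fffffffffffffffc7f8) (pk61d (nat_lit 5) 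
    (nat_lit 0x15956b5ad6b5ad2b5a8dea356b5aaea5255d5ac6b5ad6b561ea26d6b5ad6b3ad528a8600) i1))))) (nat_lit 0) (nat_lit 57) List.nil) : List LD))
    = ?xq9016 → (List LD)) ?hq9016; (case hq9016 => (set_option maxRecDepth 1000000 in conv => lhs; reduce)); intro _; exact ?xq9016 (@OfNat.ofNat Nat) instOfNatNat (@OfNat.ofNat Int) (@instOfNat) (@Neg.neg Int Int.instNegInt) : List LD)

theorem N87_eq : N87 = List.ofFn fun j => List.ofFn (Nf87 j) := by decide +kernel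

theorem chkE_87 : chkE chevE8 8 7 N87 E87 = true := chkE_of (by ((try (rewrite [Cfsg.Agent.LsF.f91205c_19.2, Cfsg.Agent.LsF.f91205c_1.2, Cfsg.Agent.LsF.f91205c_6.2])); decide +kernel))

theorem chkD_87 : chkD chevE8 D87 = true := chkD_of (by decide +kernel)

theorem chkC_87 : chkC 7 3 (P87.map LD.ps) = true := chkC_of (by decide +kernel)

theorem okL_87 : (P87.all (okL chevE8 8 7 3 E87 D87)) = true := okL_of (by decide +kernel)

theorem chkF_87 : ChkF chevE8 8 7 (fun (j : Fin 3) b => ∑ i, Nf87 j i * vec chevE8 8 b i) :=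
  chkF_of (by norm_num) _ N87_eq chkE_87 chkD_87 okL_87 chkC_87

end Cfsg.Agent.H169.RM
end

-- part: H169/RM/RowsD
section
/-!
# S3849: `CenB 5` for `E₆, ²E₆, E₇`, `CenB 7` for `E₇, E₈` (helper169)
-/

set_option autoImplicit false
set_option linter.unusedSectionVars false

namespace Cfsg.Agent.H169.RM

open CoxeterSystem Cfsg Cfsg.Lie Cfsg.Lie.ChevalleyDatum
open Cfsg.Agent.ChevalleyStructure Cfsg.Agent.ChevalleyStructure.Elts Cfsg.Agent.ChevalleyStructure.CoxeterGeom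
  Cfsg.Agent.ChevalleyStructure.CoxeterGeomTypes Cfsg.Agent.ChevalleyStructure.NPerm
open Cfsg.Agent.Tits.Roots Cfsg.Agent.Tits.Core Cfsg.Agent.Nodes Cfsg.Agent.Nodes.Reps Cfsg.Agent.Nodes.BNOf
  Cfsg.Agent.Nodes.RGDChev Cfsg.Agent.Nodes.Bruhat
open Cfsg.Agent.KFacts.RgdField Cfsg.Agent.KFacts.RgdChevCoord Cfsg.Agent.BpExc.TorCent Cfsg.Agent.BpExc.TorChev
open Cfsg.Agent.GpExc.Field Cfsg.Agent.BpExc.Tow Cfsg.Agent.BpExc.TowChev Cfsg.Agent.BpExc.Fr
  Cfsg.Agent.BpExc.LangFr Cfsg.Agent.H129.TorusChar Cfsg.Agent.H129.TorusMain Cfsg.Agent.H123.ExcZ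
open Cfsg.Agent.BpExc Cfsg.Agent.H795.LangT Cfsg.Agent.H795.Core Cfsg.Agent.H795.NotAbT
open Cfsg.Agent.H572.ExcA Cfsg.Agent.H572.ExcB Cfsg.Agent.H572.ExcC Cfsg.Agent.H572.ExcD Cfsg.Agent.H572.LatQ
  Cfsg.Agent.H572.LatForm Cfsg.Agent.H572.ExcE Cfsg.Agent.H572.ExcF
open Cfsg.Agent.H565.CharCnt Cfsg.Agent.H167.RV Cfsg.Agent.H795.Untw
open Cfsg.Agent.BpExc.RowsUntw Cfsg.Agent.H720.TwFr Cfsg.Agent.H795.NotAbRows
open Cfsg.Agent.H129.WData Cfsg.Agent.H795.NotAbCert Cfsg.Agent.H512.LinFour.IdealF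
open Subgroup

universe u v

section

variable {D : ChevalleyDatum} {l : ℕ} {M : CoxeterMatrix (Fin l)} {hp : IsType D l M}

theorem hN_of_mat {w : M.Group} {U : Mat l} (hU : IsMat hp w U) {m : ℕ} {Nf : Fin m → Fin l → ℤ} {s : ℕ} {q0 : ℤ}
    (h : ∀ j i, (s : ℤ) ∣ (∑ n, Nf j n * U i n) - q0 * Nf j i) (j : Fin m) (x : Fin l → ℤ) :
    (s : ℤ) ∣ (∑ i, Nf j i * (rep M.toCoxeterSystem hp.isCartan w x) i) - q0 * ∑ i, Nf j i * x i := by
  have h1 : (∑ i, Nf j i * (rep M.toCoxeterSystem hp.isCartan w x) i) - q0 * ∑ i, Nf j i * x i =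
      ∑ n, x n * ((∑ i, Nf j i * U n i) - q0 * Nf j n) := by
    simp only [hU.apply, Finset.mul_sum, mul_sub, Finset.sum_sub_distrib]
    congr 1
    · rw [Finset.sum_comm]
      exact Finset.sum_congr rfl fun n _ => Finset.sum_congr rfl fun i _ => by ring
    · exact Finset.sum_congr rfl fun n _ => by ring
  rw [h1]
  exact Finset.dvd_sum fun n _ => (h j n).mul_left _

/-- change of the sign and of the multiplier -/
theorem hN_change {w : M.Group} {θ : (Fin l → ℤ) → (Fin l → ℤ)} {ε : ℤ}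
    (hθ : ∀ x, θ x = ε • rep M.toCoxeterSystem hp.isCartan w x) {m : ℕ} {Nf : Fin m → Fin l → ℤ} {s : ℕ} {q0 q : ℤ}
    (h : ∀ j x, (s : ℤ) ∣ (∑ i, Nf j i * (rep M.toCoxeterSystem hp.isCartan w x) i) - q0 * ∑ i, Nf j i * x i)
    (hq : (s : ℤ) ∣ q - ε * q0) (j : Fin m) (x : Fin l → ℤ) :
    (s : ℤ) ∣ (∑ i, Nf j i * (θ x) i) - q * ∑ i, Nf j i * x i := by
  obtain ⟨a, ha⟩ := h j x
  obtain ⟨b, hb⟩ := hq
  have h1 : ∑ i, Nf j i * (θ x) i = ε * ∑ i, Nf j i * (rep M.toCoxeterSystem hp.isCartan w x) i := by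
    rw [Finset.mul_sum]
    refine Finset.sum_congr rfl fun i _ => ?_
    rw [hθ, Pi.smul_apply, smul_eq_mul]
    ring
  rw [h1]
  refine ⟨ε * a - b * ∑ i, Nf j i * x i, ?_⟩
  linear_combination ε * ha - (∑ i, Nf j i * x i) * hb

/-- **untwisted groups** -/
theorem cenB_untw (hp : IsType D l M) {F : Type u} [Field F] [Fintype F] {p : ℕ} [CharP F p] {d : ℕ}
    {Bi : Fin l → Fin l → ℤ} (hB : InvC D l d Bi) (hd : d ≠ 0) (hd1 : d = 1 ∨ d.Prime) {s : ℕ} [hs : Fact s.Prime]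
    (hsd : ¬ s ∣ d) (hsF : (s : F) ≠ 0) (L : Lac D) {m : ℕ} (Nf : Fin m → Fin l → ℤ) (w : M.Group)
    (hN : ∀ j x, (s : ℤ) ∣ (∑ i, Nf j i * (rep M.toCoxeterSystem hp.isCartan w x) i) -
      (Fintype.card F : ℤ) * ∑ i, Nf j i * x i) (K : ChkF D l s (fun j b => ∑ i, Nf j i * vec D l b i))
    (h1 : ∃ j, ∃ b < D.nroots, ¬ (s : ℤ) ∣ ∑ i, Nf j i * vec D l b i) : CenB s p ↥(D.group F) := by
  have hGf : Finite ↥(D.group F) := inferInstance
  obtain ⟨r, n, hr, hrF, hrk, he, hqF, hk⟩ := Cfsg.Agent.H129.TorusUntw.exists_closure (F := F) rfl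
  have hrp : p = r := CharP.eq F ‹_› hrF
  subst hrp
  have hsr : s ≠ p := by
    rintro rfl
    exact hsF (CharP.cast_eq_zero F s)
  have hset := setup_untw hp (p := s) hk (algebraMap F (AlgebraicClosure F)) he hqF hB hd hd1 hsd
  obtain ⟨κ, τ, z, hEm, hκ, hb⟩ := exists_emb (hp := hp) hk hset.inj he hset.frob hset.fr hset.fix hset.fin w
  refine cenB_fun hk hEm hB hd (Cfsg.Agent.H167.RM.mem_of_setup hset hκ hb) hsr L Nf (fun j x => ?_) K h1
  have h2 := hN j x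
  rw [hqF] at h2
  push_cast at h2
  exact h2

end

theorem lac_E6' : Lac chevE6 := ⟨by simp, le_of (by decide +kernel), by decide +kernel⟩
theorem lac_E7' : Lac chevE7 := ⟨by simp, le_of (by decide +kernel), by decide +kernel⟩
theorem lac_E8' : Lac chevE8 := ⟨by simp, le_of (by decide +kernel), by (delta Cfsg.Agent.ChevalleyStructure.Columns.cor; rewrite [Cfsg.Agent.ChevFast.E8.coroot]; decide +kernel)⟩

section Untw

variable {F : Type u} [Field F] [Fintype F] {p : ℕ} [CharP F p]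

theorem not_dvd_card {s : ℕ} (hs : s.Prime) (hsF : (s : F) ≠ 0) : ¬ (s : ℤ) ∣ (Fintype.card F : ℤ) := by
  intro h
  have h1 : s ∣ Fintype.card F := by exact_mod_cast h
  obtain ⟨r, n, hr, hrF, -, -, hqF, -⟩ := Cfsg.Agent.H129.TorusUntw.exists_closure (F := F) rfl
  rw [hqF] at h1
  have h2 := (Nat.prime_dvd_prime_iff_eq hs hr.out).1 (hs.dvd_of_dvd_pow h1)
  subst h2
  exact hsF (CharP.cast_eq_zero F s)

/-- **`E₆(q)`, `s = 5`, all `q`** -/
theorem cenB_e6_five (h5F : (5 : F) ≠ 0) : CenB 5 p ↥(chevE6.group F) := by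
  have : Fact (Nat.Prime 5) := ⟨Nat.prime_five⟩
  have h5 : ¬ (5 : ℤ) ∣ (Fintype.card F : ℤ) := by
    exact_mod_cast not_dvd_card (F := F) Nat.prime_five (by exact_mod_cast h5F)
  have main : ∀ {w : CoxeterMatrix.E₆.Group} {U : Mat 6} {q0 : ℤ}, IsMat e6T w U →
      (∀ j i, ((5 : ℕ) : ℤ) ∣ (∑ n, Nf65 j n * U i n) - q0 * Nf65 j i) → (5 : ℤ) ∣ (Fintype.card F : ℤ) - 1 * q0 →
      CenB 5 p ↥(chevE6.group F) := by
    intro w U q0 hU h1 h2
    exact cenB_untw e6T invC_E6 three_ne_zero (Or.inr Nat.prime_three) (by norm_num) (by exact_mod_cast h5F) lac_E6'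
      Nf65 w (hN_change (hp := e6T) (θ := fun x => rep CoxeterMatrix.E₆.toCoxeterSystem e6T.isCartan w x) (ε := 1)
        (fun x => (one_smul ℤ _).symm) (hN_of_mat hU h1) h2) chkF_65 (by decide +kernel)
  have hc : (5 : ℤ) ∣ (Fintype.card F : ℤ) - 1 * 1 ∨ (5 : ℤ) ∣ (Fintype.card F : ℤ) - 1 * 2 ∨
      (5 : ℤ) ∣ (Fintype.card F : ℤ) - 1 * 3 ∨ (5 : ℤ) ∣ (Fintype.card F : ℤ) - 1 * 4 := by omega
  rcases hc with h | h | h | h
  · exact main isMat_one (by decide +kernel) h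
  · exact main (E6.is_c3 e6T) (by decide +kernel) h
  · exact main (E6.is_c9 e6T) (by decide +kernel) h
  · exact main (E6.is_c6 e6T) (by decide +kernel) h

/-- **`E₇(q)`, `s = 5`, all `q`** -/
theorem cenB_e7_five (h5F : (5 : F) ≠ 0) : CenB 5 p ↥(chevE7.group F) := by
  have : Fact (Nat.Prime 5) := ⟨Nat.prime_five⟩
  have h5 : ¬ (5 : ℤ) ∣ (Fintype.card F : ℤ) := by
    exact_mod_cast not_dvd_card (F := F) Nat.prime_five (by exact_mod_cast h5F)
  have main : ∀ {w : CoxeterMatrix.E₇.Group} {U : Mat 7} {q0 : ℤ}, IsMat e7T w U →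
      (∀ j i, ((5 : ℕ) : ℤ) ∣ (∑ n, Nf75 j n * U i n) - q0 * Nf75 j i) → (5 : ℤ) ∣ (Fintype.card F : ℤ) - 1 * q0 →
      CenB 5 p ↥(chevE7.group F) := by
    intro w U q0 hU h1 h2
    exact cenB_untw e7T invC_E7 two_ne_zero (Or.inr Nat.prime_two) (by norm_num) (by exact_mod_cast h5F) lac_E7'
      Nf75 w (hN_change (hp := e7T) (θ := fun x => rep CoxeterMatrix.E₇.toCoxeterSystem e7T.isCartan w x) (ε := 1)
        (fun x => (one_smul ℤ _).symm) (hN_of_mat hU h1) h2) chkF_75 (by decide +kernel)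
  have hc : (5 : ℤ) ∣ (Fintype.card F : ℤ) - 1 * 1 ∨ (5 : ℤ) ∣ (Fintype.card F : ℤ) - 1 * 2 ∨
      (5 : ℤ) ∣ (Fintype.card F : ℤ) - 1 * 3 ∨ (5 : ℤ) ∣ (Fintype.card F : ℤ) - 1 * 4 := by omega
  rcases hc with h | h | h | h
  · exact main isMat_one (by decide +kernel) h
  · exact main (E7.is_c3 e7T) (by decide +kernel) h
  · exact main (E7.is_c9 e7T) (by decide +kernel) h
  · exact main (E7.is_c6 e7T) (by decide +kernel) h

theorem cases_seven {q : ℤ} (h : ¬ (7 : ℤ) ∣ q) : ∃ ε : ℤ, (ε = 1 ∨ ε = -1) ∧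
    ((7 : ℤ) ∣ q - ε * 1 ∨ (7 : ℤ) ∣ q - ε * 2 ∨ (7 : ℤ) ∣ q - ε * 4) := by
  have h1 : q % 7 = 1 ∨ q % 7 = 2 ∨ q % 7 = 4 ∨ q % 7 = 3 ∨ q % 7 = 5 ∨ q % 7 = 6 := by omega
  rcases h1 with h1 | h1 | h1 | h1 | h1 | h1
  · exact ⟨1, Or.inl rfl, by omega⟩
  · exact ⟨1, Or.inl rfl, by omega⟩
  · exact ⟨1, Or.inl rfl, by omega⟩
  · exact ⟨-1, Or.inr rfl, by omega⟩
  · exact ⟨-1, Or.inr rfl, by omega⟩
  · exact ⟨-1, Or.inr rfl, by omega⟩

/-- **`E₇(q)`, `s = 7`, all `q`** -/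
theorem cenB_e7_seven (h7F : (7 : F) ≠ 0) : CenB 7 p ↥(chevE7.group F) := by
  have h7p : Nat.Prime 7 := by norm_num
  have : Fact (Nat.Prime 7) := ⟨h7p⟩
  have h7 : ¬ (7 : ℤ) ∣ (Fintype.card F : ℤ) := by
    exact_mod_cast not_dvd_card (F := F) h7p (by exact_mod_cast h7F)
  obtain ⟨ε, hε, hc⟩ := cases_seven h7
  obtain ⟨v, hv⟩ := exists_w e7T negE7 hε
  have main : ∀ {w : CoxeterMatrix.E₇.Group} {U : Mat 7} {q0 : ℤ}, IsMat e7T w U →
      (∀ j i, ((7 : ℕ) : ℤ) ∣ (∑ n, Nf77 j n * U i n) - q0 * Nf77 j i) → (7 : ℤ) ∣ (Fintype.card F : ℤ) - ε * q0 →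
      CenB 7 p ↥(chevE7.group F) := by
    intro w U q0 hU h1 h2
    exact cenB_untw e7T invC_E7 two_ne_zero (Or.inr Nat.prime_two) (by norm_num) (by exact_mod_cast h7F) lac_E7'
      Nf77 (v * w) (hN_change (hp := e7T) (θ := fun x => rep CoxeterMatrix.E₇.toCoxeterSystem e7T.isCartan (v * w) x) (ε := ε)
        (fun x => by rw [rep_mul_apply, hv]) (hN_of_mat hU h1) h2) chkF_77 (by decide +kernel)
  rcases hc with h | h | h
  · exact main isMat_one (by decide +kernel) h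
  · exact main (E7.is_c4 e7T) (by decide +kernel) h
  · exact main (E7.is_c8 e7T) (by decide +kernel) h

/-- **`E₈(q)`, `s = 7`, all `q`** -/
theorem cenB_e8_seven (h7F : (7 : F) ≠ 0) : CenB 7 p ↥(chevE8.group F) := by
  have h7p : Nat.Prime 7 := by norm_num
  have : Fact (Nat.Prime 7) := ⟨h7p⟩
  have h7 : ¬ (7 : ℤ) ∣ (Fintype.card F : ℤ) := by
    exact_mod_cast not_dvd_card (F := F) h7p (by exact_mod_cast h7F)
  obtain ⟨ε, hε, hc⟩ := cases_seven h7
  obtain ⟨v, hv⟩ := exists_w e8T negE8 hε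
  have main : ∀ {w : CoxeterMatrix.E₈.Group} {U : Mat 8} {q0 : ℤ}, IsMat e8T w U →
      (∀ j i, ((7 : ℕ) : ℤ) ∣ (∑ n, Nf87 j n * U i n) - q0 * Nf87 j i) → (7 : ℤ) ∣ (Fintype.card F : ℤ) - ε * q0 →
      CenB 7 p ↥(chevE8.group F) := by
    intro w U q0 hU h1 h2
    exact cenB_untw e8T invC_E8 one_ne_zero (Or.inl rfl) (by norm_num) (by exact_mod_cast h7F) lac_E8'
      Nf87 (v * w) (hN_change (hp := e8T) (θ := fun x => rep CoxeterMatrix.E₈.toCoxeterSystem e8T.isCartan (v * w) x) (ε := ε)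
        (fun x => by rw [rep_mul_apply, hv]) (hN_of_mat hU h1) h2) chkF_87 (by (open scoped Cfsg.Agent.ChevFast.Lin in decide +kernel))
  rcases hc with h | h | h
  · exact main isMat_one (by decide +kernel) h
  · exact main (E8.is_c4 e8T) (by (open scoped Cfsg.Agent.ChevFast.Lin in decide +kernel)) h
  · exact main (E8.is_c8 e8T) (by decide +kernel) h

end Untw

section Tw

variable {K : Type u} [Field K] [Fintype K] {p : ℕ} [CharP K p] {q : ℕ} (hq : IsPrimePow q)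

include hq

set_option maxRecDepth 100000 in
/-- **`²E₆(q)`, `s = 5`, all `q`** -/
theorem cenB_2E6_five (h5F : (5 : K) ≠ 0) (hF : Fintype.card K = q ^ 2) : CenB 5 p ↥(twistedE6 K q) := by
  have hG : Finite ↥(twistedE6 K q) := inferInstance
  have h5q : ¬ (5 : ℤ) ∣ (q : ℤ) := by
    intro h
    apply not_dvd_card (F := K) Nat.prime_five (by exact_mod_cast h5F)
    rw [hF]
    push_cast
    exact dvd_pow h two_ne_zero
  obtain ⟨r, n, hr, hrF, hrk, hn0, hn, hk⟩ := Cfsg.Agent.H795.Tw.exists_closure_q two_ne_zero hq hF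
  have hrp : p = r := CharP.eq K ‹_› hrF
  subst hrp
  have hpr : 5 ≠ p := by
    rintro rfl
    exact h5F (by exact_mod_cast CharP.cast_eq_zero K 5)
  have : Fact (Nat.Prime 5) := ⟨by norm_num⟩
  have hset := Cfsg.Agent.H795.Tw.setup_six (algebraMap K (AlgebraicClosure K)) p hk hn0 hn hF (p := 5) (by norm_num)
  have hθ0 : ∀ x, rep CoxeterMatrix.E₆.toCoxeterSystem hp6.isCartan Cfsg.Agent.H795.NotAbData.E6.c6
      (permE rho6 x) = (-1 : ℤ) • x :=
    eps_of_mat (hp := Cfsg.Agent.H720.TwFr.hp6) (g := permE rho6) (w := Cfsg.Agent.H795.NotAbData.E6.c6)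
      (U := Cfsg.Agent.H795.NotAbData.E6.c6M) (ε := -1) perm6_mat
      (Cfsg.Agent.H795.NotAbData.E6.is_c6 Cfsg.Agent.H720.TwFr.hp6) (by decide +kernel)
  have main : ∀ {w : CoxeterMatrix.E₆.Group} {U : Mat 6} {q0 : ℤ}, IsMat hp6 w U →
      (∀ j i, ((5 : ℕ) : ℤ) ∣ (∑ n, Nf65 j n * U i n) - q0 * Nf65 j i) → (5 : ℤ) ∣ (q : ℤ) - (-1) * q0 →
      CenB 5 p ↥(twistedE6 K q) := by
    intro w U q0 hU h1 h2
    obtain ⟨κ, τ, z, hEm, hκ, hb⟩ := exists_emb (hp := hp6) hk hset.inj hn0 hset.frob hset.fr hset.fix hset.fin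
      (w * Cfsg.Agent.H795.NotAbData.E6.c6)
    refine cenB_fun hk hEm invC_E6 three_ne_zero (Cfsg.Agent.H167.RM.mem_of_setup hset hκ hb) hpr lac_E6' Nf65
      (hN_change (hp := hp6) (w := w) (ε := -1) (fun x => ?_) (hN_of_mat hU h1) ?_) chkF_65 (by decide +kernel)
    · show rep CoxeterMatrix.E₆.toCoxeterSystem hp6.isCartan (w * Cfsg.Agent.H795.NotAbData.E6.c6) (permE rho6 x) = _
      rw [rep_mul_apply, hθ0, map_smul]
    · have h3 : ((p : ℤ) ^ n) = (q : ℤ) := by rw [hn]; push_cast; rfl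
      rw [h3]
      exact_mod_cast h2
  have hc : (5 : ℤ) ∣ (q : ℤ) - (-1) * 1 ∨ (5 : ℤ) ∣ (q : ℤ) - (-1) * 2 ∨
      (5 : ℤ) ∣ (q : ℤ) - (-1) * 3 ∨ (5 : ℤ) ∣ (q : ℤ) - (-1) * 4 := by omega
  rcases hc with h | h | h | h
  · exact main isMat_one (by decide +kernel) h
  · exact main (E6.is_c3 hp6) (by decide +kernel) h
  · exact main (E6.is_c9 hp6) (by decide +kernel) h
  · exact main (E6.is_c6 hp6) (by decide +kernel) h

end Tw

end Cfsg.Agent.H169.RM
end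

private theorem dce_02e52e91c143 : _root_.True := by
  try have : _root_.True := by simp only [_root_.Cfsg.Agent.H971.RV.ev.congr_simp]
  exact _root_.True.intro
end

-- part: H893/RM/Star
section
set_option linter.all false
open scoped Cfsg.Agent.FastGrp

-- part: H893/RM/Good
section
/-!
# S3849: rows with a nilpotent Hall subgroup (helper893)

* `nil_of_good` : if all primes of `π` dividing the order are good, the Hall `π`-subgroups are nilpotent;
* `her_congr`, `rowM_congr`, `rowM_of_dom`;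
* `rowM_good`, `rowM_suz`.
-/

set_option autoImplicit false
set_option linter.unusedSectionVars false

namespace Cfsg.Agent.H893.RM

open Subgroup Cfsg Cfsg.Agent.H988.CPi Cfsg.Agent.H571.DExt Cfsg.Agent.H571.RV Cfsg.Agent.H571.RM
  Cfsg.Agent.H553.OddHall Cfsg.Agent.H565.NM Cfsg.Agent.H167.RV

universe u

variable {π : Set ℕ} {S : Type u} [Group S] [Finite S]

theorem nil_of_good {P : ℕ → Prop} (hG : Good P S) (h2 : 2 ∉ π)
    (hP : ∀ t, t.Prime → t ∈ π → t ∣ Nat.card S → P t) {H : Subgroup S} (hH : IsPiHall π H) :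
    Group.IsNilpotent H := by
  have h0 := (Group.isNilpotent_of_finite_tfae (G := H)).out 0 3
  refine h0.2 ?_
  intro t ht Q
  by_cases htH : t ∣ Nat.card H
  · have htπ := hH.1 t ht.out htH
    have ht2 : t ≠ 2 := by rintro rfl; exact h2 htπ
    exact (ns_of_pairs h2 ht.out htπ (fun s hs hsπ hst hsd => pairN_of_noMin hs ht.out
      (by rintro rfl; exact h2 hsπ) ht2 hst (hG.noMin s t hs ht.out (hP s hs hsπ hsd)
        (hP t ht.out htπ (htH.trans (card_subgroup_dvd_card H))) hst)) hH).sylow_normal Q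
  · have h1 : (Q : Subgroup H) = ⊥ := by
      rw [← card_eq_one]
      obtain ⟨k, hk⟩ := IsPGroup.iff_card.mp Q.2
      rcases Nat.eq_zero_or_pos k with rfl | hk0
      · simpa only [_root_.Subgroup.card_eq_one, _root_.pow_zero] using hk
      · exfalso
        apply htH
        exact (dvd_pow_self t hk0.ne').trans (hk ▸ card_subgroup_dvd_card (Q : Subgroup H))
    rw [h1]
    infer_instance

omit [Finite S] in
theorem her_congr {T : Type*} [Group T] (e : S ≃* T) (h : Her π S) : Her π T := by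
  intro hD H M hH hHM
  obtain ⟨H, rfl⟩ := Cfsg.Agent.H808.RV.exists_eq_map e H
  obtain ⟨M, rfl⟩ := Cfsg.Agent.H808.RV.exists_eq_map e M
  have h1 := h (Cfsg.Agent.H808.RV.dom_congr e.symm hD) H M ((Cfsg.Agent.H808.RV.isPiHall_map e).1 hH)
    ((Cfsg.Agent.H808.RV.map_mono_iff e).1 hHM)
  exact Cfsg.Agent.H808.RV.dom_congr (M.equivMapOfInjective e.toMonoidHom e.injective) h1

omit [Finite S] in
theorem rowM_congr {T : Type*} [Group T] (e : S ≃* T) (h : RowM π S) : RowM π T := fun hs =>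
  her_congr e (h fun L hL => her_congr (L.equivMapOfInjective e.toMonoidHom e.injective).symm
    (hs (L.map e.toMonoidHom) fun h1 => hL (by
      rw [eq_top_iff]
      intro x _
      have h2 : e x ∈ L.map e.toMonoidHom := by rw [h1]; trivial
      obtain ⟨y, hy, hyx⟩ := h2
      rwa [← e.injective hyx])))

/-- the row may be proved under `Dom` -/
theorem rowM_of_dom (h : Dom π S → RowM π S) : RowM π S := fun hs hD => h hD hs hD

/-- **all primes good** -/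
theorem rowM_good {P : ℕ → Prop} (hG : Good P S) (h2 : 2 ∉ π)
    (hP : ∀ t, t.Prime → t ∈ π → t ∣ Nat.card S → P t) : RowM π S :=
  rowM_of_dom fun hD => by
    obtain ⟨H, hH, -⟩ := hD
    exact her_rowM (her_of_nilpotent hH (nil_of_good hG h2 hP hH))

theorem good_suz (h : Lie.IsoSuzuki S) : Good (fun t => t ≠ 2) S := by
  obtain ⟨F, iF, iF', m, hm, hF, ⟨f⟩⟩ := id h
  obtain ⟨e⟩ := Cfsg.Agent.OddCyclic.ClaimC.SzIso.iso (F := F) hm hF
  have : Finite (Cfsg.Sz F m) := Finite.of_equiv S (f.trans e.symm).toEquiv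
  refine (good_sz hm hF fun t ht ht2 Q hQ => ?_).of_equiv (f.trans e.symm)
  have hft : Fact t.Prime := ⟨ht⟩
  have h1 := Cfsg.Agent.OddRank.SzTits.isCyclic_of_isPGroup h ht2 (Q.comap (f.trans e.symm).toMonoidHom)
    (hQ.comap_of_injective _ (f.trans e.symm).injective)
  have h3 : (Q.comap (f.trans e.symm).toMonoidHom).map (f.trans e.symm).toMonoidHom = Q :=
    map_comap_eq_self_of_surjective (f.trans e.symm).surjective Q
  have h4 : IsCyclic ((Q.comap (f.trans e.symm).toMonoidHom).map (f.trans e.symm).toMonoidHom) :=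
    isCyclic_of_surjective ((f.trans e.symm).toMonoidHom.subgroupMap (Q.comap (f.trans e.symm).toMonoidHom))
      ((f.trans e.symm).toMonoidHom.subgroupMap_surjective _)
  rwa [h3] at h4

/-- **`Sz(q)`** -/
theorem rowM_suz (h2 : 2 ∉ π) (h : Lie.IsoSuzuki S) : RowM π S :=
  rowM_good (good_suz h) h2 fun t _ htπ _ => by rintro rfl; exact h2 htπ

end Cfsg.Agent.H893.RM
end

-- part: H893/RM/Star
section
/-!
# S3849: the criterion FD from the fixed points of the single elements (helper893)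

* `HA.mem_A` : elements of `H` of order prime to `r` lie in `A`;
* `rowM_of_star` : if an `r`-element `w ∈ H` commuting with an element of order `t` of `A` centralises all `t`-elements
  of `A` (for all primes `t`), then `RowM π S`.
-/

set_option autoImplicit false
set_option linter.unusedSectionVars false

namespace Cfsg.Agent.H893.RM

open Subgroup Cfsg Cfsg.Agent.H988.CPi Cfsg.Agent.H571.DExt Cfsg.Agent.H571.RV Cfsg.Agent.H571.RM
  Cfsg.Agent.H553.OddHall Cfsg.Agent.H565.NM Cfsg.Agent.H167.RV Cfsg.Agent.Solvable.SZ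
open scoped Pointwise

universe u

variable {π : Set ℕ} {r : ℕ} {S : Type u} [Group S] [Finite S] {H A : Subgroup S}

omit [Finite S] in
theorem card_mul_relIndex' {K L : Subgroup S} (h : K ≤ L) : Nat.card K * K.relIndex L = Nat.card L := by
  have h1 := (K.subgroupOf L).card_mul_index
  rw [Nat.card_congr (subgroupOfEquivOfLe h).toEquiv] at h1
  exact h1

theorem mem_of_coprime_idx (hAH : A ≤ H) (hn : H ≤ normalizer (A : Set S))
    (hidx : ∀ p : ℕ, p.Prime → p ∣ A.relIndex H → p = r) (hr : r.Prime) {x : S} (hx : x ∈ H)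
    (hxr : (orderOf x).Coprime r) : x ∈ A := by
  have hnorm : (A.subgroupOf H).Normal := (normal_subgroupOf_iff_le_normalizer hAH).mpr hn
  have h1 : (⟨x, hx⟩ : H) ^ (A.subgroupOf H).index ∈ A.subgroupOf H := pow_index_mem _ _
  have h2 : x ^ A.relIndex H ∈ A := mem_subgroupOf.1 h1
  have h3 : x ^ orderOf x ∈ A := by rw [pow_orderOf_eq_one]; exact one_mem _
  refine mem_of_pow_mem_coprime h2 h3 ?_
  rw [Nat.coprime_comm]
  refine Nat.Coprime.symm (Nat.Coprime.symm ?_)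
  by_contra hne
  obtain ⟨p, hp, hp1, hp2⟩ := Nat.Prime.not_coprime_iff_dvd.1 hne
  have h4 := hidx p hp hp2
  subst h4
  exact hp.one_lt.ne' (Nat.dvd_one.1 (hxr ▸ Nat.dvd_gcd hp1 dvd_rfl))

theorem HA.mem_A (d : HA π r H A) {x : S} (hx : x ∈ H) (hxr : (orderOf x).Coprime r) : x ∈ A :=
  mem_of_coprime_idx d.ale d.nor d.idx d.hr hx hxr

/-- a subgroup is centralised by `w` if its elements of prime power order are -/
theorem cen_of_primary {X : Subgroup S} {w : S}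
    (h : ∀ t, t.Prime → t ∣ Nat.card X → ∀ x ∈ X, (∃ k, x ^ t ^ k = 1) → w * x = x * w) : ∀ x ∈ X, w * x = x * w := by
  set Y : Subgroup S := X ⊓ centralizer {w} with hY
  have h1 : Y.relIndex X = 1 := by
    by_contra hne
    obtain ⟨t, ht, htd⟩ := Nat.exists_prime_and_dvd hne
    have htX : t ∣ Nat.card X := htd.trans (relIndex_dvd_card _ _)
    obtain ⟨Q, hQX, hQt, hQi⟩ := exists_syl ht X
    apply hQi
    refine htd.trans (relIndex_dvd_of_le_left X (le_inf hQX fun q hq => ?_))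
    rw [mem_centralizer_singleton_iff]
    obtain ⟨k, hk⟩ := hQt ⟨q, hq⟩
    exact (h t ht htX q (hQX hq) ⟨k, congrArg Subtype.val hk⟩).symm
  intro x hx
  have h2 := (relIndex_eq_one.1 h1 hx).2
  exact (mem_centralizer_singleton_iff.1 h2).symm

/-- **the criterion** -/
theorem rowM_of_star (d : HA π r H A) (hrπ : r ∈ π)
    (hst : ∀ t, t.Prime → t ≠ r → t ∣ Nat.card A → ∀ w ∈ H, (∃ k, w ^ r ^ k = 1) → ∀ a ∈ A, orderOf a = t →
      w * a = a * w → ∀ b ∈ A, (∃ k, b ^ t ^ k = 1) → w * b = b * w) : RowM π S := by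
  refine rowM_of_fd d fun hD X hXA hX hd => ?_
  set C : Subgroup S := centralizer (X : Set S) with hC
  obtain ⟨P, hPC, hPr, hPi⟩ := exists_syl d.hr C
  have hcomm : ∀ p ∈ P, ∀ x ∈ X, p * x = x * p := fun p hp x hx => (mem_centralizer_iff.1 (hPC hp) x hx).symm
  have hPX : P ≤ normalizer (X : Set S) := fun p hp => by
    rw [mem_normalizer_iff]
    intro y
    have hpc : ∀ x ∈ X, p * x * p⁻¹ = x := fun x hx => by rw [hcomm p hp x hx, mul_inv_cancel_right]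
    constructor
    · intro hy; rw [hpc y hy]; exact hy
    · intro hy
      have h1 := hcomm p hp _ hy
      have h2 : y = p * y * p⁻¹ := by
        have h3 : p * (p * y * p⁻¹) = p * y := by rw [h1]; group
        exact (mul_left_cancel h3).symm
      rw [h2]; exact hy
  have hXH : X ≤ H := hXA.trans d.ale
  have hK : PiN π (Nat.card (P ⊔ X : Subgroup S)) :=
    piN_sup hPX (piN_of_pgroup d.hr hrπ hPr) (PiN.of_dvd d.hall.1 (card_dvd_of_le hXH))
  obtain ⟨g, -, hg⟩ := (d.dfw hD).dom _ le_top hK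
  have hgm : ∀ y ∈ P ⊔ X, g⁻¹ * y * g ∈ H := fun y hy => mem_smul_iff'.1 (hg hy)
  -- the conjugate of `P`
  have hP' : MulAut.conj g⁻¹ • P ≤ H ⊓ C := by
    rintro _ ⟨p, hp, rfl⟩
    have hw : g⁻¹ * p * g⁻¹⁻¹ ∈ H := by rw [inv_inv]; exact hgm p (mem_sup_left hp)
    refine ⟨hw, ?_⟩
    have hwr : ∃ k, (g⁻¹ * p * g⁻¹⁻¹) ^ r ^ k = 1 := by
      obtain ⟨k, hk⟩ := hPr ⟨p, hp⟩
      have hk' : p ^ r ^ k = 1 := congrArg Subtype.val hk
      exact ⟨k, by rw [conj_pow, hk']; group⟩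
    show g⁻¹ * p * g⁻¹⁻¹ ∈ centralizer (X : Set S)
    rw [mem_centralizer_iff]
    have key := cen_of_primary (X := X) (w := g⁻¹ * p * g⁻¹⁻¹) fun t ht htX x hx hxt => by
      have hft : Fact t.Prime := ⟨ht⟩
      obtain ⟨y, hy⟩ := exists_prime_orderOf_dvd_card' t htX
      have hyo : orderOf (y : S) = t := by rw [Subgroup.orderOf_coe]; exact hy
      have htr : t ≠ r := by
        rintro rfl
        exact d.rA (htX.trans (card_dvd_of_le hXA))
      have hy' : orderOf (g⁻¹ * y * g⁻¹⁻¹) = t := by rw [← hyo]; exact (MulAut.conj g⁻¹).orderOf_eq (y : S)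
      have hyH : g⁻¹ * y * g⁻¹⁻¹ ∈ H := by rw [inv_inv]; exact hgm y (mem_sup_right y.2)
      have hyA : g⁻¹ * y * g⁻¹⁻¹ ∈ A := HA.mem_A d hyH (by
        rw [hy']; exact (Nat.coprime_primes ht d.hr).2 htr)
      refine hst t ht htr (htX.trans (card_dvd_of_le hXA)) _ hw hwr _ hyA hy' ?_ x (hXA hx) hxt
      have h1 := hcomm p hp y y.2
      calc g⁻¹ * p * g⁻¹⁻¹ * (g⁻¹ * y * g⁻¹⁻¹) = g⁻¹ * (p * y) * g⁻¹⁻¹ := by group
        _ = g⁻¹ * (y * p) * g⁻¹⁻¹ := by rw [h1]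
        _ = _ := by group
    exact fun x hx => (key x hx).symm
  -- the index
  have h1 : (MulAut.conj g⁻¹ • P).relIndex C = P.relIndex C := by
    have h2 := card_mul_relIndex' (hP'.trans inf_le_right)
    have h3 := card_mul_relIndex' hPC
    rw [card_conj_smul] at h2
    exact Nat.eq_of_mul_eq_mul_left Nat.card_pos (h2.trans h3.symm)
  apply hPi
  rw [← h1]
  refine hd.trans ?_
  have h4 : H.relIndex C = (H ⊓ C).relIndex C := by rw [inf_relIndex_right]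
  rw [h4]
  exact relIndex_dvd_of_le_left C hP'

end Cfsg.Agent.H893.RM
end
end

-- part: H169/RM/DFrm_mg
section
prune_inst 0x103444482200000000000080001e008400009000088000c90003440608240300000920080012021120a2240000000811540069420000000a000600411c008008a8020020010000400006000004000000000000000000000000000000000000000000000
set_option linter.all false
open scoped Cfsg.Agent.FastGrp

-- part: H169/RM/DIdx
section
/-!
# S3849, `³D₄(q)`: the automorphisms induced on a toral subgroup (helper169)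

* `relIndex_dvd_W` : `B` toral, `R ≤ N(B)`: `|R : C_R(B)|` divides `|W|`.
-/

set_option autoImplicit false
set_option linter.unusedSectionVars false

namespace Cfsg.Agent.H169.RM.DFour

open CoxeterSystem Cfsg Cfsg.Lie Cfsg.Lie.ChevalleyDatum
open Cfsg.Agent.ChevalleyStructure Cfsg.Agent.ChevalleyStructure.Elts Cfsg.Agent.ChevalleyStructure.CoxeterGeom
  Cfsg.Agent.ChevalleyStructure.CoxeterGeomTypes Cfsg.Agent.ChevalleyStructure.NPerm
open Cfsg.Agent.Tits.Roots Cfsg.Agent.Tits.Core Cfsg.Agent.Nodes Cfsg.Agent.Nodes.Reps Cfsg.Agent.Nodes.BNOf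
  Cfsg.Agent.Nodes.RGDChev Cfsg.Agent.Nodes.Bruhat
open Cfsg.Agent.KFacts.RgdField Cfsg.Agent.KFacts.RgdChevCoord Cfsg.Agent.BpExc.TorCent Cfsg.Agent.BpExc.TorChev
open Cfsg.Agent.GpExc.Field Cfsg.Agent.BpExc.Tow Cfsg.Agent.BpExc.TowChev Cfsg.Agent.BpExc.Fr
  Cfsg.Agent.BpExc.LangFr Cfsg.Agent.H795.SetCent Cfsg.Agent.H795.SetTor
open Cfsg.Agent.H572.ExcA
open Subgroup

universe u v

variable {D : ChevalleyDatum} {l : ℕ} {M : CoxeterMatrix (Fin l)} (hp : IsType D l M)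
  {k : Type u} [Field k] [IsAlgClosed k] (hk : LocFin k) (r : ℕ) [Fact r.Prime] [CharP k r]

include hp hk r in
/-- **the automorphisms induced on a toral subgroup** -/
theorem relIndex_dvd_W {G : Type v} [Group G] [Finite G] {f : G →* ↥(D.group k)} (hf : Function.Injective f)
    {B R : Subgroup G} {g : ↥(D.group k)} (hg : ∀ x ∈ B, g * f x * g⁻¹ ∈ TT D k)
    (hR : R ≤ normalizer (B : Set G)) : (centralizer (B : Set G)).relIndex R ∣ Nat.card M.Group := by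
  classical
  have hWf := finite_W hp (M.toCoxeterSystem)
  have H := tow hp M.toCoxeterSystem hk r
  have C : Coords M.toCoxeterSystem hp.isCartan (TL (Tj hp (k := k))) (nc hp k) (XL (Xj hp)) (xc hp) (ch hp) := by
    rw [TL_eq hp hk, XL_eq hp hk]
    exact coordsL hp M.toCoxeterSystem hk r
  have hGt := GG_eq_top hp M.toCoxeterSystem hk
  -- the pairs
  let S' : Subgroup (M.Group × MulAut B) :=
    { carrier := {x | ∃ n, RP hp hk r x.1 n ∧ ∀ b : B, n * (g * f b * g⁻¹) = (g * f (x.2 b : B) * g⁻¹) * n}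
      one_mem' := ⟨1, RP.one hp hk r, fun b => by
        rw [one_mul, mul_one]; rfl⟩
      mul_mem' := by
        rintro ⟨v, α⟩ ⟨w, β⟩ ⟨m, hm, hmb⟩ ⟨n, hn, hnb⟩
        refine ⟨m * n, hm.mul hn, fun b => ?_⟩
        have h1 := hnb b
        have h2 := hmb (β b)
        show m * n * (g * f b * g⁻¹) = (g * f ((α * β) b : B) * g⁻¹) * (m * n)
        rw [MulAut.mul_apply, mul_assoc m n, h1, ← mul_assoc m, h2, mul_assoc _ m n]
      inv_mem' := by
        rintro ⟨v, α⟩ ⟨m, hm, hmb⟩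
        refine ⟨m⁻¹, hm.inv, fun b => ?_⟩
        have h1 := hmb (α⁻¹ b)
        have h2 : α (α⁻¹ b) = b := by rw [MulAut.apply_inv_self]
        rw [show (((v, α) : M.Group × MulAut B)).2 = α from rfl, h2] at h1
        show m⁻¹ * (g * f b * g⁻¹) = (g * f (α⁻¹ b : B) * g⁻¹) * m⁻¹
        rw [inv_mul_eq_iff_eq_mul, ← mul_assoc, h1, mul_inv_cancel_right] }
  have hS' : ∀ {x : M.Group × MulAut B}, x ∈ S' ↔
      ∃ n, RP hp hk r x.1 n ∧ ∀ b : B, n * (g * f b * g⁻¹) = (g * f (x.2 b : B) * g⁻¹) * n := Iff.rfl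
  -- the first projection
  have h1 : Nat.card S' ∣ Nat.card M.Group := by
    refine card_dvd_of_injective ((MonoidHom.fst M.Group (MulAut B)).comp S'.subtype) ?_
    rw [injective_iff_map_eq_one]
    rintro ⟨⟨w, α⟩, hx⟩ hw
    have hw1 : w = 1 := hw
    subst hw1
    obtain ⟨n, hn, hnb⟩ := hS'.1 hx
    have hnT := hn.mem_of_one
    have hα : α = 1 := by
      ext b
      have h2 := hnb b
      rw [TT_comm hp _ hnT _ (hg b b.2)] at h2
      have h3 := mul_right_cancel h2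
      have h4 : f b = f (α b : B) := mul_left_cancel (mul_right_cancel h3)
      exact (hf h4).symm
    subst hα
    rfl
  -- the second projection
  let φ : R →* MulAut B := B.normalizerMonoidHom.comp (inclusion hR)
  have h2 : φ.range ≤ S'.map (MonoidHom.snd M.Group (MulAut B)) := by
    rintro _ ⟨y, rfl⟩
    have hyB : ∀ b : B, (y : G) * b * (y : G)⁻¹ ∈ B := fun b => (mem_normalizer_iff.1 (hR y.2) b).1 b.2
    obtain ⟨m, -, w, n, hn', hnk, -⟩ := exists_formZ H C (ι := B) (s := fun b => g * f b * g⁻¹)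
      (t := fun b => g * f (y * b * (y : G)⁻¹) * g⁻¹) (c := g * f y * g⁻¹) (fun b => by
        rw [TL_eq hp hk]
        exact hg _ b.2) (fun b => by
        rw [TL_eq hp hk]
        exact hg _ (hyB b)) (by rw [hGt]; exact Subgroup.mem_top _) (fun b => by
        rw [map_mul, map_mul, map_inv]
        group)
    exact ⟨(w, φ y), hS'.2 ⟨n, hn', fun b => hnk b⟩, rfl⟩
  have h3 : Nat.card (S'.map (MonoidHom.snd M.Group (MulAut B))) ∣ Nat.card S' := card_map_dvd _ _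
  have hker : φ.ker = (centralizer (B : Set G)).subgroupOf R := by
    ext y
    rw [MonoidHom.mem_ker, mem_subgroupOf, mem_centralizer_iff]
    constructor
    · intro h b hb
      have h4 : ((φ y ⟨b, hb⟩ : B) : G) = y * b * (y : G)⁻¹ := rfl
      rw [h] at h4
      have h5 : b = y * b * (y : G)⁻¹ := h4
      exact (eq_mul_inv_iff_mul_eq.1 h5)
    · intro h
      ext b
      show (y : G) * b * (y : G)⁻¹ = b
      rw [← h b b.2, mul_inv_cancel_right]
  have h4 : (centralizer (B : Set G)).relIndex R = Nat.card φ.range := by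
    rw [← index_ker, hker]
    rfl
  rw [h4]
  exact ((card_dvd_of_le h2).trans h3).trans h1

end Cfsg.Agent.H169.RM.DFour
end

-- part: H169/RM/DFrm
section
/-!
# S3849, `³D₄(q)`: frames and the lattice (helper169)
-/

set_option autoImplicit false
set_option linter.unusedSectionVars false

namespace Cfsg.Agent.H169.RM.DFour

open CoxeterSystem Cfsg Cfsg.Lie Cfsg.Lie.ChevalleyDatum
open Cfsg.Agent.ChevalleyStructure Cfsg.Agent.ChevalleyStructure.Elts Cfsg.Agent.ChevalleyStructure.CoxeterGeom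
  Cfsg.Agent.ChevalleyStructure.CoxeterGeomTypes Cfsg.Agent.ChevalleyStructure.NPerm
open Cfsg.Agent.Tits.Roots Cfsg.Agent.Tits.Core Cfsg.Agent.Nodes Cfsg.Agent.Nodes.Reps Cfsg.Agent.Nodes.BNOf
  Cfsg.Agent.Nodes.RGDChev Cfsg.Agent.Nodes.Bruhat
open Cfsg.Agent.KFacts.RgdField Cfsg.Agent.KFacts.RgdChevCoord Cfsg.Agent.BpExc.TorCent Cfsg.Agent.BpExc.TorChev
open Cfsg.Agent.GpExc.Field Cfsg.Agent.BpExc.Tow Cfsg.Agent.BpExc.TowChev Cfsg.Agent.BpExc.Fr
  Cfsg.Agent.BpExc.LangFr Cfsg.Agent.H129.TorusChar Cfsg.Agent.H129.TorusMain Cfsg.Agent.H123.ExcZ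
open Cfsg.Agent.BpExc Cfsg.Agent.H795.LangT Cfsg.Agent.H795.Core Cfsg.Agent.H795.NotAbT
open Cfsg.Agent.H572.ExcA Cfsg.Agent.H572.ExcB Cfsg.Agent.H572.ExcC Cfsg.Agent.H572.ExcD
open Cfsg.Agent.H565.CharCnt Cfsg.Agent.H129.TorusUntw
open Cfsg.Agent.H720.TwFr Cfsg.Agent.H795.NotAbRows
open Cfsg.Agent.H129.WData Cfsg.Agent.H795.NotAbCert Cfsg.Agent.H795.NotAbData
open Subgroup

universe u v

/-! ### the lattice -/

/-- the triality -/
def sigM : Matrix (Fin 4) (Fin 4) ℤ := ![![0, 0, 1, 0], ![0, 1, 0, 0], ![0, 0, 0, 1], ![1, 0, 0, 0]]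

theorem perm_eq (x : Fin 4 → ℤ) : permE rho4 x = Matrix.vecMul x sigM := by
  funext m
  exact apply_of_sr (f := (permE rho4).toAddMonoidHom) perm4_mat x m

theorem rep_eq {w : coxeterD4.Group} {U : Matrix (Fin 4) (Fin 4) ℤ} (h : IsMat hp4 w U) (x : Fin 4 → ℤ) :
    rep coxeterD4.toCoxeterSystem hp4.isCartan w x = Matrix.vecMul x U := by
  funext m
  exact h.apply x m

theorem theta_eq {w : coxeterD4.Group} {U : Matrix (Fin 4) (Fin 4) ℤ} (h : IsMat hp4 w U) (x : Fin 4 → ℤ) :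
    ((permE rho4).trans (repAut coxeterD4.toCoxeterSystem hp4.isCartan w)) x = Matrix.vecMul x (sigM * U) := by
  show rep coxeterD4.toCoxeterSystem hp4.isCartan w (permE rho4 x) = _
  rw [rep_eq h, perm_eq, Matrix.vecMul_vecMul]

theorem vec_id {Th : Matrix (Fin 4) (Fin 4) ℤ} {ε : ℤ} (h : Th * Th + ε • Th + 1 = 0) (x : Fin 4 → ℤ) :
    Matrix.vecMul (Matrix.vecMul x Th) Th + ε • Matrix.vecMul x Th + x = 0 := by
  have h1 : Matrix.vecMul x (Th * Th + ε • Th + 1) = 0 := by rw [h, Matrix.vecMul_zero]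
  rwa [Matrix.vecMul_add, Matrix.vecMul_add, ← Matrix.vecMul_vecMul, Matrix.vecMul_smul, Matrix.vecMul_one] at h1

theorem vec_id' {Th V : Matrix (Fin 4) (Fin 4) ℤ} {ε : ℤ} (h : (1 + V + V * V) * (Th * Th + ε • Th + 1) = 0)
    (x y : Fin 4 → ℤ) (hy : y = x + Matrix.vecMul x V + Matrix.vecMul (Matrix.vecMul x V) V) :
    Matrix.vecMul (Matrix.vecMul y Th) Th + ε • Matrix.vecMul y Th + y = 0 := by
  have h0 : y = Matrix.vecMul x (1 + V + V * V) := by
    rw [hy, Matrix.vecMul_add, Matrix.vecMul_add, Matrix.vecMul_one, Matrix.vecMul_vecMul]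
  have h1 : Matrix.vecMul y (Th * Th + ε • Th + 1) = 0 := by
    rw [h0, Matrix.vecMul_vecMul, h, Matrix.vecMul_zero]
  rwa [Matrix.vecMul_add, Matrix.vecMul_add, ← Matrix.vecMul_vecMul, Matrix.vecMul_smul, Matrix.vecMul_one] at h1

theorem pow_of_id {k : Type u} [Field k] {φ : (Fin 4 → ℤ) → k} (hφ : IsMC φ) {θ : (Fin 4 → ℤ) → Fin 4 → ℤ} {Q : ℕ}
    (hθ : ∀ x, φ (θ x) = φ x ^ Q) {ε : ℤ} {y : Fin 4 → ℤ} (h : θ (θ y) + ε • θ y + y = 0) :
    φ y ^ ((Q : ℤ) ^ 2 + ε * Q + 1) = 1 := by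
  have h1 := hφ.zero
  rw [← h, hφ.add, hφ.add, hφ.zsmul, hθ, hθ] at h1
  rw [zpow_add₀ (hφ.ne_zero y), zpow_add₀ (hφ.ne_zero y), zpow_one, ← h1, ← zpow_natCast (φ y) Q, ← zpow_mul,
    ← zpow_natCast (φ y ^ (Q : ℤ)) Q, ← zpow_mul, pow_two, mul_comm (Q : ℤ) ε]
  

/-! ### the frames -/

section Frame

variable {K : Type u} [Field K] [Fintype K] {q : ℕ} {r n : ℕ} [Fact r.Prime] [CharP K r]
  [CharP (AlgebraicClosure K) r]

theorem exists_frm (hq : IsPrimePow q) (hK : Fintype.card K = q ^ 3) (hk : LocFin (AlgebraicClosure K)) (hn0 : 0 < n)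
    (hn : q = r ^ n) (w : coxeterD4.Group) :
    ∃ (κ : ↥(twistedD4 K q) →* ↥(chevD4.group (AlgebraicClosure K)))
      (τ : MulAut ↥(chevD4.group (AlgebraicClosure K))),
      Emb hp4 r n κ τ ((permE rho4).trans (repAut coxeterD4.toCoxeterSystem hp4.isCartan w)) ∧
      ∀ y, τ y = y → ∃ x, κ x = y := by
  have hset := H795.Tw.setup_four (algebraMap K (AlgebraicClosure K)) r (tw4_le hq hK) hk hn0 hn hK (p := 3)
  obtain ⟨κ, τ, z, hEm, hκ, hb⟩ := exists_emb (hp := hp4) hk hset.inj hset.e_pos hset.frob hset.fr hset.fix hset.fin w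
  refine ⟨κ, τ, hEm, fun y hy => ?_⟩
  obtain ⟨x, hx⟩ := desc4 (algebraMap K (AlgebraicClosure K)) r (tw4_le hq hK) hk hn0 hn hK (hb y hy)
  refine ⟨x, ?_⟩
  rw [hκ, hx]
  group

end Frame

/-! ### torsion of the torus -/

section Tors

variable {D : ChevalleyDatum} {l : ℕ} {M : CoxeterMatrix (Fin l)} {hp : IsType D l M}
  {k : Type u} [Field k] [IsAlgClosed k] {r e : ℕ} [Fact r.Prime] [CharP k r]
  {G : Type v} [Group G] {κ : G →* ↥(D.group k)} {τ : MulAut ↥(D.group k)}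
  {θ : (Fin l → ℤ) ≃+ (Fin l → ℤ)}

/-- the elements of the torus with `x ^ s = 1` -/
def TE (κ : G →* ↥(D.group k)) (hinj : Function.Injective κ) (hp : IsType D l M) (s : ℕ) : Subgroup G where
  carrier := {x | x ∈ TG κ ∧ x ^ s = 1}
  one_mem' := ⟨one_mem _, one_pow _⟩
  mul_mem' := by
    rintro a b ⟨ha, hi⟩ ⟨hb, hj⟩
    refine ⟨mul_mem ha hb, ?_⟩
    rw [(show Commute a b from TG_comm κ hinj hp ha hb).mul_pow, hi, hj, one_mul]
  inv_mem' := by
    rintro a ⟨ha, hi⟩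
    exact ⟨inv_mem ha, by rw [inv_pow, hi, inv_one]⟩

theorem isPGroup_TE {hinj : Function.Injective κ} {s : ℕ} : IsPGroup s (TE κ hinj hp s) := fun x =>
  ⟨1, by rw [pow_one]; exact Subtype.ext x.2.2⟩

/-- elements centralising the `s`-torsion -/
theorem mem_TG_of_comm (r' : ℕ) [Fact r'.Prime] [CharP k r'] [Finite G] (hk : LocFin k) {hinj : Function.Injective κ} {s : ℕ}
    (hroot : ∀ b < D.nroots, ∃ x ∈ TE κ hinj hp s, cX hp (κ x) (vec D l b) ≠ 1) {c : G}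
    (hc : ∀ x ∈ TE κ hinj hp s, x * c = c * x) {m : ℕ} (hm0 : 0 < m) (hms : m.Coprime s) (hcm : c ^ m = 1) :
    c ∈ TG κ := by
  have hWf : Finite M.Group := finite_W hp (M.toCoxeterSystem)
  have hN : NSys M (TT D k) (nc hp k) := nsys_of_locFin hp M.toCoxeterSystem hk r'
  refine H630.Exc.mem_TT_of_pow hp M.toCoxeterSystem hk r' hN (A := κ '' (TE κ hinj hp s : Set G))
    ((Set.toFinite _).image _) ?_ ?_ (r := s) ?_ hm0 hms ?_ (by rw [← map_pow, hcm, map_one])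
  · rintro _ ⟨x, hx, rfl⟩
    exact hx.1
  · intro a ha
    obtain ⟨b, hb, rfl⟩ := (isRoot_iff hp M.toCoxeterSystem _).1 ha
    obtain ⟨x, hx, h1⟩ := hroot b hb
    exact ⟨κ x, ⟨x, hx, rfl⟩, h1⟩
  · rintro _ ⟨x, hx, rfl⟩
    rw [← map_pow, hx.2, map_one]
  · rintro _ ⟨x, hx, rfl⟩
    rw [← map_mul, ← map_mul, hc x hx]

/-- the characters of the elements of the torus -/
theorem char_theta (h : Emb hp r e κ τ θ) {a : G} (ha : a ∈ TG κ) (x : Fin l → ℤ) :
    cX hp (κ a) (θ x) = cX hp (κ a) x ^ r ^ e := by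
  have h1 := cX_sigma hp M.toCoxeterSystem h.frob h.fr ha x
  rwa [h.fix] at h1

/-- powers from the characters -/
theorem pow_eq_one_of_char (hinj : Function.Injective κ) {a : G} (ha : a ∈ TG κ) {N : ℕ}
    (h : ∀ x, cX hp (κ a) x ^ N = 1) : a ^ N = 1 := by
  apply hinj
  have ha' : κ a ∈ TT D k := ha
  rw [map_pow, map_one]
  refine cX_inj hp (pow_mem ha' N) (one_mem _) fun i => ?_
  rw [cX_pow hp ha', cX_one, h]

/-- elements of the torsion from functionals -/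
theorem exists_TE (h : Emb hp r e κ τ θ) {d : ℕ} {Bi : Fin l → Fin l → ℤ} (hB : InvC D l d Bi) (hd : d ≠ 0)
    (hmem : ∀ y, τ y = y → ∃ x, κ x = y) {s : ℕ} [NeZero s] {ζ : k} (hζ : IsPrimitiveRoot ζ s)
    (c : (Fin l → ℤ) →+ ZMod s) (hc : ∀ x, c (θ x) = ((r ^ e : ℕ) : ZMod s) * c x) :
    ∃ x ∈ TE κ h.inj hp s, ∀ y, cX hp (κ x) y = ζ ^ (c y).val := by
  obtain ⟨t, ht, hct, htN, hτt⟩ := exists_tor_fix hp hB hd h.frob h.fr hζ c hc
  obtain ⟨x, rfl⟩ := hmem t hτt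
  exact ⟨x, ⟨ht, h.inj (by rw [map_pow, htN, map_one])⟩, hct⟩

end Tors

end Cfsg.Agent.H169.RM.DFour
end

-- part: H893/RM/Ree
section
/-!
# S3849: the row of the Ree groups `²G₂(q)` (helper893)

* `ree_tor` : an element of prime order `t ≥ 5` lies in a subgroup `A₀` with `N(A₁) = N(A₀)` for all `1 ≠ A₁ ≤ A₀` and
  `|N(A₀) : A₀|` a `{2, 3}`-number;
* `rowM_ree`.
-/

set_option autoImplicit false
set_option linter.unusedSectionVars false

namespace Cfsg.Agent.H893.RM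

open Subgroup Cfsg Cfsg.Agent.H988.CPi Cfsg.Agent.H571.DExt Cfsg.Agent.H571.RV Cfsg.Agent.H571.RM
  Cfsg.Agent.H553.OddHall Cfsg.Agent.H565.NM Cfsg.Agent.H167.RV Cfsg.Agent.Solvable.SZ Cfsg.Agent.H14.RowReeJOne
  Cfsg.Lie Cfsg.Lie.ChevalleyDatum CoxeterSystem
  Cfsg.Agent.ChevalleyStructure Cfsg.Agent.ChevalleyStructure.Elts Cfsg.Agent.ChevalleyStructure.CoxeterGeom
  Cfsg.Agent.ChevalleyStructure.CoxeterGeomTypes Cfsg.Agent.ChevalleyStructure.NPerm
  Cfsg.Agent.Tits.Roots Cfsg.Agent.Tits.Core Cfsg.Agent.Nodes Cfsg.Agent.Nodes.Reps Cfsg.Agent.Nodes.BNOf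
  Cfsg.Agent.Nodes.RGDChev Cfsg.Agent.Nodes.Bruhat
  Cfsg.Agent.KFacts.RgdField Cfsg.Agent.KFacts.RgdChevCoord Cfsg.Agent.BpExc.TorCent Cfsg.Agent.BpExc.TorChev
  Cfsg.Agent.GpExc.Field Cfsg.Agent.BpExc.Tow Cfsg.Agent.BpExc.TowChev Cfsg.Agent.BpExc.Fr
  Cfsg.Agent.BpExc.LangFr Cfsg.Agent.H795.SetCent Cfsg.Agent.H795.SetTor Cfsg.Agent.H795.RowsA Cfsg.Agent.H565.T3
  Cfsg.Agent.BpExc.RowsUntw Cfsg.Agent.H129.TorusChar Cfsg.Agent.H720.TwFr Cfsg.Agent.BpExc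
open scoped Pointwise

universe u

variable {π : Set ℕ}

/-- a torus -/
structure RTor {G : Type*} [Group G] (T : Subgroup G) : Prop where
  idx : ∀ p : ℕ, p.Prime → p ∣ T.relIndex (normalizer (T : Set G)) → p ≤ 3
  nor : ∀ T₁ ≤ T, T₁ ≠ ⊥ → normalizer (T₁ : Set G) = normalizer (T : Set G)

theorem nrm_conj {G : Type*} [Group G] (g : G) (A : Subgroup G) :
    normalizer ((MulAut.conj g • A : Subgroup G) : Set G) = MulAut.conj g • normalizer (A : Set G) := by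
  ext y
  rw [mem_smul_iff', mem_normalizer_iff, mem_normalizer_iff]
  have key : ∀ z : G, z ∈ MulAut.conj g • A ↔ g⁻¹ * z * g ∈ A := fun z => mem_smul_iff'
  constructor
  · intro h z
    have h1 := h (g * z * g⁻¹)
    rw [key, key] at h1
    have h2 : g⁻¹ * (g * z * g⁻¹) * g = z := by group
    have h3 : g⁻¹ * (y * (g * z * g⁻¹) * y⁻¹) * g = g⁻¹ * y * g * z * (g⁻¹ * y * g)⁻¹ := by group
    rwa [h2, h3] at h1
  · intro h z
    have h1 := h (g⁻¹ * z * g)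
    rw [key, key]
    have h3 : g⁻¹ * y * g * (g⁻¹ * z * g) * (g⁻¹ * y * g)⁻¹ = g⁻¹ * (y * z * y⁻¹) * g := by group
    rwa [h3] at h1

theorem RTor.conj {G : Type*} [Group G] [Finite G] {T : Subgroup G} (h : RTor T) (g : G) : RTor (MulAut.conj g • T) := by
  refine ⟨?_, ?_⟩
  · intro p hp hpd
    refine h.idx p hp ?_
    have h6 := card_mul_relIndex' (le_normalizer (H := MulAut.conj g • T))
    have h7 := card_mul_relIndex' (le_normalizer (H := T))
    rw [nrm_conj, card_conj_smul, card_conj_smul, ← h7] at h6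
    rw [nrm_conj] at hpd
    rwa [Nat.eq_of_mul_eq_mul_left Nat.card_pos h6] at hpd
  · intro T₁ hT₁ hne
    have h5 := h.nor (MulAut.conj g⁻¹ • T₁) (by rw [smul_le_iff', inv_inv]; exact hT₁) (by
      intro h
      apply hne
      rw [← card_eq_one, ← card_conj_smul g⁻¹ T₁, h, card_bot])
    rw [nrm_conj] at h5
    rw [nrm_conj, ← h5, ← mul_smul, ← map_mul, mul_inv_cancel, map_one, one_smul]

theorem ree_tor {K : Type*} [Field K] [Fintype K] {m : ℕ} (hm : 1 ≤ m) (hK : Fintype.card K = 3 ^ (2 * m + 1))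
    [Finite ↥(Cfsg.Lie.twistedG2 K (3 ^ m))] {t : ℕ}
    (hcy : ∀ R : Subgroup ↥(Cfsg.Lie.twistedG2 K (3 ^ m)), IsPGroup t R → IsCyclic R)
    (ht : t.Prime) (h5 : 5 ≤ t) {x : ↥(Cfsg.Lie.twistedG2 K (3 ^ m))}
    (hx : orderOf x = t) : ∃ T : Subgroup ↥(Cfsg.Lie.twistedG2 K (3 ^ m)), x ∈ T ∧ RTor T := by
  have hft : Fact t.Prime := ⟨ht⟩
  have hl := (Cfsg.Agent.S1159.result hm hK t).1 ⟨x, hx⟩
  have key : ∀ k n c : ℕ, (k, n) ∈ ({((3 ^ (2 * m + 1) - 1) / 2, 2 * (3 ^ (2 * m + 1) - 1)), ((3 ^ (2 * m + 1) + 1) / 4, 6 * (3 ^ (2 * m + 1) + 1)),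
        (3 ^ (2 * m + 1) - 3 ^ (m + 1) + 1, 6 * (3 ^ (2 * m + 1) - 3 ^ (m + 1) + 1)),
        (3 ^ (2 * m + 1) + 3 ^ (m + 1) + 1, 6 * (3 ^ (2 * m + 1) + 3 ^ (m + 1) + 1))} : Set (ℕ × ℕ)) →
      t ∣ k → n = k * c → (∀ p : ℕ, p.Prime → p ∣ c → p ≤ 3) → ∃ T : Subgroup ↥(Cfsg.Lie.twistedG2 K (3 ^ m)), x ∈ T ∧ RTor T := by
    intro k n c hkn htk hn hc
    obtain ⟨A, hcyc, hA, hN, hall⟩ := Cfsg.Agent.S1158.result hm hK (k, n) hkn
    have hA : Nat.card A = k := hA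
    have hN : Nat.card (normalizer (A : Set ↥(Cfsg.Lie.twistedG2 K (3 ^ m)))) = n := hN
    obtain ⟨a, ha⟩ := exists_prime_orderOf_dvd_card' (G := A) t (by rw [hA]; exact htk)
    have ha' : orderOf (a : ↥(Cfsg.Lie.twistedG2 K (3 ^ m))) = t := by rw [Subgroup.orderOf_coe, ha]
    have hR : RTor A := by
      refine ⟨fun p hp hpd => hc p hp ?_, hall⟩
      have h1 := card_mul_relIndex' (le_normalizer (H := A))
      rw [hA, hN, hn] at h1
      have hk0 : 0 < k := by rw [← hA]; exact Nat.card_pos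
      rwa [Nat.eq_of_mul_eq_mul_left hk0 h1] at hpd
    -- conjugate
    obtain ⟨P, hP⟩ := (show IsPGroup t (zpowers x) from IsPGroup.of_card (n := 1) (by
      rw [Nat.card_zpowers, hx, pow_one])).exists_le_sylow
    obtain ⟨Q, hQ⟩ := (show IsPGroup t (zpowers (a : ↥(Cfsg.Lie.twistedG2 K (3 ^ m)))) from IsPGroup.of_card (n := 1) (by
      rw [Nat.card_zpowers, ha', pow_one])).exists_le_sylow
    obtain ⟨g, hg⟩ := MulAction.exists_smul_eq (↥(Cfsg.Lie.twistedG2 K (3 ^ m))) Q P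
    have h1 : g * a * g⁻¹ ∈ (P : Subgroup ↥(Cfsg.Lie.twistedG2 K (3 ^ m))) := by
      rw [← hg]
      exact ⟨a, hQ (mem_zpowers _), rfl⟩
    have h2 : orderOf (g * a * g⁻¹) = orderOf x := by
      rw [hx, ← ha']
      exact (MulAut.conj g).orderOf_eq (a : ↥(Cfsg.Lie.twistedG2 K (3 ^ m)))
    have h3 := Cfsg.Agent.H125.ReeFull.zpowers_eq_of_cyclic (hcy _ P.2) h1 (hP (mem_zpowers x)) h2
    have h4 : x ∈ MulAut.conj g • A := by
      have h5 : x ∈ zpowers (g * a * g⁻¹) := by rw [h3]; exact mem_zpowers x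
      refine (zpowers_le.2 ?_) h5
      exact ⟨a, a.2, rfl⟩
    exact ⟨_, h4, hR.conj g⟩
  have hq8 : 3 ^ (2 * m + 1) % 8 = 3 := by
    have h1 : 3 ^ (2 * m + 1) = 9 ^ m * 3 := by rw [pow_succ, pow_mul]; norm_num
    rw [h1, Nat.mul_mod, Nat.pow_mod]
    norm_num
  have c4 : ∀ p : ℕ, p.Prime → p ∣ 4 → p ≤ 3 := fun p hp hd => by
    have := (Nat.prime_dvd_prime_iff_eq hp Nat.prime_two).1 (hp.dvd_of_dvd_pow (n := 2) (by simpa using hd)); omega
  have c6 : ∀ p : ℕ, p.Prime → p ∣ 6 → p ≤ 3 := fun p hp hd => by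
    rcases hp.dvd_mul.1 (show p ∣ 2 * 3 by simpa using hd) with h | h
    · have := (Nat.prime_dvd_prime_iff_eq hp Nat.prime_two).1 h; omega
    · have := (Nat.prime_dvd_prime_iff_eq hp Nat.prime_three).1 h; omega
  have c24 : ∀ p : ℕ, p.Prime → p ∣ 24 → p ≤ 3 := fun p hp hd => by
    rcases hp.dvd_mul.1 (show p ∣ 6 * 4 by simpa using hd) with h | h
    · exact c6 p hp h
    · exact c4 p hp h
  have hodd : ¬ t ∣ 2 := fun h => by have := Nat.le_of_dvd (by norm_num) h; omega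
  rcases hl with hl | hl | hl | hl | hl | hl
  · have := c6 t ht hl; omega
  · have := (Nat.prime_dvd_prime_iff_eq ht Nat.prime_three).1 (ht.dvd_of_dvd_pow (n := 2) (by simpa using hl)); omega
  · refine key _ _ 4 (Or.inl rfl) ?_ (by (clear * - hq8; omega)) c4
    have h1 : 3 ^ (2 * m + 1) - 1 = 2 * ((3 ^ (2 * m + 1) - 1) / 2) := by (clear * - hq8; omega)
    rw [h1] at hl
    exact (ht.dvd_mul.1 hl).resolve_left hodd
  · refine key _ _ 24 (Or.inr (Or.inl rfl)) ?_ (by omega) c24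
    have h1 : (3 ^ (2 * m + 1) + 1) / 2 = 2 * ((3 ^ (2 * m + 1) + 1) / 4) := by omega
    rw [h1] at hl
    exact (ht.dvd_mul.1 hl).resolve_left hodd
  · exact key _ _ 6 (Or.inr (Or.inr (Or.inl rfl))) hl (mul_comm _ _) c6
  · exact key _ _ 6 (Or.inr (Or.inr (Or.inr rfl))) hl (mul_comm _ _) c6

/-- **the criterion** -/
theorem rowM_of_tor {G : Type u} [Group G] [Finite G] {H A : Subgroup G} (d : HA π 2 H A) (h3 : 3 ∉ π)
    (hT : ∀ t : ℕ, t.Prime → 5 ≤ t → ∀ x : G, orderOf x = t → ∃ T : Subgroup G, x ∈ T ∧ RTor T) : RowM π G := by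
  refine rowM_of_cent d fun _ X hXA hX => ?_
  obtain ⟨t, ht, htX⟩ := Nat.exists_prime_and_dvd (n := Nat.card X) (by rwa [Ne, card_eq_one])
  have hft : Fact t.Prime := ⟨ht⟩
  obtain ⟨y, hy⟩ := exists_prime_orderOf_dvd_card' t htX
  have hyo : orderOf (y : G) = t := by rw [Subgroup.orderOf_coe]; exact hy
  have hAp : ∀ p : ℕ, p.Prime → p ∣ Nat.card A → 5 ≤ p := fun p hp hd =>
    five_le hp (by rintro rfl; exact d.rA hd) (by
      rintro rfl; exact h3 (d.hall.1 3 hp (hd.trans (card_dvd_of_le d.ale))))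
  obtain ⟨T, hyT, hR⟩ := hT t ht (hAp t ht (htX.trans (card_dvd_of_le hXA))) y hyo
  -- `A ≤ T`
  have hne : ∀ Z : Subgroup G, (y : G) ∈ Z → Z ≠ ⊥ := fun Z hyZ h => by
    rw [h, mem_bot] at hyZ
    rw [hyZ, orderOf_one] at hyo
    exact ht.one_lt.ne hyo
  have h1 : A ≤ normalizer (T : Set G) := by
    rw [← hR.nor (zpowers (y : G)) (zpowers_le.2 hyT) (hne _ (mem_zpowers _))]
    refine le_trans ?_ (centralizer_le_normalizer _)
    intro a ha
    rw [mem_centralizer_iff]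
    rintro _ ⟨k, rfl⟩
    exact d.ab _ (zpow_mem (hXA y.2) k) a ha
  have hAT : A ≤ T := by
    intro a ha
    have h2 : a ^ T.relIndex (normalizer (T : Set G)) ∈ T := by
      have h3 : (T.subgroupOf (normalizer (T : Set G))).Normal := (normal_subgroupOf_iff_le_normalizer le_normalizer).mpr le_rfl
      exact mem_subgroupOf.1 (pow_index_mem (T.subgroupOf (normalizer (T : Set G))) ⟨a, h1 ha⟩)
    have h4 : a ^ Nat.card A ∈ T := by
      have h5 : (⟨a, ha⟩ : A) ^ Nat.card A = 1 := pow_card_eq_one'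
      rw [show a ^ Nat.card A = 1 from congrArg Subtype.val h5]; exact one_mem _
    refine mem_of_pow_mem_coprime h4 h2 ?_
    by_contra hne
    obtain ⟨p, hp, hp1, hp2⟩ := Nat.Prime.not_coprime_iff_dvd.1 hne
    have := hAp p hp hp1
    have := hR.idx p hp hp2
    omega
  rw [hR.nor A hAT (hne _ (hXA y.2)), ← hR.nor X (hXA.trans hAT) (hne _ y.2)]
  exact centralizer_le_normalizer _

/-- **`²G₂(q)`** -/
theorem rowM_ree {S : Type u} [Group S] [Finite S] (h3 : 3 ∉ π) (h : Lie.IsoRee S) : RowM π S := by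
  by_cases h2 : 2 ∈ π
  · obtain ⟨K, _, _, m, hm, hK, ⟨e⟩⟩ := id h
    have hfin : Finite (Lie.twistedG2 K (3 ^ m)) := Finite.of_equiv S e.toEquiv
    refine rowM_congr e.symm (rowM_of_dom fun hD => ?_)
    have hG : Lie.IsoRee ↥(Lie.twistedG2 K (3 ^ m)) := ⟨K, _, _, m, hm, hK, ⟨MulEquiv.refl _⟩⟩
    obtain ⟨H, A, hH, hAH, hn, hab, hA2, hidx⟩ := Cfsg.Agent.H555.RV.ReeRow.ftwo_ree h2 h3 hG (DB.of_dom hD)
    refine rowM_of_tor ⟨Nat.prime_two, hH, hAH, hn, hab, hA2, hidx⟩ h3 fun t ht h5 x hx => ?_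
    exact ree_tor hm hK ((eight_ree hG).2 t ht h5) ht h5 hx
  · obtain ⟨K, _, _, m, hm, hK, ⟨e⟩⟩ := id h
    have hle : Cfsg.Lie.twistedG2 K (3 ^ m) ≤ Cfsg.Lie.chevG2.group K :=
      H778.Exc.genSubgroup_le_group (by simp [Cfsg.Agent.ChevalleyStructure.Elts.InList]) (Cfsg.Lie.g2Words K (3 ^ m))
    have hch : CharP K 3 := by
      obtain ⟨p, hp'⟩ := CharP.exists K
      have hp : p.Prime := CharP.char_is_prime K p
      have h1 : p ∣ Fintype.card K := by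
        have := (CharP.cast_eq_zero_iff K p (Fintype.card K)).1 (FiniteField.cast_card_eq_zero K)
        exact this
      rw [hK] at h1
      have h4 := (Nat.prime_dvd_prime_iff_eq hp Nat.prime_three).1 (hp.dvd_of_dvd_pow h1)
      rwa [h4] at hp'
    have hG : _root_.Cfsg.Agent.H167.RV.Good (fun t => 5 ≤ t) S :=
      ((good_untw g2T (F := K)).of_injective ((Subgroup.inclusion hle).comp e.toMonoidHom)
        ((Subgroup.inclusion_injective hle).comp e.injective)).mono fun t ht h5 =>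
        ⟨cast_ne_zero_of_char (p := 3) Nat.prime_three ht (by omega), by
          rw [card_G2]
          exact not_dvd_12 ht h5⟩
    exact rowM_good hG h2 fun t ht htπ _ => five_le ht (by rintro rfl; exact h2 htπ) (by rintro rfl; exact h3 htπ)

end Cfsg.Agent.H893.RM
end

-- part: H893/RM/TwG
section
/-!
# S3849, `²F₄(q)`: group theory (helper893)

* `star_of_torus` : an abelian subgroup `T` containing a Sylow `t`-subgroup, `9 ∤ |G : T|`, a `3`-element `x`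
  normalising `T` without fixed points on the `t`-torsion; then a `3`-element `w ∈ N(B)`, `B` a Sylow `t`-subgroup,
  centralising an element of order `t` of `B` centralises `B`;
* `star_of_cyclic` : the same if `B` is cyclic;
* `false_of_rank` : rank at most 2 and a nonabelian `3`-subgroup normalising `B` : an element of order 3 centralises the
  elements of order `t` of `B`.
-/

set_option autoImplicit false
set_option linter.unusedSectionVars false

namespace Cfsg.Agent.H893.RM.TwG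

open Subgroup Cfsg Cfsg.Agent.H988.CPi Cfsg.Agent.H571.DExt Cfsg.Agent.H571.RV Cfsg.Agent.H571.RM
  Cfsg.Agent.H553.OddHall Cfsg.Agent.H565.NM Cfsg.Agent.H167.RV Cfsg.Agent.Solvable.SZ Cfsg.Agent.H893.RM
open scoped Pointwise commutatorElement

universe u

theorem isPGroup_zp {Q : Type*} [Group Q] {p : ℕ} {x : Q} (h : ∃ k, x ^ p ^ k = 1) : IsPGroup p (zpowers x) := by
  obtain ⟨k, hk⟩ := h
  rintro ⟨y, i, rfl⟩
  refine ⟨k, Subtype.ext ?_⟩
  show (x ^ i) ^ p ^ k = 1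
  rw [← zpow_natCast, ← zpow_mul, mul_comm, zpow_mul, zpow_natCast, hk, one_zpow]

/-- `9 ∤ |Q|` : nontrivial `3`-elements -/
theorem exists_conj_mem {Q : Type*} [Group Q] [Finite Q] (h9 : ¬ 9 ∣ Nat.card Q) {u v : Q} (hu : ∃ k, u ^ 3 ^ k = 1)
    (hv : ∃ k, v ^ 3 ^ k = 1) (hu1 : u ≠ 1) : ∃ g : Q, g * v * g⁻¹ ∈ zpowers u := by
  have hf : Fact (Nat.Prime 3) := ⟨Nat.prime_three⟩
  obtain ⟨n, hn⟩ := IsPGroup.iff_card.1 (isPGroup_zp hu)
  have hn1 : n ≠ 0 := by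
    rintro rfl
    rw [pow_zero, Nat.card_zpowers, orderOf_eq_one_iff] at hn
    exact hu1 hn
  have hidx : ¬ 3 ∣ (zpowers u).index := by
    intro hd
    apply h9
    rw [← (zpowers u).card_mul_index, hn]
    exact mul_dvd_mul (dvd_pow_self 3 hn1) hd
  obtain ⟨P, hP⟩ := (isPGroup_zp hv).exists_le_sylow
  obtain ⟨g, hg⟩ := MulAction.exists_smul_eq Q P ((isPGroup_zp hu).toSylow hidx)
  refine ⟨g, ?_⟩
  have h1 : g * v * g⁻¹ ∈ ((isPGroup_zp hu).toSylow hidx : Subgroup Q) := by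
    rw [← hg]
    exact ⟨v, hP (mem_zpowers v), rfl⟩
  exact h1

variable {G : Type u} [Group G] [Finite G] {t : ℕ}

theorem star_aux {T P : Subgroup G} (hT : ∀ a ∈ T, ∀ b ∈ T, a * b = b * a) (hPT : P ≤ T) (h9 : ¬ 9 ∣ T.index) {x : G}
    (hx3 : ∃ k, x ^ 3 ^ k = 1) (hxP : x ∈ normalizer (P : Set G)) (hfree : ∀ y ∈ P, y ^ t = 1 → x * y = y * x → y = 1)
    {w : G} (hw3 : ∃ k, w ^ 3 ^ k = 1) (hwP : w ∈ normalizer (P : Set G)) {a : G} (ha : a ∈ P) (hat : a ^ t = 1)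
    (ha1 : a ≠ 1) (hwa : w * a = a * w) : w ∈ centralizer (P : Set G) := by
  by_contra hw
  set! φ := P.normalizerMonoidHom with hφ
  have hker : φ.ker = (centralizer (P : Set G)).subgroupOf (normalizer (P : Set G)) := normalizerMonoidHom_ker P
  have hTC : T ≤ centralizer (P : Set G) := fun y hy => by
    rw [mem_centralizer_iff]
    exact fun z hz => hT z (hPT hz) y hy
  have hQ : ¬ 9 ∣ Nat.card φ.range := by
    rw [← index_ker, hker]
    intro hd
    apply h9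
    have h1 : (centralizer (P : Set G)).relIndex (normalizer (P : Set G)) ∣ (centralizer (P : Set G)).index :=
      relIndex_dvd_index_of_le (centralizer_le_normalizer _)
    exact hd.trans (h1.trans (index_dvd_of_le hTC))
  have hφ1 : ∀ {k : ℕ} {y : G} (hy : y ∈ normalizer (P : Set G)), y ^ 3 ^ k = 1 →
      (⟨φ ⟨y, hy⟩, ⟨_, rfl⟩⟩ : φ.range) ^ 3 ^ k = 1 := fun {k y} hy hk => by
    apply Subtype.ext
    show φ ⟨y, hy⟩ ^ 3 ^ k = 1
    rw [← map_pow, show (⟨y, hy⟩ : ↥(normalizer (P : Set G))) ^ 3 ^ k = 1 from Subtype.ext hk, map_one]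
  obtain ⟨⟨_, ⟨g, rfl⟩⟩, hg⟩ := exists_conj_mem hQ (u := ⟨φ ⟨w, hwP⟩, ⟨_, rfl⟩⟩) (v := ⟨φ ⟨x, hxP⟩, ⟨_, rfl⟩⟩)
    (by obtain ⟨k, hk⟩ := hw3; exact ⟨k, hφ1 _ hk⟩) (by obtain ⟨k, hk⟩ := hx3; exact ⟨k, hφ1 _ hk⟩) (by
      intro h
      apply hw
      have h1 : (⟨w, hwP⟩ : ↥(normalizer (P : Set G))) ∈ φ.ker := congrArg Subtype.val h
      rw [hker] at h1
      exact mem_subgroupOf.1 h1)
  obtain ⟨i, hi⟩ := hg
  have hi' : φ (⟨w, hwP⟩ ^ i) = φ (g * ⟨x, hxP⟩ * g⁻¹) := by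
    have h1 := congrArg Subtype.val hi
    rw [map_zpow, map_mul, map_mul, map_inv]
    exact h1
  have h1 : ((φ (⟨w, hwP⟩ ^ i) ⟨a, ha⟩ : P) : G) = w ^ i * a * (w ^ i)⁻¹ := rfl
  have h2 : ((φ (g * ⟨x, hxP⟩ * g⁻¹) ⟨a, ha⟩ : P) : G) = ((g : G) * x * (g : G)⁻¹) * a * ((g : G) * x * (g : G)⁻¹)⁻¹ := rfl
  have h3 : w ^ i * a * (w ^ i)⁻¹ = a := by
    rw [(show Commute w a from hwa).zpow_left i, mul_inv_cancel_right]
  rw [← hi', h1, h3] at h2
  -- `x` commutes with `g⁻¹ a g`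
  have h4 : x * ((g : G)⁻¹ * a * g) = ((g : G)⁻¹ * a * g) * x := by
    have h5 : (g : G)⁻¹ * a * g = (g : G)⁻¹ * (((g : G) * x * (g : G)⁻¹) * a * ((g : G) * x * (g : G)⁻¹)⁻¹) * g := by
      rw [← h2]
    calc x * ((g : G)⁻¹ * a * g) = ((g : G)⁻¹ * (((g : G) * x * (g : G)⁻¹) * a * ((g : G) * x * (g : G)⁻¹)⁻¹) * g) * x := by
          group
      _ = _ := by rw [← h5]
  have h5 : (g : G)⁻¹ * a * g ∈ P := by
    have h6 := (mem_normalizer_iff.1 (inv_mem g.2) a).1 ha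
    rwa [inv_inv] at h6
  have h6 := hfree _ h5 (by
    have h7 := conj_pow (i := t) (a := (g : G)⁻¹) (b := a)
    rw [inv_inv] at h7
    rw [h7, hat, mul_one, inv_mul_cancel]) h4
  apply ha1
  have h7 : a = (g : G) * ((g : G)⁻¹ * a * g) * (g : G)⁻¹ := by group
  rw [h7, h6]; group

theorem mem_of_tpow {T P : Subgroup G} (ht : t.Prime) (hT : ∀ a ∈ T, ∀ b ∈ T, a * b = b * a)
    (hPi : ¬ t ∣ P.relIndex T) {y : G} (hy : y ∈ T) (hyt : ∃ k, y ^ t ^ k = 1) : y ∈ P := by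
  have hn : (P.subgroupOf T).Normal := ⟨fun n hn g => by
    have h1 : g * n * g⁻¹ = n := by
      apply Subtype.ext
      show (g : G) * n * (g : G)⁻¹ = n
      rw [hT g g.2 n n.2, mul_inv_cancel_right]
    rwa [h1]⟩
  have h1 : y ^ P.relIndex T ∈ P := mem_subgroupOf.1 (pow_index_mem (P.subgroupOf T) ⟨y, hy⟩)
  obtain ⟨k, hk⟩ := hyt
  refine mem_of_pow_mem_coprime (a := P.relIndex T) (b := t ^ k) h1 (by rw [hk]; exact one_mem _) ?_
  exact Nat.Coprime.pow_right _ ((Nat.Prime.coprime_iff_not_dvd ht).2 hPi).symm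

/-- **the torus of order `(q + 1)²`** -/
theorem star_of_torus (ht : t.Prime) {T : Subgroup G} (hT : ∀ a ∈ T, ∀ b ∈ T, a * b = b * a) (htT : ¬ t ∣ T.index)
    (h9 : ¬ 9 ∣ T.index) {x : G} (hx3 : ∃ k, x ^ 3 ^ k = 1) (hxT : ∀ y ∈ T, x * y * x⁻¹ ∈ T)
    (hfree : ∀ y ∈ T, y ^ t = 1 → x * y = y * x → y = 1) {B : Subgroup G} (hBt : IsPGroup t B) (hBi : ¬ t ∣ B.index)
    {w : G} (hw3 : ∃ k, w ^ 3 ^ k = 1) (hwB : w ∈ normalizer (B : Set G)) {a : G} (ha : a ∈ B) (hao : orderOf a = t)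
    (hwa : w * a = a * w) : ∀ b ∈ B, w * b = b * w := by
  have hft : Fact t.Prime := ⟨ht⟩
  obtain ⟨P, hPT, hPt, hPi⟩ := exists_syl ht T
  have hPi' : ¬ t ∣ P.index := by
    rw [← relIndex_mul_index hPT]
    exact fun h => ((Nat.Prime.dvd_mul ht).1 h).elim hPi htT
  obtain ⟨g, hg⟩ := MulAction.exists_smul_eq G (hBt.toSylow hBi) (hPt.toSylow hPi')
  have hg' : MulAut.conj g • B = P := congrArg (fun Z : Sylow t G => (Z : Subgroup G)) hg
  have hmem : ∀ y : G, y ∈ B → g * y * g⁻¹ ∈ P := fun y hy => by rw [← hg']; exact ⟨y, hy, rfl⟩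
  have hxP : x ∈ normalizer (P : Set G) := by
    apply mem_normalizer_fintype
    intro y hy
    refine mem_of_tpow ht hT hPi (hxT y (hPT hy)) ?_
    obtain ⟨k, hk⟩ := hPt ⟨y, hy⟩
    exact ⟨k, by rw [conj_pow, show y ^ t ^ k = 1 from congrArg Subtype.val hk]; group⟩
  have hwP : g * w * g⁻¹ ∈ normalizer (P : Set G) := by
    rw [← hg']
    have h1 := nrm_conj g B
    rw [h1]
    exact ⟨w, hwB, rfl⟩
  have h1 := star_aux (t := t) hT hPT h9 hx3 hxP (fun y hy => hfree y (hPT hy)) (w := g * w * g⁻¹) (by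
      obtain ⟨k, hk⟩ := hw3
      exact ⟨k, by rw [conj_pow, hk]; group⟩) hwP (hmem a ha) (by
      rw [conj_pow, ← hao, pow_orderOf_eq_one]; group) (by
      intro h
      have h2 : a = 1 := by
        have h3 : a = g⁻¹ * (g * a * g⁻¹) * g := by group
        rw [h3, h]; group
      rw [h2, orderOf_one] at hao
      exact ht.one_lt.ne hao) (by
      calc g * w * g⁻¹ * (g * a * g⁻¹) = g * (w * a) * g⁻¹ := by group
        _ = g * (a * w) * g⁻¹ := by rw [hwa]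
        _ = _ := by group)
  intro b hb
  have h2 := mem_centralizer_iff.1 h1 _ (hmem b hb)
  have h3 : g * (b * w) * g⁻¹ = g * (w * b) * g⁻¹ := by
    calc g * (b * w) * g⁻¹ = g * b * g⁻¹ * (g * w * g⁻¹) := by group
      _ = g * w * g⁻¹ * (g * b * g⁻¹) := h2
      _ = _ := by group
  exact (mul_left_cancel (mul_right_cancel h3)).symm

/-- coprime action: the elements of order `t` -/
theorem star_of_omega (ht : t.Prime) (ht2 : t ≠ 2) (ht3 : t ≠ 3) {B : Subgroup G} (hBt : IsPGroup t B) {w : G}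
    (hw3 : ∃ k, w ^ 3 ^ k = 1) (hwB : w ∈ normalizer (B : Set G)) (hfix : ∀ b ∈ B, b ^ t = 1 → w * b = b * w) :
    ∀ b ∈ B, w * b = b * w := by
  have hft : Fact t.Prime := ⟨ht⟩
  have h1 := Cfsg.Agent.Lib.CoprimeStab.le_centralizer_of_omega t ht2 (zpowers w) (by
    obtain ⟨k, hk⟩ := hw3
    rw [Nat.card_zpowers]
    exact Nat.Coprime.coprime_dvd_left (orderOf_dvd_of_pow_eq_one hk)
      (Nat.Coprime.pow_left _ ((Nat.coprime_primes Nat.prime_three ht).2 (Ne.symm ht3)))) B hBt (zpowers_le.2 hwB)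
    (fun x hx hxt a ha => by
      obtain ⟨i, rfl⟩ := ha
      exact ((show Commute w x from hfix x hx hxt).zpow_left i).symm)
  exact fun b hb => (mem_centralizer_iff.1 (h1 (mem_zpowers w)) b hb).symm

theorem star_of_cyclic (ht : t.Prime) (ht2 : t ≠ 2) (ht3 : t ≠ 3) {B : Subgroup G} (hBt : IsPGroup t B)
    (hB : IsCyclic B) {w : G} (hw3 : ∃ k, w ^ 3 ^ k = 1) (hwB : w ∈ normalizer (B : Set G)) {a : G} (ha : a ∈ B)
    (hao : orderOf a = t) (hwa : w * a = a * w) : ∀ b ∈ B, w * b = b * w := by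
  refine star_of_omega ht ht2 ht3 hBt hw3 hwB fun b hb hbt => ?_
  have h1 : (⟨b, hb⟩ : B) ∈ zpowers (⟨a, ha⟩ : B) := by
    rw [Cfsg.Agent.H125.ReeFull.mem_zpowers_iff_of_cyclic hB, Subgroup.orderOf_mk, hao]
    exact Subtype.ext hbt
  obtain ⟨i, hi⟩ := h1
  have hi' : a ^ i = b := congrArg Subtype.val hi
  rw [← hi']
  exact (show Commute w a from hwa).zpow_right i

/-- **rank at most 2** -/
theorem false_of_rank (ht : t.Prime) (hrk : PRankLE t 2 G) {B R Q : Subgroup G} (ht3 : t ≠ 3)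
    (hBt : IsPGroup t B) (hBi : ¬ t ∣ B.index) (hBc : ∀ a ∈ B, ∀ b ∈ B, a * b = b * a) (hR : IsPGroup 3 R)
    (hRB : R ≤ normalizer (B : Set G)) (hna : ∃ u ∈ R, ∃ v ∈ R, u * v ≠ v * u) (hQt : ∀ x ∈ Q, x ^ t = 1)
    (hQ : ∀ y, orderOf y = 3 → ¬ ∀ x ∈ Q, x * y = y * x) : False := by
  have hft : Fact t.Prime := ⟨ht⟩
  have hf3 : Fact (Nat.Prime 3) := ⟨Nat.prime_three⟩
  -- the elements of order `t`
  let V : Subgroup G :=
    { carrier := {x | x ∈ B ∧ x ^ t = 1}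
      one_mem' := ⟨one_mem _, one_pow _⟩
      mul_mem' := fun {a b} ha hb => ⟨mul_mem ha.1 hb.1, by
        rw [(show Commute a b from hBc a ha.1 b hb.1).mul_pow, ha.2, hb.2, one_mul]⟩
      inv_mem' := fun {a} ha => ⟨inv_mem ha.1, by rw [inv_pow, ha.2, inv_one]⟩ }
  have hVB : V ≤ B := fun x hx => hx.1
  have hRV : R ≤ normalizer (V : Set G) := fun r hr => by
    apply mem_normalizer_fintype
    intro y hy
    exact ⟨(mem_normalizer_iff.1 (hRB hr) y).1 hy.1, by rw [conj_pow, hy.2]; group⟩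
  have hVc : ∀ a b : V, a * b = b * a := fun a b => Subtype.ext (hBc a a.2.1 b b.2.1)
  have hV : Nat.card V ≤ t ^ 2 := hrk V ⟨⟨fun a b => hVc a b⟩⟩ fun a ha => ha.2
  -- the action
  let φ : R →* MulAut V := V.normalizerMonoidHom.comp (inclusion hRV)
  obtain ⟨u, hu, v, hv, huv⟩ := hna
  obtain ⟨n, hn⟩ := IsPGroup.iff_card.1 hR
  set! c : R := ⁅(⟨u, hu⟩ : R), ⟨v, hv⟩⁆ with hc
  have hc1 : c ≠ 1 := by
    intro h
    apply huv
    have h1 := commutatorElement_eq_one_iff_mul_comm.1 h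
    exact congrArg Subtype.val h1
  have hφ := Cfsg.Agent.OddOrderLocal.GLTwoOdd.mulAut_pow_eq_one_of_mem_commutator (A := R)
    (by have := hR.isNilpotent; infer_instance) (by rw [hn]; exact Odd.pow (by decide)) (p := t) hVc
    (fun a => Subtype.ext a.2.2) hV φ (g := c) (by rw [_root_.commutator]; exact commutator_mem_commutator (mem_top _) (mem_top _))
  have hφc : φ c = 1 := by
    obtain ⟨k, hk⟩ := hR c
    have h1 : φ c ^ 3 ^ k = 1 := by rw [← map_pow, hk, map_one]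
    have h2 : orderOf (φ c) ∣ 1 := by
      have h3 := Nat.dvd_gcd (orderOf_dvd_of_pow_eq_one h1) (orderOf_dvd_of_pow_eq_one hφ)
      rwa [Nat.Coprime.gcd_eq_one (Nat.Coprime.pow_left _ ((Nat.coprime_primes Nat.prime_three ht).2 (Ne.symm ht3)))] at h3
    exact orderOf_eq_one_iff.1 (Nat.dvd_one.1 h2)
  have hcV : ∀ y ∈ V, (c : G) * y = y * c := fun y hy => by
    have h1 : ((φ c ⟨y, hy⟩ : V) : G) = c * y * (c : G)⁻¹ := rfl
    rw [hφc] at h1
    exact (mul_inv_eq_iff_eq_mul.1 h1.symm)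
  -- an element of order 3
  obtain ⟨k, hk⟩ := (Nat.dvd_prime_pow Nat.prime_three).1 (show orderOf c ∣ 3 ^ n by rw [← hn]; exact _root_.orderOf_dvd_natCard c)
  have hk0 : k ≠ 0 := by
    rintro rfl
    rw [pow_zero, orderOf_eq_one_iff] at hk
    exact hc1 hk.2
  obtain ⟨k, rfl⟩ := Nat.exists_eq_succ_of_ne_zero hk0
  have hd : orderOf ((c : G) ^ 3 ^ k) = 3 := by
    have h1 : orderOf (c : G) = 3 ^ (k + 1) := by rw [Subgroup.orderOf_coe]; exact hk.2
    rw [orderOf_pow' _ (pow_ne_zero _ (by norm_num)), h1, Nat.gcd_eq_right (pow_dvd_pow 3 (Nat.le_succ k)),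
      Nat.pow_succ, Nat.mul_div_cancel_left _ (by positivity)]
  -- conjugate `Q` into `V`
  have hQp : IsPGroup t Q := fun x => ⟨1, by rw [pow_one]; exact Subtype.ext (hQt x x.2)⟩
  obtain ⟨P, hP⟩ := hQp.exists_le_sylow
  obtain ⟨g, hg⟩ := MulAction.exists_smul_eq G P (hBt.toSylow hBi)
  have hmem : ∀ x ∈ Q, g * x * g⁻¹ ∈ V := fun x hx => by
    refine ⟨?_, by rw [conj_pow, hQt x hx]; group⟩
    have h1 : g * x * g⁻¹ ∈ (hBt.toSylow hBi : Subgroup G) := by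
      rw [← hg]
      exact ⟨x, hP hx, rfl⟩
    exact h1
  refine hQ (g⁻¹ * (c : G) ^ 3 ^ k * g⁻¹⁻¹) ((by exact ((MulAut.conj g⁻¹).orderOf_eq _).trans hd)) fun x hx => ?_
  have h1 : Commute ((c : G) ^ 3 ^ k) (g * x * g⁻¹) := (show Commute (c : G) (g * x * g⁻¹) from hcV _ (hmem x hx)).pow_left _
  have h2 : (c : G) ^ 3 ^ k * (g * x * g⁻¹) = g * x * g⁻¹ * (c : G) ^ 3 ^ k := h1
  calc x * (g⁻¹ * (c : G) ^ 3 ^ k * g⁻¹⁻¹) = g⁻¹ * (g * x * g⁻¹ * (c : G) ^ 3 ^ k) * g := by group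
    _ = g⁻¹ * ((c : G) ^ 3 ^ k * (g * x * g⁻¹)) * g := by rw [h2]
    _ = _ := by group

end Cfsg.Agent.H893.RM.TwG
end
end

-- part: H167/RM/Row
section
set_option linter.all false
open scoped Cfsg.Agent.FastGrp

/-!
# S3849: `RowM` from `ToralB` (helper167)
-/

set_option autoImplicit false

namespace Cfsg.Agent.H167.RM

open Subgroup Cfsg Cfsg.Agent.H571.RV Cfsg.Agent.H571.RM

universe u

variable {S : Type u} [Group S] [Finite S] {π : Set ℕ} {r p : ℕ} {H A : Subgroup S}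

/-- **`RowM` from a toral `r`-subgroup controlling the groups it normalises.** -/
theorem rowM_of_toralB [IsSimpleGroup S] (hna : ∃ a b : S, a * b ≠ b * a) (h2 : 2 ∉ π) (hpπ : p ∉ π)
    (d : HA π r H A) (hrπ : r ∈ π) (h : ToralB r p S) : RowM π S := by
  obtain ⟨B, hB, hB1, hcen⟩ := h.cen
  refine rowM_of_cen hna d hrπ (MonoidHom.id S) Function.surjective_id ?_ ?_ hB ?_ ?_
  · rw [MonoidHom.ker_id]
    exact bot_le
  · rw [MonoidHom.ker_id, Subgroup.card_bot]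
    exact Nat.coprime_one_right _
  · by_contra hcon
    push Not at hcon
    exact hB1 ((eq_bot_iff_forall B).2 hcon)
  · intro A' hab hπ hr hn b hb a ha
    refine hcen A' hab (fun t ht htA => ⟨?_, ?_, ?_⟩) hn b hb a ha
    · rintro rfl
      exact h2 (hπ 2 ht htA)
    · rintro rfl
      exact hr htA
    · rintro rfl
      exact hpπ (hπ t ht htA)

end Cfsg.Agent.H167.RM
end
end
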